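import Cfsg.Agent.O8Plus.Cube
import Cfsg.Agent.LargeExtra.SimpleCriterion
import Cfsg.Agent.LargeExtra.PairRadical
import Cfsg.Agent.Geo.ExtraOut
import Cfsg.Agent.Comp.Fitting
import Cfsg.Agent.Solvable.Basics

/-!
Coordinates on an involution centraliser with extraspecial radical and three copies of the
symmetric group of degree three on top.
-/

set_option autoImplicit false
set_option linter.style.haveILetI false
set_option linter.unusedSectionVars false

namespace CfsgLib.O8Plus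

open Subgroup CfsgLib.LargeExtra CfsgLib.Extra2

universe u v

theorem H3_no_invol (h : H3) (h1 : h ≠ 1) (h2 : h * h = 1) :
    ∃ i, (h * (hd i * h * hd i * hd i)) * (h * (hd i * h * hd i * hd i)) ≠ 1 := by
  obtain ⟨i, hi⟩ : ∃ i, h i ≠ 1 := by
    by_contra hn
    push Not at hn
    exact h1 (funext hn)
  refine ⟨i, fun e => ?_⟩
  have key : ∀ g : Equiv.Perm (Fin 3), g ≠ 1 → g * g = 1 →
      (g * (Equiv.swap 0 1 * Equiv.swap 1 2 * g * (Equiv.swap 0 1 * Equiv.swap 1 2) *
        (Equiv.swap 0 1 * Equiv.swap 1 2))) * (g * (Equiv.swap 0 1 * Equiv.swap 1 2 * g *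
        (Equiv.swap 0 1 * Equiv.swap 1 2) * (Equiv.swap 0 1 * Equiv.swap 1 2))) ≠ 1 := by decide +kernel
  exact key (h i) hi (by simpa using congrFun h2 i) (by
    simpa [hd, Pi.mulSingle_eq_same] using congrFun e i)

/-- Coordinates of an involution centraliser. -/
structure Base {G : Type u} [Group G] (t : G) (V : Type v) [AddCommGroup V] where
  /-- The radical. -/
  Q : Subgroup G
  pre : Pre Q t
  card : Nat.card Q = 512
  twoQ : IsPGroup 2 Q
  /-- The image on the three factors. -/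
  ph : G → H3
  ph_mul : ∀ a b, Commute a t → Commute b t → ph (a * b) = ph a * ph b
  ph_Q : ∀ a, Commute a t → (ph a = 1 ↔ a ∈ Q)
  ph_surj : ∀ h, ∃ a, Commute a t ∧ ph a = h
  /-- The class modulo the centre. -/
  cls : G → V
  cls_mul : ∀ a ∈ Q, ∀ b ∈ Q, cls (a * b) = cls a + cls b
  cls_zero : ∀ a ∈ Q, (cls a = 0 ↔ a = 1 ∨ a = t)
  cls_surj : ∀ v, ∃ a ∈ Q, cls a = v
  two : ∀ u : V, u + u = 0
  cardV : Nat.card V = 256
  B : V → V → ZMod 2
  B_add : ∀ u u' w, B (u + u') w = B u w + B u' w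
  B_comm : ∀ u w, B u w = B w u
  nondeg : ∀ u, (∀ w, B u w = 0) → u = 0
  comm : ∀ a ∈ Q, ∀ b ∈ Q, (Commute a b ↔ B (cls a) (cls b) = 0)
  r : H3 →* AddMonoid.End V
  cls_conj : ∀ c, Commute c t → ∀ q ∈ Q, cls (c * q * c⁻¹) = r (ph c) (cls q)

theorem exists_base {G : Type u} [Group G] [Finite G] (t : G) (ht : orderOf t = 2)
    (hF : Cfsg.IsExtraspecial 2 (Cfsg.generalizedFittingSubgroup (centralizer ({t} : Set G))))
    (hFcard : Nat.card (Cfsg.generalizedFittingSubgroup (centralizer ({t} : Set G))) = 2 ^ 9)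
    (e : centralizer ({t} : Set G) ⧸ Cfsg.pCore 2 (centralizer ({t} : Set G)) ≃*
      Equiv.Perm (Fin 3) × Equiv.Perm (Fin 3) × Equiv.Perm (Fin 3)) :
    ∃ (V : Type u) (_ : AddCommGroup V), Nonempty (Base t V) := by
  classical
  haveI : Fact (Nat.Prime 2) := ⟨Nat.prime_two⟩
  set C := centralizer ({t} : Set G)
  set F := Cfsg.generalizedFittingSubgroup C
  haveI : F.Normal := inferInstance
  have hFp : F = Cfsg.pCore 2 C := le_antisymm (Solvable.le_pCore 2 inferInstance hF.1.1)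
    ((Comp.pCore_le_fitting 2).trans le_sup_right)
  set Q := F.map C.subtype with hQdef
  have hQe : Cfsg.IsExtraspecial 2 Q :=
    isExtraspecial_equiv (F.equivMapOfInjective _ C.subtype_injective) hF
  have hpre : Pre Q t := pre_of_fstar ht rfl hQe
  obtain ⟨V, iV, iM, ⟨D⟩⟩ := Geo.ExtraOut.exists_data hF
  obtain ⟨hfin, hV⟩ := D.card_V (n := 4) (by rw [hFcard])
  let e' : C ⧸ Cfsg.pCore 2 C ≃* H3 := e.trans
    { toFun := fun p => ![p.1, p.2.1, p.2.2]
      invFun := fun h => (h 0, h 1, h 2)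
      left_inv := fun p => rfl
      right_inv := fun h => funext fun i => by fin_cases i <;> rfl
      map_mul' := fun p p' => funext fun i => by fin_cases i <;> rfl }
  let φ : C →* H3 := e'.toMonoidHom.comp (QuotientGroup.mk' (Cfsg.pCore 2 C))
  have hφs : Function.Surjective φ := e'.surjective.comp (QuotientGroup.mk'_surjective _)
  have hφ : ∀ c, φ c = 1 ↔ c ∈ F := fun c => by
    rw [hFp]
    show e' (c : C ⧸ Cfsg.pCore 2 C) = 1 ↔ _
    rw [MulEquiv.map_eq_one_iff, QuotientGroup.eq_one_iff]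
  have hmem : ∀ q ∈ Q, ∃ a : F, ((a : C) : G) = q := by
    rintro _ ⟨a, ha, rfl⟩; exact ⟨⟨a, ha⟩, rfl⟩
  let cls : G → V := fun q =>
    if h : ∃ hc : q ∈ C, (⟨q, hc⟩ : C) ∈ F then D.proj ⟨⟨q, h.1⟩, h.2⟩ else 0
  have hcls : ∀ a : F, cls ((a : C) : G) = D.proj a := fun a => dif_pos ⟨(a : C).2, a.2⟩
  let ph : G → H3 := fun a => if h : a ∈ C then φ ⟨a, h⟩ else 1
  have hC : ∀ {a}, Commute a t → a ∈ C := fun h => mem_centralizer_singleton_iff.2 h
  -- the action factors through the projection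
  let α : C →* MulAut F := MulAut.conjNormal
  let lin : C →* AddMonoid.End V :=
    { toFun := fun c => (D.linOf (α c)).toAddMonoidHom
      map_one' := AddMonoidHom.ext fun v => by
        obtain ⟨a, rfl⟩ := D.proj_surj v
        show D.linOf (α 1) (D.proj a) = D.proj a
        rw [D.linOf_proj, map_one]; rfl
      map_mul' := fun c c' => AddMonoidHom.ext fun v => by
        obtain ⟨a, rfl⟩ := D.proj_surj v
        show D.linOf (α (c * c')) (D.proj a) = D.linOf (α c) (D.linOf (α c') (D.proj a))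
        rw [D.linOf_proj, D.linOf_proj, D.linOf_proj, map_mul]; rfl }
  have hk : φ.ker ≤ lin.ker := by
    intro c hc
    refine MonoidHom.mem_ker.2 (AddMonoidHom.ext fun v => ?_)
    obtain ⟨a, rfl⟩ := D.proj_surj v
    show D.linOf (α c) (D.proj a) = D.proj a
    have e : α c a = ⟨c, (hφ c).1 hc⟩ * a * (⟨c, (hφ c).1 hc⟩ : F)⁻¹ := Subtype.ext rfl
    rw [D.linOf_proj, e, D.proj_mul, D.proj_mul, D.proj_inv, add_comm, neg_add_cancel_left]
  have hcongr : ∀ c c', φ c = φ c' → lin c = lin c' := fun c c' e => by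
    have h1 : c⁻¹ * c' ∈ φ.ker := by
      rw [MonoidHom.mem_ker, map_mul, map_inv, e, inv_mul_cancel]
    rw [show c' = c * (c⁻¹ * c') by group, map_mul, MonoidHom.mem_ker.1 (hk h1), mul_one]
  let r : H3 →* AddMonoid.End V :=
    { toFun := fun h => lin (Function.surjInv hφs h)
      map_one' := (hcongr _ 1 (by rw [Function.surjInv_eq hφs, map_one])).trans (map_one lin)
      map_mul' := fun h h' => by
        rw [← map_mul]
        exact hcongr _ _ (by rw [map_mul, Function.surjInv_eq hφs, Function.surjInv_eq hφs,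
          Function.surjInv_eq hφs]) }
  have hr : ∀ c, r (φ c) = lin c := fun c => hcongr _ _ (Function.surjInv_eq hφs _)
  refine ⟨V, iV, ⟨{
    Q := Q
    pre := hpre
    card := by rw [hQdef, card_map_of_injective C.subtype_injective, hFcard]; norm_num
    twoQ := hQe.1.1
    ph := ph
    ph_mul := fun a b ha hb => by
      simp only [ph, dif_pos (hC ha), dif_pos (hC hb), dif_pos (hC (ha.mul_left hb))]
      exact map_mul φ ⟨a, hC ha⟩ ⟨b, hC hb⟩
    ph_Q := fun a ha => by
      simp only [ph, dif_pos (hC ha), hφ]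
      exact ⟨fun h => ⟨_, h, rfl⟩, fun ⟨y, hy, e⟩ => (Subtype.ext e : y = ⟨a, hC ha⟩) ▸ hy⟩
    ph_surj := fun h => by
      obtain ⟨c, rfl⟩ := hφs h
      exact ⟨c, mem_centralizer_singleton_iff.1 c.2, dif_pos c.2⟩
    cls := cls
    cls_mul := ?_
    cls_zero := ?_
    cls_surj := ?_
    two := fun u => ZModModule.add_self u
    cardV := by rw [hV]; norm_num
    B := fun u w => QuadraticMap.polar D.form u w
    B_add := fun u u' w => QuadraticMap.polar_add_left D.form u u' w
    B_comm := fun u w => QuadraticMap.polar_comm _ _ _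
    nondeg := fun u h => D.nondeg.1 u h
    comm := ?_
    r := r
    cls_conj := ?_ }⟩⟩
  · intro a ha b hb
    obtain ⟨a, rfl⟩ := hmem a ha
    obtain ⟨b, rfl⟩ := hmem b hb
    rw [show ((a : C) : G) * ((b : C) : G) = (((a * b : F) : C) : G) from rfl, hcls, hcls, hcls, D.proj_mul]
  · intro q hq
    obtain ⟨a, rfl⟩ := hmem q hq
    rw [hcls, D.proj_eq_zero]
    constructor
    · exact fun h => hpre.gen.center_iff _ hq fun y hy => by
        obtain ⟨b, rfl⟩ := hmem y hy
        exact (congrArg (fun s : F => ((s : C) : G)) (mem_center_iff.1 h b)).symm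
    · intro h
      refine mem_center_iff.2 fun b => Subtype.ext (Subtype.ext ?_)
      show ((b : C) : G) * ((a : C) : G) = ((a : C) : G) * ((b : C) : G)
      rcases h with h | h <;> rw [h]
      · rw [mul_one, one_mul]
      · exact mem_centralizer_singleton_iff.1 (b : C).2
  · intro v
    obtain ⟨a, rfl⟩ := D.proj_surj v
    exact ⟨_, mem_map_of_mem C.subtype a.2, hcls a⟩
  · intro a ha b hb
    obtain ⟨a, rfl⟩ := hmem a ha
    obtain ⟨b, rfl⟩ := hmem b hb
    show _ ↔ QuadraticMap.polar D.form _ _ = 0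
    rw [hcls, hcls, D.polar_form]
    constructor
    · intro h
      rw [commutatorElement_eq_one_iff_mul_comm.2 (Subtype.ext (Subtype.ext h.eq)), Geo.ExtraOut.bit_one]
    · intro h
      exact congrArg (fun s : F => ((s : C) : G)) (commutatorElement_eq_one_iff_mul_comm.1
        (D.bit_inj (D.comm_mem a b) (one_mem _) (h.trans Geo.ExtraOut.bit_one.symm)))
  · intro c hc q hq
    obtain ⟨a, rfl⟩ := hmem q hq
    have e2 : c * ((a : C) : G) * c⁻¹ = (((α ⟨c, hC hc⟩ a : F) : C) : G) := rfl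
    rw [e2, hcls, hcls, show ph c = φ ⟨c, hC hc⟩ from dif_pos (hC hc), hr]
    exact (D.linOf_proj _ a).symm

namespace Base

variable {G : Type u} [Group G] {t : G} {V : Type v} [AddCommGroup V] (D : Base t V)

include D

theorem t_sq : t * t = 1 := D.pre.gen.sq

theorem t_inv : t⁻¹ = t := inv_eq_of_mul_eq_one_right D.t_sq

theorem comm_t {q : G} (hq : q ∈ D.Q) : Commute q t := D.pre.gen.comm_z q hq

theorem conj_mem {c q : G} (hc : Commute c t) (hq : q ∈ D.Q) : c * q * c⁻¹ ∈ D.Q :=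
  D.pre.conj_mem hc.eq hq

theorem ph_of_mem {q : G} (hq : q ∈ D.Q) : D.ph q = 1 := (D.ph_Q q (D.comm_t hq)).2 hq

theorem ph_one : D.ph 1 = 1 := D.ph_of_mem (one_mem _)

theorem ph_inv {a : G} (ha : Commute a t) : D.ph a⁻¹ = (D.ph a)⁻¹ :=
  eq_inv_of_mul_eq_one_left (by rw [← D.ph_mul _ _ ha.inv_left ha, inv_mul_cancel, D.ph_one])

theorem ph_conj {c a : G} (hc : Commute c t) (ha : Commute a t) :
    D.ph (c * a * c⁻¹) = D.ph c * D.ph a * (D.ph c)⁻¹ := by
  rw [D.ph_mul _ _ (hc.mul_left ha) hc.inv_left, D.ph_mul _ _ hc ha, D.ph_inv hc]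

theorem eq_of_add {u w : V} (h : u + w = 0) : u = w := by
  calc u = u + (w + w) := by rw [D.two, add_zero]
    _ = w := by rw [← add_assoc, h, zero_add]

theorem cls_one : D.cls 1 = 0 := (D.cls_zero 1 (one_mem _)).2 (Or.inl rfl)

theorem cls_t : D.cls t = 0 := (D.cls_zero t D.pre.gen.mem).2 (Or.inr rfl)

theorem cls_inv {a : G} (ha : a ∈ D.Q) : D.cls a⁻¹ = D.cls a :=
  D.eq_of_add (by rw [← D.cls_mul _ (inv_mem ha) _ ha, inv_mul_cancel, D.cls_one])

theorem cls_mul_t {a : G} (ha : a ∈ D.Q) : D.cls (a * t) = D.cls a := by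
  rw [D.cls_mul _ ha _ D.pre.gen.mem, D.cls_t, add_zero]

theorem eq_or {a b : G} (ha : a ∈ D.Q) (hb : b ∈ D.Q) (h : D.cls a = D.cls b) : b = a ∨ b = a * t := by
  rcases (D.cls_zero _ (mul_mem (inv_mem ha) hb)).1
    (by rw [D.cls_mul _ (inv_mem ha) _ hb, D.cls_inv ha, h, D.two]) with e | e
  · exact Or.inl (inv_mul_eq_one.1 e).symm
  · exact Or.inr (inv_mul_eq_iff_eq_mul.1 e)

theorem r_mul (g h : H3) (u : V) : D.r (g * h) u = D.r g (D.r h u) := by rw [map_mul]; rfl

theorem r_one (u : V) : D.r 1 u = u := by rw [map_one]; rfl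

theorem B_add' (u w w' : V) : D.B u (w + w') = D.B u w + D.B u w' := by
  rw [D.B_comm, D.B_add, D.B_comm w, D.B_comm w']

theorem B_zero (u : V) : D.B u 0 = 0 := by
  have h := D.B_add' u 0 0
  rw [add_zero] at h
  exact left_eq_add.1 h

theorem B_inv (h : H3) (u w : V) : D.B (D.r h u) (D.r h w) = D.B u w := by
  obtain ⟨c, hc, rfl⟩ := D.ph_surj h
  obtain ⟨a, ha, rfl⟩ := D.cls_surj u
  obtain ⟨b, hb, rfl⟩ := D.cls_surj w
  rw [← D.cls_conj c hc a ha, ← D.cls_conj c hc b hb]
  have e : Commute (c * a * c⁻¹) (c * b * c⁻¹) ↔ Commute a b := Commute.conj_iff c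
  rw [D.comm _ ha _ hb, D.comm _ (D.conj_mem hc ha) _ (D.conj_mem hc hb)] at e
  generalize D.B (D.cls (c * a * c⁻¹)) (D.cls (c * b * c⁻¹)) = x at e ⊢
  generalize D.B (D.cls a) (D.cls b) = y at e ⊢
  revert e; revert x y; decide

theorem faithful (h : H3) (hh : ∀ u, D.r h u = u) : h = 1 := by
  by_contra h1
  -- some element acting trivially is an involution
  have key : ∀ g : H3, (∀ u, D.r g u = u) → g * g = 1 := fun g hg => by
    obtain ⟨c, hc, rfl⟩ := D.ph_surj g
    have hq : c * c ∈ centralizer (D.Q : Set G) := mem_centralizer_iff.2 fun q hq => by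
      rcases D.eq_or hq (D.conj_mem hc hq) (by rw [D.cls_conj c hc q hq, hg]) with e | e
      · exact (Commute.mul_left (mul_inv_eq_iff_eq_mul.1 e) (mul_inv_eq_iff_eq_mul.1 e)).eq.symm
      · have e' : c * c * q * (c * c)⁻¹ = q := by
          calc c * c * q * (c * c)⁻¹ = c * (c * q * c⁻¹) * c⁻¹ := by group
            _ = c * (q * t) * c⁻¹ := by rw [e]
            _ = c * q * c⁻¹ * (c * t * c⁻¹) := by group
            _ = q * (t * t) := by rw [e, hc.eq, mul_inv_cancel_right, mul_assoc]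
            _ = q := by rw [D.t_sq, mul_one]
        exact (mul_inv_eq_iff_eq_mul.1 e').symm
    rw [← D.ph_mul c c hc hc, D.ph_of_mem (D.pre.self hq)]
  obtain ⟨i, hi⟩ := H3_no_invol h h1 (key h hh)
  refine hi (key _ fun u => ?_)
  have hd3 : hd i * (hd i * hd i) = 1 := by rw [← mul_assoc, hd_cube]
  rw [r_mul, hh, show hd i * h * hd i * hd i = hd i * (h * (hd i * hd i)) by group, r_mul, r_mul, hh,
    ← r_mul, hd3, r_one]

end Base

end CfsgLib.O8Plus
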