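import Cfsg.Agent.O8Plus.Code
import Cfsg.Agent.O8Plus.ClassData
import Cfsg.Agent.O8Plus.SylowData

/-!
Boolean checks for the tables of `ClassData` and `SylowData`.
-/

set_option autoImplicit false

namespace CfsgLib.O8Plus

open CfsgLib.Coset

/-- A field of a packed table. -/
def fieldW (D w i : Nat) : Nat :=
  Nat.land (Nat.shiftRight D (Nat.mul w i)) (Nat.sub (Nat.pow 2 w) 1)

/-- The code of a member of the class. -/
def cAt (i : Nat) : Nat := fieldW classCD 64 i

/-- A transition of the class. -/
def cNext (i k : Nat) : Nat := fieldW (fieldW classTD 128 i) 12 k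

/-- The packed parent of a member. -/
def cPar (i : Nat) : Nat := Nat.shiftRight (fieldW classTD 128 i) 96

/-- The code of an element of the Sylow subgroup. -/
def uAt (i : Nat) : Nat := fieldW sylCD 64 i

/-- A transition in the Sylow subgroup. -/
def uNext (i k : Nat) : Nat := fieldW (fieldW sylTD 96 i) 12 k

/-- The packed parent of an element. -/
def uPar (i : Nat) : Nat := Nat.land (Nat.shiftRight (fieldW sylTD 96 i) 48) 65535

/-- The element at a place in the increasing order. -/
def uSort (i : Nat) : Nat := Nat.shiftRight (fieldW sylTD 96 i) 64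

/-- A packed word. -/
noncomputable def decW (x : Nat) : List Nat :=
  Nat.rec (motive := fun _ => Nat → List Nat) (fun _ => [])
    (fun _ ih x => cond (Nat.beq x 0) [] (Nat.sub (Nat.land x 15) 1 :: ih (Nat.shiftRight x 4))) 31 x

/-- The code of a generator. -/
def gAt (k : Nat) : Nat :=
  [0x8040601008060201, 0x8060201008040601, 0x8040203008040301, 0x8040301008040203,
   0x80c020100c040201, 0xc0402010080c0201, 0x8448201008040201, 0x8040201048840201].getD k oneC

/-- Two codes commute. -/
def commC (A B : Nat) : Bool := Nat.beq (mulP A B) (mulP B A)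

/-- A code conjugated by a word in involutory generators. -/
noncomputable def conjW (w : List Nat) (c : Nat) : Nat :=
  List.rec c (fun l _ ih => mulP (mulP (gAt l) ih) (gAt l)) w

/-- The class is closed under the generators and reached from the first member. -/
noncomputable def chkClass (i : Nat) : Bool :=
  cond ((List.range 8).all fun k =>
      cond (Nat.ble 1575 (cNext i k)) false (Nat.beq (mulP (mulP (gAt k) (cAt i)) (gAt k)) (cAt (cNext i k))))
    (cond (Nat.beq i 0) (Nat.beq (cAt i) (gAt 0))
      (cond (Nat.ble i (Nat.shiftRight (cPar i) 3)) false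
        (Nat.beq (cNext (Nat.shiftRight (cPar i) 3) (Nat.land (cPar i) 7)) i))) false

/-- The codes of the representatives of the classes. -/
def repC : List Nat := [0x8040601008060201, 0x8042661008060201, 0x8140601808060201, 0x8040609009060201, 0x8142249909040201]

/-- A certificate for a conjugate of a representative. -/
noncomputable def chkConj (c d : Nat) : Bool :=
  cond (Nat.ble 5 (Nat.land d 15)) false
    (Nat.beq (conjW (decW (Nat.shiftRight d 4)) (repC.getD (Nat.land d 15) oneC)) c)

/-- The products of the first member with the others. -/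
noncomputable def chkPair (i : Nat) : Bool :=
  cond (Nat.beq i 0) true
    (cond (commC (gAt 0) (cAt i))
      (cond (Nat.beq (Nat.land (fieldW pairWD 128 i) 15) 0)
        (cond (Nat.ble 1575 (Nat.shiftRight (fieldW pairWD 128 i) 4)) false
          (Nat.beq (mulP (gAt 0) (cAt i)) (cAt (Nat.shiftRight (fieldW pairWD 128 i) 4))))
        (cond (Nat.ble 4 (Nat.land (fieldW pairWD 128 i) 15)) false
          (chkConj (mulP (gAt 0) (cAt i)) (fieldW pairWD 128 i))))
      (cond (Nat.beq (fieldW pairND 16 i) 0)
        (Nat.beq (mulP (mulP (mulP (gAt 0) (cAt i)) (mulP (gAt 0) (cAt i))) (mulP (gAt 0) (cAt i))) oneC)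
        (cond (Nat.ble (fieldW pairND 16 i) 1575)
          (cond (Nat.beq (mulP (mulP (gAt 0) (cAt i)) (mulP (gAt 0) (cAt i)))
              (cAt (Nat.sub (fieldW pairND 16 i) 1)))
            (Nat.beq (mulP (cAt (Nat.sub (fieldW pairND 16 i) 1)) (cAt (Nat.sub (fieldW pairND 16 i) 1))) oneC)
            false) false)))

/-- The Sylow table is closed, reached from the identity, and without repetition. -/
noncomputable def chkSyl (i : Nat) : Bool :=
  cond ((List.range 4).all fun k =>
      cond (Nat.ble 4096 (uNext i k)) false
        (Nat.beq (mulP (uAt i) (gAt (Nat.mul 2 k))) (uAt (uNext i k))))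
    (cond (cond (Nat.beq i 0) (Nat.beq (uAt i) oneC)
        (cond (Nat.ble i (Nat.shiftRight (uPar i) 2)) false
          (Nat.beq (uNext (Nat.shiftRight (uPar i) 2) (Nat.land (uPar i) 3)) i)))
      (cond (Nat.ble 4096 (uSort i)) false
        (cond (Nat.beq i 4095) true (Nat.ble (Nat.succ (uAt (uSort i))) (uAt (uSort (Nat.succ i)))))) false) false

/-- The classes of the involutions of the Sylow subgroup. -/
noncomputable def chkInv (i : Nat) : Bool :=
  cond (Nat.beq (mulP (uAt i) (uAt i)) oneC)
    (cond (Nat.beq (uAt i) oneC) true (chkConj (uAt i) (fieldW sylWD 128 i))) true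

/-- A code is no member of the class. -/
noncomputable def chkNot (c : Nat) : Bool := allBelow 11 1575 fun k => cond (Nat.beq c (cAt k)) false true

/-- The members commuting with the second representative and a chosen member `l`. -/
noncomputable def chkSafe (D l : Nat) (Y : List Nat) (i : Nat) : Bool :=
  cond (cond (commC (repC.getD 1 oneC) (cAt i)) (commC l (cAt i)) false)
    (cond (Nat.beq (Nat.land (fieldW D 16 i) 3) 0) (chkNot (mulP (repC.getD 1 oneC) (cAt i)))
      (cond (Nat.beq (Nat.land (fieldW D 16 i) 3) 1)
        (cond (Nat.ble 1575 (Nat.shiftRight (fieldW D 16 i) 2)) false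
          (Nat.beq (mulP l (cAt i)) (cAt (Nat.shiftRight (fieldW D 16 i) 2))))
        (Y.contains (mulP l (cAt i))))) true

/-- The squares of the products from the two lists. -/
noncomputable def chkSquares : Bool :=
  (List.range 64).all fun k =>
    cond (Nat.ble 1575 (safeZ.getD k 0)) false
      (Nat.beq (mulP (mulP (safeY1.getD (k / 8) 0) (safeY2.getD (k % 8) 0))
        (mulP (safeY1.getD (k / 8) 0) (safeY2.getD (k % 8) 0))) (cAt (safeZ.getD k 0)))

end CfsgLib.O8Plus
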