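import Cfsg.Agent.O8Plus.Model

/-!
The five representatives of the classes of involutions of `Ω₈⁺(2)` as words in the root elements.
-/

set_option autoImplicit false

namespace CfsgLib.O8Plus

open CfsgLib.Coset

/-- A simple reflection among the outer three nodes, as a word. -/
def swW (i : Fin 3) : List Nat := [2+2*i.1, 3+2*i.1, 2+2*i.1]

/-- The middle root element moved by some of these. -/
def cjW (l : List (Fin 3)) : List Nat :=
  let s := l.flatMap swW
  s ++ [0] ++ s.reverse

/-- Representative of the second class. -/
def wB1 : List Nat := [0] ++ cjW [1, 2]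

/-- Representative of the third class. -/
def wB2 : List Nat := [0] ++ cjW [0, 2]

/-- Representative of the fourth class. -/
def wB3 : List Nat := [0] ++ cjW [0, 1]

/-- Representative of the fifth class. -/
def wE : List Nat := cjW [1, 2] ++ cjW [0, 2] ++ cjW [0, 1]

/-- The element of a word. -/
noncomputable def el (w : List Nat) : Om := ev (List.ofFn N) w

/-- The class of the root elements. -/
def Mem (m : Om) : Prop := IsConj (N 0) m

/-- The three classes permuted by triality. -/
def BType (m : Om) : Prop := IsConj (el wB1) m ∨ IsConj (el wB2) m ∨ IsConj (el wB3) m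

theorem encO_el (w : List Nat) : encO (el w) = codeW w := encO_ev w

theorem Mem.conj {m : Om} (h : Mem m) (x : Om) : Mem (x * m * x⁻¹) :=
  IsConj.trans h (isConj_iff.2 ⟨x, rfl⟩)

theorem BType.conj {m : Om} (h : BType m) (x : Om) : BType (x * m * x⁻¹) :=
  h.imp (fun e => IsConj.trans e (isConj_iff.2 ⟨x, rfl⟩))
    (Or.imp (fun e => IsConj.trans e (isConj_iff.2 ⟨x, rfl⟩)) fun e => IsConj.trans e (isConj_iff.2 ⟨x, rfl⟩))

theorem fl_N_sq (l : Nat) : fl (List.ofFn N) l * fl (List.ofFn N) l = 1 := by
  by_cases h : l < 8
  · rw [fl, List.getD_eq_getElem _ _ (by simpa using h), List.getElem_ofFn]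
    exact N_sq _
  · rw [fl_of_le _ (by simpa using Nat.le_of_not_lt h), one_mul]

theorem el_append (v w : List Nat) : el (v ++ w) = el v * el w := ev_append _ _ _

theorem el_rev (w : List Nat) : el w.reverse = (el w)⁻¹ := by
  induction w with
  | nil => simp [el]
  | cons l w ih =>
    have e : el [l] = (fl (List.ofFn N) l)⁻¹ := by
      rw [inv_eq_of_mul_eq_one_right (fl_N_sq l)]
      exact List.prod_singleton
    rw [List.reverse_cons, el_append, ih, e, ← _root_.mul_inv_rev]
    exact congrArg _ (ev_cons _ _ _).symm

/-- Membership in the first class is shown by a word and a code. -/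
theorem mem_of_code (g : List Nat) {m : Om}
    (h : encO m = codeW (g ++ [0] ++ g.reverse)) : Mem m := by
  rw [← encO_el] at h
  rw [encO_inj h, el_append, el_append, el_rev]
  exact Mem.conj (show Mem (el [0]) from by
    rw [show el [0] = N 0 from List.prod_singleton]; exact IsConj.refl _) _

end CfsgLib.O8Plus
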