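import Cfsg.Agent.O8Plus.Checks
import Cfsg.Agent.O8Plus.Words

/-!
The class of root elements of `Ω₈⁺(2)` is the table of 1575 codes; products of two of them.
-/

set_option autoImplicit false
set_option maxRecDepth 100000

namespace CfsgLib.O8Plus

open CfsgLib.Coset

theorem gAt_eq (k : Nat) : gAt k = genC.getD k oneC := rfl

theorem encO_fl (l : Nat) : encO (fl (List.ofFn N) l) = gAt l := by
  rw [encO, fl_N_coe, fl_genG, gAt_eq]

theorem encO_mk (i : Fin 8) : encO (N i) = gAt i := encO_N i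

theorem inv_fl_N (l : Nat) : (fl (List.ofFn N) l)⁻¹ = fl (List.ofFn N) l :=
  inv_eq_of_mul_eq_one_right (fl_N_sq l)

theorem el_nil : el [] = 1 := rfl

theorem el_cons (l : Nat) (w : List Nat) : el (l :: w) = fl (List.ofFn N) l * el w := ev_cons _ _ _

theorem encO_conj (w : List Nat) (m : Om) : encO (el w * m * (el w)⁻¹) = conjW w (encO m) := by
  induction w with
  | nil => simp only [el_nil, one_mul, inv_one, mul_one]; rfl
  | cons l w ih =>
    have e : el (l :: w) * m * (el (l :: w))⁻¹ =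
        fl (List.ofFn N) l * (el w * m * (el w)⁻¹) * fl (List.ofFn N) l := by
      rw [el_cons, _root_.mul_inv_rev, inv_fl_N]; simp only [mul_assoc]
    rw [e, encO_mul, encO_mul, encO_fl, ih]
    rfl

/-- The words of the representatives. -/
def repW : List (List Nat) := [[0], wB1, wB2, wB3, wE]

theorem repC_eq : ∀ k : Fin 5, repC.getD k oneC = codeW (repW.getD k []) := by decide +kernel

theorem isConj_of_chk {m : Om} {c d : Nat} (hc : encO m = c) (h : chkConj c d = true) :
    ∃ k : Fin 5, k.1 = Nat.land d 15 ∧ IsConj (el (repW.getD k [])) m := by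
  rw [chkConj] at h
  have h5 : Nat.land d 15 < 5 := by
    by_contra hn
    rw [Nat.ble_eq.mpr (Nat.le_of_not_lt hn)] at h
    exact Bool.noConfusion h
  rw [show Nat.ble 5 (Nat.land d 15) = false by
    rw [← Bool.not_eq_true, Nat.ble_eq]; omega] at h
  refine ⟨⟨_, h5⟩, rfl, isConj_iff.2 ⟨el (decW (Nat.shiftRight d 4)), encO_inj ?_⟩⟩
  rw [encO_conj, hc, encO_el, ← repC_eq]
  exact Nat.eq_of_beq_eq_true h

theorem cond_false_true {b c : Bool} : cond b c false = true ↔ b = true ∧ c = true := cond_false_eq_true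

theorem cond_range {n i : Nat} {b : Bool} (h : cond (Nat.ble n i) false b = true) : i < n ∧ b = true := by
  cases hb : Nat.ble n i with
  | true => rw [hb] at h; exact Bool.noConfusion h
  | false =>
    rw [hb] at h
    exact ⟨Nat.lt_of_not_le fun hle => by rw [Nat.ble_eq.mpr hle] at hb; exact Bool.noConfusion hb, h⟩

theorem class_all : allBelow 11 1575 chkClass = true := by decide +kernel

theorem class_step {i k : Nat} (hi : i < 1575) (hk : k < 8) :
    cNext i k < 1575 ∧ mulP (mulP (gAt k) (cAt i)) (gAt k) = cAt (cNext i k) := by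
  have h := (cond_false_true.1 (of_allBelow class_all i hi)).1
  obtain ⟨h1, h2⟩ := cond_range (List.all_eq_true.1 h k (List.mem_range.2 hk))
  exact ⟨h1, Nat.eq_of_beq_eq_true h2⟩

/-- Being in the table. -/
def InT (m : Om) : Prop := ∃ i, i < 1575 ∧ encO m = cAt i

theorem InT.gen {m : Om} (h : InT m) (k : Fin 8) : InT (N k * m * (N k)⁻¹) := by
  obtain ⟨i, hi, e⟩ := h
  obtain ⟨h1, h2⟩ := class_step hi k.2
  refine ⟨_, h1, ?_⟩
  rw [inv_eq_of_mul_eq_one_right (N_sq k), encO_mul, encO_mul, encO_mk, e, h2]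

theorem InT.conj {m : Om} (h : InT m) (x : Om) : InT (x * m * x⁻¹) := by
  have key : ∀ x ∈ Subgroup.closure (Set.range N),
      (∀ y, InT y → InT (x * y * x⁻¹)) ∧ (∀ y, InT y → InT (x⁻¹ * y * x)) := by
    intro x hx
    induction hx using Subgroup.closure_induction with
    | mem z hz =>
      obtain ⟨k, rfl⟩ := hz
      refine ⟨fun y hy => hy.gen k, fun y hy => ?_⟩
      have := hy.gen k
      rwa [inv_eq_of_mul_eq_one_right (N_sq k)] at this ⊢
    | one => simp
    | mul a b _ _ ha hb =>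
      refine ⟨fun y hy => ?_, fun y hy => ?_⟩
      · have e : a * b * y * (a * b)⁻¹ = a * (b * y * b⁻¹) * a⁻¹ := by group
        rw [e]; exact ha.1 _ (hb.1 _ hy)
      · have e : (a * b)⁻¹ * y * (a * b) = b⁻¹ * (a⁻¹ * y * a) * b := by group
        rw [e]; exact hb.2 _ (ha.2 _ hy)
    | inv a _ ha => exact ⟨fun y hy => by simpa using ha.2 y hy, fun y hy => by simpa using ha.1 y hy⟩
  exact (key x (by rw [closure_N]; exact Subgroup.mem_top x)).1 m h

theorem cAt_zero : cAt 0 = gAt 0 := by decide +kernel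

theorem exists_mem_cAt : ∀ i, i < 1575 → ∃ m : Om, Mem m ∧ encO m = cAt i := by
  intro i
  induction i using Nat.strongRecOn with
  | _ i ih =>
    intro hi
    by_cases h0 : i = 0
    · subst h0
      exact ⟨N 0, IsConj.refl _, (encO_mk 0).trans cAt_zero.symm⟩
    have h := (cond_false_true.1 (of_allBelow class_all i hi)).2
    rw [show Nat.beq i 0 = false from Bool.eq_false_iff.2 fun e => h0 (Nat.eq_of_beq_eq_true e)] at h
    obtain ⟨hp, hn⟩ := cond_range h
    have hn' := Nat.eq_of_beq_eq_true hn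
    have hk : Nat.land (cPar i) 7 < 8 := Nat.lt_succ_of_le Nat.and_le_right
    obtain ⟨m, hm, he⟩ := ih _ hp (lt_trans hp hi)
    refine ⟨N ⟨_, hk⟩ * m * (N ⟨_, hk⟩)⁻¹, hm.conj _, ?_⟩
    rw [inv_eq_of_mul_eq_one_right (N_sq _), encO_mul, encO_mul, encO_mk, he,
      (class_step (lt_trans hp hi) hk).2, hn']

theorem mem_iff {m : Om} : Mem m ↔ InT m := by
  constructor
  · intro h
    obtain ⟨x, rfl⟩ := isConj_iff.1 h
    exact InT.conj ⟨0, by norm_num, (encO_mk 0).trans cAt_zero.symm⟩ x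
  · rintro ⟨i, hi, e⟩
    obtain ⟨k, hk, he⟩ := exists_mem_cAt i hi
    rwa [encO_inj (e.trans he.symm)]

theorem not_mem_of_chk {m : Om} {c : Nat} (hc : encO m = c) (h : chkNot c = true) : ¬ Mem m := fun hm => by
  obtain ⟨i, hi, e⟩ := mem_iff.1 hm
  have := of_allBelow h i hi
  rw [show Nat.beq c (cAt i) = true from by rw [← hc, e]; exact Nat.beq_refl _] at this
  exact Bool.noConfusion this

theorem not_mem_B1 : ¬ Mem (el wB1) :=
  not_mem_of_chk ((encO_el _).trans (repC_eq 1).symm) (by decide +kernel)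

theorem commute_iff {m k : Om} : Commute m k ↔ commC (encO m) (encO k) = true := by
  constructor
  · intro h
    rw [commC, ← encO_mul, ← encO_mul, h.eq]
    exact Nat.beq_refl _
  · intro h
    exact encO_inj (by rw [encO_mul, encO_mul]; exact Nat.eq_of_beq_eq_true h)

theorem pair_all : allBelow 11 1575 chkPair = true := by decide +kernel

theorem pair_comm_one {m : Om} (hm : Mem m) (hne : N 0 ≠ m) (hc : Commute (N 0) m) :
    Mem (N 0 * m) ∨ BType (N 0 * m) := by
  obtain ⟨i, hi, e⟩ := mem_iff.1 hm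
  have h := of_allBelow pair_all i hi
  rw [chkPair, show Nat.beq i 0 = false from Bool.eq_false_iff.2 fun e0 => hne (encO_inj (by
    rw [e, Nat.eq_of_beq_eq_true e0]; exact (encO_mk 0).trans cAt_zero.symm))] at h
  have hcc := commute_iff.1 hc
  rw [encO_mk, e] at hcc
  rw [show commC (gAt 0) (cAt i) = true from hcc] at h
  have hp : encO (N 0 * m) = mulP (gAt 0) (cAt i) := by rw [encO_mul, encO_mk, e]; rfl
  simp only [cond_true, cond_false] at h
  cases hb : Nat.beq (Nat.land (fieldW pairWD 128 i) 15) 0 with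
  | true =>
    rw [hb] at h
    obtain ⟨hj, hv⟩ := cond_range h
    exact Or.inl (mem_iff.2 ⟨_, hj, hp.trans (Nat.eq_of_beq_eq_true hv)⟩)
  | false =>
    rw [hb] at h
    obtain ⟨h4, hv⟩ := cond_range h
    obtain ⟨⟨k, hk⟩, hkd, hconj⟩ := isConj_of_chk hp hv
    simp only at hkd
    refine Or.inr ?_
    have h0 : k ≠ 0 := fun e0 => by
      rw [← hkd, e0] at hb
      exact Bool.noConfusion hb
    interval_cases k <;> [exact absurd rfl h0; exact Or.inl hconj; exact Or.inr (Or.inl hconj);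
      exact Or.inr (Or.inr hconj); omega]

theorem pair_noncomm_one {m : Om} (hm : Mem m) (h2 : ∃ k, (N 0 * m) ^ (2 ^ k) = 1) (hc : ¬ Commute (N 0) m) :
    Mem ((N 0 * m) ^ 2) ∧ (N 0 * m) ^ 4 = 1 := by
  obtain ⟨i, hi, e⟩ := mem_iff.1 hm
  have h := of_allBelow pair_all i hi
  rw [chkPair, show Nat.beq i 0 = false from Bool.eq_false_iff.2 fun e0 => hc (by
    rw [show m = N 0 from encO_inj (by rw [e, Nat.eq_of_beq_eq_true e0]; exact cAt_zero.trans (encO_mk 0).symm)])] at h
  have hcc : commC (gAt 0) (cAt i) = false := Bool.eq_false_iff.2 fun hh => hc (commute_iff.2 (by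
    rw [encO_mk, e]; exact hh))
  rw [hcc] at h
  simp only [cond_true, cond_false] at h
  have hp : encO (N 0 * m) = mulP (gAt 0) (cAt i) := by rw [encO_mul, encO_mk, e]; rfl
  cases hb : Nat.beq (fieldW pairND 16 i) 0 with
  | true =>
    rw [hb] at h
    have h3 : (N 0 * m) ^ 3 = 1 := encO_inj (by
      rw [pow_succ, pow_two, encO_mul, encO_mul, hp, encO_one]; exact Nat.eq_of_beq_eq_true h)
    obtain ⟨k, hk⟩ := h2
    have h1 : N 0 * m = 1 := by
      have hg : (N 0 * m) ^ Nat.gcd 3 (2 ^ k) = 1 := pow_gcd_eq_one.2 ⟨h3, hk⟩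
      rwa [show Nat.gcd 3 (2 ^ k) = 1 from Nat.Coprime.pow_right k (by decide), pow_one] at hg
    exact absurd (show Commute (N 0) m by
      rw [eq_inv_of_mul_eq_one_right h1]; exact (Commute.refl _).inv_right) hc
  | false =>
    rw [hb] at h
    obtain ⟨hj, hv⟩ := cond_false_true.1 h
    obtain ⟨hv1, hv2⟩ := cond_false_true.1 hv
    have hsq : encO ((N 0 * m) ^ 2) = cAt (Nat.sub (fieldW pairND 16 i) 1) := by
      rw [pow_two, encO_mul, hp]; exact Nat.eq_of_beq_eq_true hv1
    refine ⟨mem_iff.2 ⟨_, ?_, hsq⟩, encO_inj ?_⟩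
    · have h0 : fieldW pairND 16 i ≠ 0 := fun e0 => by rw [e0] at hb; exact Bool.noConfusion hb
      have := Nat.ble_eq.mp hj
      show fieldW pairND 16 i - 1 < 1575
      omega
    · rw [show (N 0 * m) ^ 4 = (N 0 * m) ^ 2 * (N 0 * m) ^ 2 by rw [← pow_add], encO_mul, hsq, encO_one]
      exact Nat.eq_of_beq_eq_true hv2

theorem pair_noncomm (l m : Om) (hl : Mem l) (hm : Mem m) (h2 : ∃ k, (l * m) ^ (2 ^ k) = 1)
    (hc : ¬ Commute l m) : Mem ((l * m) ^ 2) ∧ (l * m) ^ 4 = 1 := by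
  obtain ⟨x, rfl⟩ := isConj_iff.1 hl
  obtain ⟨n, rfl⟩ : ∃ n, x * n * x⁻¹ = m := ⟨x⁻¹ * m * x, by group⟩
  have hn : Mem n := by simpa [mul_assoc] using hm.conj x⁻¹
  have e : x * N 0 * x⁻¹ * (x * n * x⁻¹) = x * (N 0 * n) * x⁻¹ := by group
  simp only [e, conj_pow] at h2 ⊢
  obtain ⟨k, hk⟩ := h2
  have h := pair_noncomm_one hn ⟨k, conj_eq_one_iff.1 hk⟩ fun h => hc (by
    rw [Commute, SemiconjBy, e]
    rw [show x * n * x⁻¹ * (x * N 0 * x⁻¹) = x * (n * N 0) * x⁻¹ by group, h.eq])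
  exact ⟨h.1.conj x, by rw [h.2]; group⟩

theorem pair_comm (l m : Om) (hl : Mem l) (hm : Mem m) (hne : l ≠ m) (hc : Commute l m) :
    Mem (l * m) ∨ BType (l * m) := by
  obtain ⟨x, rfl⟩ := isConj_iff.1 hl
  obtain ⟨n, rfl⟩ : ∃ n, x * n * x⁻¹ = m := ⟨x⁻¹ * m * x, by group⟩
  have hn : Mem n := by simpa [mul_assoc] using hm.conj x⁻¹
  have e : x * N 0 * x⁻¹ * (x * n * x⁻¹) = x * (N 0 * n) * x⁻¹ := by group
  rw [e]
  refine (pair_comm_one hn (fun h => hne (by rw [h])) ?_).imp (fun h => h.conj x) fun h => h.conj x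
  have := hc.eq
  rw [e, show x * n * x⁻¹ * (x * N 0 * x⁻¹) = x * (n * N 0) * x⁻¹ by group] at this
  exact mul_left_cancel (mul_right_cancel this)

end CfsgLib.O8Plus
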