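import Cfsg.Agent.O8Plus.Class
import Mathlib.GroupTheory.Sylow

/-!
The involutions of `Ω₈⁺(2)` fall into five classes.
-/

set_option autoImplicit false
set_option maxRecDepth 100000

namespace CfsgLib.O8Plus

open CfsgLib.Coset Pointwise

theorem syl_all : allBelow 12 4096 chkSyl = true := by decide +kernel

theorem inv_all : allBelow 12 4096 chkInv = true := by decide +kernel

theorem syl_step {i k : Nat} (hi : i < 4096) (hk : k < 4) :
    uNext i k < 4096 ∧ mulP (uAt i) (gAt (2 * k)) = uAt (uNext i k) := by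
  have h := (cond_false_true.1 (of_allBelow syl_all i hi)).1
  obtain ⟨h1, h2⟩ := cond_range (List.all_eq_true.1 h k (List.mem_range.2 hk))
  exact ⟨h1, Nat.eq_of_beq_eq_true h2⟩

theorem uAt_zero : uAt 0 = oneC := by decide +kernel

/-- The generators of the Sylow subgroup. -/
noncomputable def sylGen (k : Fin 4) : Om := N ⟨2 * k.1, by omega⟩

theorem encO_sylGen (k : Fin 4) : encO (sylGen k) = gAt (2 * k.1) := encO_mk _

/-- A Sylow 2-subgroup. -/
noncomputable def sylU : Subgroup Om := Subgroup.closure (Set.range sylGen)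

theorem sylU_table {x : Om} (hx : x ∈ sylU) : ∃ i, i < 4096 ∧ encO x = uAt i := by
  have key : (∀ i, i < 4096 → ∀ y, encO y = uAt i → ∃ j, j < 4096 ∧ encO (y * x) = uAt j) ∧
      (∀ i, i < 4096 → ∀ y, encO y = uAt i → ∃ j, j < 4096 ∧ encO (y * x⁻¹) = uAt j) := by
    induction hx using Subgroup.closure_induction with
    | mem z hz =>
      obtain ⟨k, rfl⟩ := hz
      have hs : (sylGen k)⁻¹ = sylGen k := inv_eq_of_mul_eq_one_right (N_sq _)
      rw [hs]
      have h : ∀ i, i < 4096 → ∀ y, encO y = uAt i → ∃ j, j < 4096 ∧ encO (y * sylGen k) = uAt j :=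
        fun i hi y hy => ⟨_, (syl_step hi k.2).1, by
          rw [encO_mul, hy, encO_sylGen, (syl_step hi k.2).2]⟩
      exact ⟨h, h⟩
    | one => exact ⟨fun i hi y hy => ⟨i, hi, by rwa [mul_one]⟩,
        fun i hi y hy => ⟨i, hi, by rwa [inv_one, mul_one]⟩⟩
    | mul a b _ _ ha hb =>
      refine ⟨fun i hi y hy => ?_, fun i hi y hy => ?_⟩
      · obtain ⟨j, hj, e⟩ := ha.1 i hi y hy
        rw [← mul_assoc]; exact hb.1 j hj _ e
      · obtain ⟨j, hj, e⟩ := hb.2 i hi y hy
        rw [_root_.mul_inv_rev, ← mul_assoc]; exact ha.2 j hj _ e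
    | inv a _ ha => exact ⟨ha.2, by simpa using ha.1⟩
  simpa using key.1 0 (by norm_num) 1 (encO_one.trans uAt_zero.symm)

theorem exists_mem_uAt : ∀ i, i < 4096 → ∃ x ∈ sylU, encO x = uAt i := by
  intro i
  induction i using Nat.strongRecOn with
  | _ i ih =>
    intro hi
    by_cases h0 : i = 0
    · subst h0
      exact ⟨1, one_mem _, encO_one.trans uAt_zero.symm⟩
    have h := (cond_false_true.1 (cond_false_true.1 (of_allBelow syl_all i hi)).2).1
    rw [show Nat.beq i 0 = false from Bool.eq_false_iff.2 fun e => h0 (Nat.eq_of_beq_eq_true e)] at h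
    obtain ⟨hp, hn⟩ := cond_range h
    have hn' := Nat.eq_of_beq_eq_true hn
    have hk : Nat.land (uPar i) 3 < 4 := Nat.lt_succ_of_le Nat.and_le_right
    obtain ⟨x, hx, he⟩ := ih _ hp (lt_trans hp hi)
    exact ⟨x * sylGen ⟨_, hk⟩, mul_mem hx (Subgroup.subset_closure ⟨_, rfl⟩), by
      rw [encO_mul, he, encO_sylGen, (syl_step (lt_trans hp hi) hk).2, hn']⟩

theorem card_sylU : Nat.card sylU = 4096 := by
  apply le_antisymm
  · choose f hf hg using fun x : sylU => sylU_table x.2
    refine (Nat.card_le_card_of_injective (fun x => (⟨f x, hf x⟩ : Fin 4096)) fun x y h => ?_).trans (by simp)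
    exact Subtype.ext (encO_inj (by rw [hg x, hg y, show f x = f y from congrArg Fin.val h]))
  · have hsort : ∀ i, i < 4096 → uSort i < 4096 ∧ (i + 1 < 4096 → uAt (uSort i) < uAt (uSort (i + 1))) := by
      intro i hi
      obtain ⟨h1, h2⟩ := cond_range (cond_false_true.1 (cond_false_true.1 (of_allBelow syl_all i hi)).2).2
      refine ⟨h1, fun hlt => ?_⟩
      rw [show Nat.beq i 4095 = false from Bool.eq_false_iff.2 fun e => by
        have := Nat.eq_of_beq_eq_true e; omega] at h2
      exact Nat.ble_eq.mp h2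
    choose f hf hg using fun i : Fin 4096 => exists_mem_uAt _ (hsort i.1 i.2).1
    have hmono : StrictMono fun i : Fin 4096 => uAt (uSort i.1) :=
      Fin.strictMono_iff_lt_succ.2 fun i => (hsort i.1 (by omega)).2 (by omega)
    refine le_trans (by simp) (Nat.card_le_card_of_injective (fun i => (⟨f i, hf i⟩ : sylU)) fun i j h => ?_)
    refine hmono.injective ?_
    show uAt (uSort i.1) = uAt (uSort j.1)
    rw [← hg i, ← hg j, show f i = f j from congrArg Subtype.val h]

theorem invol_class (i : Om) (h : orderOf i = 2) : Mem i ∨ BType i ∨ IsConj (el wE) i := by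
  haveI : Fact (Nat.Prime 2) := ⟨Nat.prime_two⟩
  have hU : IsPGroup 2 sylU := IsPGroup.of_card (n := 12) (by rw [card_sylU]; norm_num)
  obtain ⟨P, hP⟩ := hU.exists_le_sylow
  have hPU : sylU = (P : Subgroup Om) := by
    refine Subgroup.eq_of_le_of_card_ge hP ?_
    obtain ⟨n, hn⟩ := IsPGroup.iff_card.1 P.2
    have hd : 2 ^ n ∣ 174182400 := by
      rw [← hn, ← card_Om]; exact Subgroup.card_subgroup_dvd_card _
    have hn12 : n ≤ 12 := by
      by_contra hc
      have := (pow_dvd_pow 2 (Nat.lt_of_not_le hc)).trans hd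
      norm_num at this
    rw [card_sylU, hn]
    exact Nat.pow_le_pow_right (by norm_num) hn12
  have hz : IsPGroup 2 (Subgroup.zpowers i) := IsPGroup.of_card (n := 1) (by rw [Nat.card_zpowers, h, pow_one])
  obtain ⟨Q, hQ⟩ := hz.exists_le_sylow
  obtain ⟨g, hg⟩ := MulAction.exists_smul_eq Om Q P
  have hmem : g * i * g⁻¹ ∈ sylU := by
    have he : (P : Subgroup Om) = MulAut.conj g • (Q : Subgroup Om) := by rw [← hg]; rfl
    rw [hPU, he]
    have := Subgroup.smul_mem_pointwise_smul i (MulAut.conj g) (Q : Subgroup Om) (hQ (Subgroup.mem_zpowers i))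
    simpa using this
  obtain ⟨k, hk, hc⟩ := sylU_table hmem
  have hchk := of_allBelow inv_all k hk
  have h2 : i * i = 1 := by
    have := pow_orderOf_eq_one i
    rwa [h, pow_two] at this
  have hsq : Nat.beq (mulP (uAt k) (uAt k)) oneC = true := by
    rw [← hc, ← encO_mul, show g * i * g⁻¹ * (g * i * g⁻¹) = g * (i * i) * g⁻¹ by group, h2,
      mul_one, mul_inv_cancel, encO_one]
    exact Nat.beq_refl _
  rw [chkInv, hsq] at hchk
  have hne : Nat.beq (uAt k) oneC = false := Bool.eq_false_iff.2 fun e => by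
    have : g * i * g⁻¹ = 1 := encO_inj (by rw [hc, Nat.eq_of_beq_eq_true e, encO_one])
    rw [conj_eq_one_iff.1 this, orderOf_one] at h
    exact absurd h (by norm_num)
  rw [hne] at hchk
  obtain ⟨⟨j, hj⟩, -, hconj⟩ := isConj_of_chk hc hchk
  have hi : IsConj (el (repW.getD j [])) i := hconj.trans (IsConj.symm (isConj_iff.2 ⟨g, rfl⟩))
  interval_cases j
  · refine Or.inl ?_
    rw [Mem, show N 0 = el [0] from (List.prod_singleton).symm]
    exact hi
  · exact Or.inr (Or.inl (Or.inl hi))
  · exact Or.inr (Or.inl (Or.inr (Or.inl hi)))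
  · exact Or.inr (Or.inl (Or.inr (Or.inr hi)))
  · exact Or.inr (Or.inr hi)

end CfsgLib.O8Plus
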