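import Cfsg.Agent.O8Plus.Safe
import Cfsg.Agent.O8Plus.Sylow

/-!
The checked facts on `Ω₈⁺(2)`: `invol_class`, `not_mem_B1`, `pair_noncomm`, `pair_comm`, `safe_B1`, `E_pair`.
-/
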