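import Cfsg.Agent.O8Plus.Embed
import Cfsg.Agent.O8Plus.Facts

/-!
An orthogonal subgroup containing the centraliser of a fused involution is the whole group.
-/

set_option autoImplicit false
set_option linter.style.haveILetI false
set_option linter.unusedSectionVars false

namespace CfsgLib.O8Plus

open Subgroup CfsgLib.Coset

universe u

theorem el_nil_zero : el [0] = N 0 := List.prod_singleton

theorem el_B1_sq : el wB1 * el wB1 = 1 :=
  encO_inj (by
    rw [encO_mul, encO_el, encO_one]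
    decide +kernel)

theorem el_B1_ne : el wB1 ≠ 1 := fun h => by
  have h2 := congrArg encO h
  rw [encO_el, encO_one] at h2
  revert h2
  decide +kernel

/-- The data used by the closing argument. -/
structure Core {G : Type u} [Group G] (t : G) where
  f : Om →* G
  inj : Function.Injective f
  le : ∀ c, Commute c t → c ∈ f.range
  mem_iff : ∀ y, Mem y ↔ IsConj t (f y)
  two : ∀ {P : Subgroup G}, IsPGroup 2 P → ∃ g, ∀ p ∈ P, Commute p (g * t * g⁻¹)

theorem Emb.core {G : Type u} [Group G] [Finite G] {t : G} (E : Emb t) (ht : orderOf t = 2)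
    (hQ2 : IsPGroup 2 E.Q) (hcQ : ∀ z, (∀ q ∈ E.Q, Commute z q) → z = 1 ∨ z = t) :
    ∃ C : Core t, C.f = E.f := by
  haveI : Fact (Nat.Prime 2) := ⟨Nat.prime_two⟩
  refine ⟨⟨E.f, E.inj, E.le, fun y => ⟨fun h => ?_, fun h => ?_⟩, fun {P} hP => ?_⟩, rfl⟩
  · obtain ⟨k, hk⟩ := E.t_conj
    have h1 : Mem (k * N 0 * k⁻¹) := Mem.conj (IsConj.refl _) k
    have h2 := E.f.map_isConj (h1.symm.trans h)
    rwa [hk] at h2
  · have hy : orderOf y = 2 := by
      obtain ⟨g, hg⟩ := isConj_iff.1 h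
      rw [← orderOf_injective E.f E.inj, ← hg, ← ht]
      exact (MulAut.conj g).orderOf_eq t
    have key : ∀ {r}, IsConj r y → E.f r ∈ E.Q → Mem y := fun {r} hr hq =>
      IsConj.trans (E.member r hq (h.trans (E.f.map_isConj hr).symm)) hr
    rcases invol_class y hy with m | (b | b | b) | e
    exacts [m, key b E.reps.1, key b E.reps.2.1, key b E.reps.2.2.1, key e E.reps.2.2.2]
  · obtain ⟨S0, hS0⟩ := hQ2.exists_le_sylow
    have hnt : Nontrivial (S0 : Subgroup G) := by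
      rw [Subgroup.nontrivial_iff_ne_bot]
      intro e
      have hb : E.Q = ⊥ := le_bot_iff.1 (e ▸ hS0)
      have h1 := E.reps.1
      rw [hb, Subgroup.mem_bot, ← map_one E.f] at h1
      exact el_B1_ne (E.inj h1)
    haveI := S0.isPGroup'.center_nontrivial
    obtain ⟨⟨z, hz⟩, hz1⟩ := exists_ne (1 : Subgroup.center (S0 : Subgroup G))
    have hzt : (z : G) = t := (hcQ z fun q hq => congrArg Subtype.val
      ((Subgroup.mem_center_iff.1 hz ⟨q, hS0 hq⟩).symm)).resolve_left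
        fun e => hz1 (Subtype.ext (Subtype.ext e))
    obtain ⟨S, hS⟩ := hP.exists_le_sylow
    obtain ⟨g, rfl⟩ := MulAction.exists_smul_eq G S0 S
    refine ⟨g, fun p hp => ?_⟩
    obtain ⟨s, hs, rfl⟩ := hS hp
    rw [← hzt]
    exact (show Commute s (z : G) from congrArg Subtype.val (Subgroup.mem_center_iff.1 hz ⟨s, hs⟩)).map
      (MulAut.conj g).toMonoidHom

attribute [local irreducible] el

namespace Core

variable {G : Type u} [Group G] [Finite G] {t : G} (C : Core t)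

include C

theorem sq_of_mem {l : Om} (h : Mem l) : l * l = 1 := by
  obtain ⟨k, hk⟩ := isConj_iff.1 h
  rw [← hk]
  calc k * N 0 * k⁻¹ * (k * N 0 * k⁻¹) = k * (N 0 * N 0) * k⁻¹ := by group
    _ = 1 := by rw [N_sq, mul_one, mul_inv_cancel]

theorem stab {g : G} (h : g * t * g⁻¹ ∈ C.f.range) : g ∈ C.f.range := by
  obtain ⟨y, hy⟩ := h
  have hy' : Mem y := (C.mem_iff y).2 (isConj_iff.2 ⟨g, hy.symm⟩)
  obtain ⟨x, hx⟩ := C.le t (Commute.refl t)
  have hx' : Mem x := (C.mem_iff x).2 (isConj_iff.2 ⟨1, by rw [hx]; group⟩)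
  obtain ⟨k, hk⟩ := isConj_iff.1 (hx'.symm.trans hy')
  have hc : Commute ((C.f k)⁻¹ * g) t := by
    have e : C.f k * t * (C.f k)⁻¹ = g * t * g⁻¹ :=
      calc C.f k * t * (C.f k)⁻¹ = C.f k * C.f x * (C.f k)⁻¹ :=
            congrArg (fun z => C.f k * z * (C.f k)⁻¹) hx.symm
        _ = _ := by rw [← map_inv, ← map_mul, ← map_mul, hk, hy]
    refine mul_inv_eq_iff_eq_mul.1 ?_
    calc (C.f k)⁻¹ * g * t * ((C.f k)⁻¹ * g)⁻¹ = (C.f k)⁻¹ * (g * t * g⁻¹) * C.f k := by group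
      _ = t := by rw [← e]; group
  have := mul_mem (show C.f k ∈ C.f.range from ⟨k, rfl⟩) (C.le _ hc)
  rwa [mul_inv_cancel_left] at this

theorem stab_mem {g : G} {l : Om} (hl : Mem l) (h : g * C.f l * g⁻¹ ∈ C.f.range) : g ∈ C.f.range := by
  obtain ⟨h0, hh0⟩ := isConj_iff.1 ((C.mem_iff l).1 hl)
  have h1 : h0 ∈ C.f.range := C.stab (hh0 ▸ ⟨l, rfl⟩)
  have h2 : g * h0 ∈ C.f.range := C.stab (by
    rw [show g * h0 * t * (g * h0)⁻¹ = g * (h0 * t * h0⁻¹) * g⁻¹ by group, hh0]; exact h)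
  have := mul_mem h2 (inv_mem h1)
  rwa [mul_inv_cancel_right] at this

theorem cent_mem {l : Om} (hl : Mem l) {c : G} (hc : Commute c (C.f l)) : c ∈ C.f.range :=
  C.stab_mem hl (by rw [hc.eq, mul_inv_cancel_right]; exact ⟨l, rfl⟩)

theorem two_le {P : Subgroup G} (hP : IsPGroup 2 P) {l : Om} (hl : Mem l) (hlP : C.f l ∈ P) :
    P ≤ C.f.range := by
  obtain ⟨g, hg⟩ := C.two hP
  obtain ⟨y, hy⟩ := C.cent_mem hl (hg _ hlP).symm
  have hy' : Mem y := (C.mem_iff y).2 (isConj_iff.2 ⟨g, hy.symm⟩)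
  exact fun p hp => C.cent_mem hy' (hy ▸ hg p hp)

/-- Every outside conjugate is moved to an inside one near a given inside one. -/
theorem split {m : G} (hm : IsConj t m) (hout : m ∉ C.f.range) {l : Om} (hl : Mem l) :
    ∃ y r, Mem y ∧ r * m * r⁻¹ = C.f y ∧ (∀ z, Commute z (C.f l) → Commute z m → Commute z r) ∧
      Commute l y ∧ (l ≠ y → BType (l * y) ∧ Commute (C.f (l * y)) m) := by
  haveI : Fact (Nat.Prime 2) := ⟨Nat.prime_two⟩
  have ht2 : t * t = 1 := by
    obtain ⟨x, hx⟩ := C.le t (Commute.refl t)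
    calc t * t = C.f x * C.f x := congrArg₂ (· * ·) hx.symm hx.symm
      _ = 1 := by
        rw [← map_mul, C.sq_of_mem ((C.mem_iff x).2 (isConj_iff.2 ⟨1, by rw [hx]; group⟩)), map_one]
  have hm2 : m * m = 1 := by
    obtain ⟨g, rfl⟩ := isConj_iff.1 hm
    calc g * t * g⁻¹ * (g * t * g⁻¹) = g * (t * t) * g⁻¹ := by group
      _ = 1 := by rw [ht2, mul_one, mul_inv_cancel]
  have hl2 : C.f l * C.f l = 1 := by rw [← map_mul, C.sq_of_mem hl, map_one]
  obtain ⟨d, hd⟩ : ∃ d, d = C.f l * m := ⟨_, rfl⟩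
  obtain ⟨a, o, ho, hn⟩ := Nat.exists_eq_pow_mul_and_not_dvd (orderOf_pos d).ne' 2 (by norm_num)
  obtain ⟨j, hj⟩ := Nat.odd_iff.2 (Nat.two_dvd_ne_zero.1 ho)
  have hml : m = C.f l * d := by rw [hd, ← mul_assoc, hl2, one_mul]
  have hinv : ∀ n : ℕ, C.f l * d ^ n * C.f l = (d ^ n)⁻¹ := fun n => by
    have e : C.f l * d * (C.f l)⁻¹ = d⁻¹ := by
      rw [← hml, hd, mul_inv_rev, inv_eq_of_mul_eq_one_right hl2, inv_eq_of_mul_eq_one_right hm2]
    calc C.f l * d ^ n * C.f l = C.f l * d ^ n * (C.f l)⁻¹ := by rw [inv_eq_of_mul_eq_one_right hl2]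
      _ = (C.f l * d * (C.f l)⁻¹) ^ n := by rw [conj_pow]
      _ = _ := by rw [e, inv_pow]
  obtain ⟨r, hr⟩ : ∃ r, r = d ^ (j + 1) := ⟨_, rfl⟩
  have hy1 : r * m * r⁻¹ = C.f l * (d ^ o)⁻¹ := by
    have h2 := hinv (j + 1)
    rw [← hr] at h2
    calc r * m * r⁻¹ = (C.f l * C.f l) * r * (C.f l * d) * r⁻¹ := by rw [hl2, one_mul, ← hml]
      _ = C.f l * (C.f l * r * C.f l) * d * r⁻¹ := by group
      _ = _ := by
        rw [h2, hr, hj, show 2 * j + 1 = (j + 1) + j by omega, pow_add d (j + 1) j, pow_succ]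
        group
  -- the local 2-group
  obtain ⟨p, hp⟩ : ∃ p, p = d ^ o := ⟨_, rfl⟩
  rw [← hp] at hy1
  have hp2 : p ^ 2 ^ a = 1 := by rw [hp, ← pow_mul, mul_comm, ← hn, pow_orderOf_eq_one]
  have hZ : IsPGroup 2 (zpowers p) := by
    obtain ⟨i, -, hi⟩ := (Nat.dvd_prime_pow Nat.prime_two).1 (orderOf_dvd_of_pow_eq_one hp2)
    exact IsPGroup.of_card (n := i) (by rw [Nat.card_zpowers, hi])
  have hL : IsPGroup 2 (zpowers (C.f l)) := by
    obtain ⟨i, -, hi⟩ := (Nat.dvd_prime_pow Nat.prime_two).1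
      (orderOf_dvd_of_pow_eq_one (show C.f l ^ 2 ^ 1 = 1 by rw [pow_one, pow_two, hl2]))
    exact IsPGroup.of_card (n := i) (by rw [Nat.card_zpowers, hi])
  have hnorm : zpowers (C.f l) ≤ normalizer (zpowers p : Set G) := by
    rw [zpowers_le, mem_normalizer_iff_map_conj_eq]
    show (zpowers p).map (MulAut.conj (C.f l)).toMonoidHom = _
    rw [MonoidHom.map_zpowers]
    show zpowers (C.f l * p * (C.f l)⁻¹) = _
    rw [inv_eq_of_mul_eq_one_right hl2, hp, hinv o, zpowers_inv]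
  have hP := hL.to_sup_of_normal_right' hZ hnorm
  have hPle := C.two_le hP hl (le_sup_left (b := zpowers p) (mem_zpowers _))
  obtain ⟨y, hy⟩ : C.f l * p⁻¹ ∈ C.f.range :=
    hPle (mul_mem (le_sup_left (b := zpowers p) (mem_zpowers _))
      (le_sup_right (a := zpowers (C.f l)) (inv_mem (mem_zpowers _))))
  rw [← hy] at hy1
  have hyM : Mem y := (C.mem_iff y).2 (hm.trans (isConj_iff.2 ⟨r, hy1⟩))
  have hly : C.f (l * y) = p⁻¹ := by rw [map_mul, hy, ← mul_assoc, hl2, one_mul]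
  have htwo : ∃ k, (l * y) ^ 2 ^ k = 1 := ⟨a, C.inj (by rw [map_pow, hly, inv_pow, hp2, inv_one, map_one])⟩
  have hcen : ∀ z, Commute z p → Commute z (C.f y) → Commute z r → Commute z m := by
    intro z _ h1 h2
    have e : m = r⁻¹ * C.f y * r := by rw [← hy1]; group
    rw [e]; exact (h2.inv_right.mul_right h1).mul_right h2
  have hpr : Commute p⁻¹ r := by
    rw [hp, hr]; exact (Commute.pow_pow_self d o (j + 1)).inv_left
  have hcomm : Commute l y := by
    by_contra hc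
    obtain ⟨hs, hs4⟩ := pair_noncomm l y hl hyM htwo hc
    refine hout (C.cent_mem hs (hcen _ ?_ ?_ ?_).symm)
    · rw [map_pow, hly]; exact ((Commute.refl p).inv_left).pow_left 2
    · refine Commute.map ?_ C.f
      have hy2 := C.sq_of_mem hyM
      have hl2' := C.sq_of_mem hl
      have e4 : ((l * y) ^ 2)⁻¹ = (l * y) ^ 2 := inv_eq_of_mul_eq_one_right (by rw [← pow_add]; exact hs4)
      have e5 : ((l * y) ^ 2)⁻¹ = y * l * (y * l) := by
        rw [pow_two, mul_inv_rev, mul_inv_rev, inv_eq_of_mul_eq_one_right hy2, inv_eq_of_mul_eq_one_right hl2']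
      have e6 : y * (l * y) ^ 2 * y = (l * y) ^ 2 := by
        conv_rhs => rw [← e4, e5]
        calc y * (l * y) ^ 2 * y = y * l * (y * l) * (y * y) := by rw [pow_two]; group
          _ = _ := by rw [hy2, mul_one]
      show (l * y) ^ 2 * y = y * (l * y) ^ 2
      calc (l * y) ^ 2 * y = (y * y) * (l * y) ^ 2 * y := by rw [hy2, one_mul]
        _ = y * (y * (l * y) ^ 2 * y) := by group
        _ = _ := by rw [e6]
    · rw [map_pow, hly]; exact hpr.pow_left 2
  refine ⟨y, r, hyM, hy1, fun z h1 h2 => by rw [hr, hd]; exact (h1.mul_right h2).pow_right _, hcomm, fun hne => ?_⟩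
  have hc1 : Commute (C.f (l * y)) m := hcen _ (hly ▸ (Commute.refl p).inv_left)
    ((hcomm.mul_left (Commute.refl y)).map C.f) (hly ▸ hpr)
  refine ⟨(pair_comm l y hl hyM hne hcomm).resolve_left fun h => hout (C.cent_mem h hc1.symm), hc1⟩

theorem safe {c : G} (hc : Commute c (C.f (el wB1))) : c ∈ C.f.range := by
  by_contra hout
  set j := el wB1 with hjdef
  have hN : Mem (N 0) := IsConj.refl _
  obtain ⟨q, hq, hjq⟩ : ∃ q, Mem q ∧ j = N 0 * q := by
    refine ⟨el (cjW [1, 2]), ?_, ?_⟩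
    · rw [cjW, el_append, el_append, el_rev, el_nil_zero]; exact hN.conj _
    · rw [hjdef, wB1, el_append, el_nil_zero]
  have hjj : j * j = 1 := el_B1_sq
  have hNq : Commute (N 0) q := by
    have h1 := N_sq 0
    have h2 := C.sq_of_mem hq
    have h3 : N 0 * q * (N 0 * q) = 1 := by rw [← hjq]; exact hjj
    show N 0 * q = q * N 0
    calc N 0 * q = (N 0 * q * (N 0 * q))⁻¹ * (N 0 * q) := by rw [h3, inv_one, one_mul]
      _ = q⁻¹ * (N 0)⁻¹ := by group
      _ = _ := by rw [inv_eq_of_mul_eq_one_right h1, inv_eq_of_mul_eq_one_right h2]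
  have hjN : Commute j (N 0) := hjq ▸ (Commute.refl _).mul_left hNq.symm
  set m := c * C.f (N 0) * c⁻¹ with hm
  have hmt : IsConj t m := ((C.mem_iff _).1 hN).trans (isConj_iff.2 ⟨c, rfl⟩)
  have hmout : m ∉ C.f.range := fun h => hout (C.stab_mem hN h)
  have hmj : Commute (C.f j) m := (hc.symm.mul_right (hjN.map C.f)).mul_right hc.symm.inv_right
  have hjm : IsConj t (C.f j * m) := by
    have e : C.f j * m = c * C.f q * c⁻¹ := by
      rw [hm, show C.f q = C.f j * C.f (N 0) by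
        rw [← map_mul, hjq, mul_assoc, ← hNq.eq, ← mul_assoc, N_sq, one_mul]]
      calc C.f j * (c * C.f (N 0) * c⁻¹) = (C.f j * c) * C.f (N 0) * c⁻¹ := by group
        _ = _ := by rw [← hc.eq]; group
    rw [e]
    exact ((C.mem_iff _).1 hq).trans (isConj_iff.2 ⟨c, rfl⟩)
  obtain ⟨l1, l2, h1, h2, hall⟩ := safe_B1
  have step : ∀ l, (Mem l ∧ Commute j l ∧ ¬ Mem (j * l)) →
      ∃ p, (Mem p ∧ Commute j p ∧ Mem (j * p) ∧ Commute l p ∧ ¬ Mem (l * p)) ∧ Commute (C.f (l * p)) m := by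
    rintro l ⟨hl, hlj, hjl⟩
    obtain ⟨y, r, hy, hr, hcr, hly, hne⟩ := C.split hmt hmout hl
    have hrj : Commute (C.f j) r := hcr _ (hlj.map C.f) hmj
    have hjy : Commute j y := by
      have h : Commute (C.f j) (C.f y) := by
        rw [← hr]; exact (hrj.mul_right hmj).mul_right hrj.inv_right
      show j * y = y * j
      exact C.inj (by rw [map_mul, map_mul]; exact h.eq)
    have hjyM : Mem (j * y) := (C.mem_iff _).2 (hjm.trans (isConj_iff.2 ⟨r, by
      rw [map_mul, ← hr]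
      calc r * (C.f j * m) * r⁻¹ = (r * C.f j) * m * r⁻¹ := by group
        _ = _ := by rw [← hrj.eq]; group⟩))
    obtain ⟨hB, hcm⟩ := hne fun e => hjl (e ▸ hjyM)
    exact ⟨y, ⟨hy, hjy, hjyM, hly, fun h => hmout (C.cent_mem h hcm.symm)⟩, hcm⟩
  obtain ⟨p1, hp1, hc1⟩ := step l1 h1
  obtain ⟨p2, hp2, hc2⟩ := step l2 h2
  obtain ⟨s, hs, hsM⟩ := hall p1 p2 hp1 hp2
  refine hmout (C.cent_mem hsM (Commute.symm ?_))
  have hle : Subgroup.closure ({j, l1 * p1, l2 * p2} : Set Om) ≤ (centralizer ({m} : Set G)).comap C.f := by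
    rw [Subgroup.closure_le]
    rintro z (e | e | e) <;> rw [e]
    exacts [mem_centralizer_singleton_iff.2 hmj.eq, mem_centralizer_singleton_iff.2 hc1.eq,
      mem_centralizer_singleton_iff.2 hc2.eq]
  exact mem_centralizer_singleton_iff.1 (hle hs)

/-- Transport along an automorphism fixing the root class. -/
noncomputable def twist (σ : Om ≃* Om) (hσ : σ (N 0) = N 0) : Core t where
  f := C.f.comp σ.toMonoidHom
  inj := C.inj.comp σ.injective
  le c hc := by
    obtain ⟨y, hy⟩ := C.le c hc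
    exact ⟨σ.symm y, by simpa using hy⟩
  mem_iff y := by
    have h : Mem (σ y) ↔ Mem y := by
      show IsConj (N 0) (σ y) ↔ IsConj (N 0) y
      constructor
      · intro h
        have := σ.symm.toMonoidHom.map_isConj h
        rw [← hσ] at this
        simpa using this
      · intro h
        have := σ.toMonoidHom.map_isConj h
        simpa [hσ] using this
    exact h.symm.trans (C.mem_iff (σ y))
  two := C.two

theorem twist_apply (σ : Om ≃* Om) (hσ : σ (N 0) = N 0) (y : Om) : (C.twist σ hσ).f y = C.f (σ y) := rfl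

theorem safe_btype (hrel : (∃ σ : Om ≃* Om, σ (N 0) = N 0 ∧ σ (el wB1) = el wB2) ∧
      ∃ σ : Om ≃* Om, σ (N 0) = N 0 ∧ σ (el wB1) = el wB3) {y : Om} (hy : BType y) {c : G}
    (hc : Commute c (C.f y)) : c ∈ C.f.range := by
  have base : ∀ b ∈ [el wB1, el wB2, el wB3], ∀ d : G, Commute d (C.f b) → d ∈ C.f.range := by
    obtain ⟨⟨σ, hσ, hσ'⟩, τ, hτ, hτ'⟩ := hrel
    intro b hb d hd
    simp only [List.mem_cons, List.not_mem_nil, or_false] at hb
    rcases hb with rfl | rfl | rfl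
    · exact C.safe hd
    · obtain ⟨z, hz⟩ := (C.twist σ hσ).safe (c := d) (by rw [C.twist_apply, hσ']; exact hd)
      exact ⟨σ z, (C.twist_apply σ hσ z).symm.trans hz⟩
    · obtain ⟨z, hz⟩ := (C.twist τ hτ).safe (c := d) (by rw [C.twist_apply, hτ']; exact hd)
      exact ⟨τ z, (C.twist_apply τ hτ z).symm.trans hz⟩
  obtain ⟨b, hb, hby⟩ : ∃ b ∈ [el wB1, el wB2, el wB3], IsConj b y := by
    rcases hy with h | h | h
    exacts [⟨_, by simp, h⟩, ⟨_, by simp, h⟩, ⟨_, by simp, h⟩]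
  obtain ⟨k, rfl⟩ := isConj_iff.1 hby
  have h1 := base b hb ((C.f k)⁻¹ * c * C.f k) (by
    rw [map_mul, map_mul, map_inv] at hc
    have := (Commute.conj_iff (C.f k)⁻¹).2 hc
    simpa [mul_assoc] using this)
  have := mul_mem (mul_mem (show C.f k ∈ C.f.range from ⟨k, rfl⟩) h1) (inv_mem (show C.f k ∈ C.f.range from ⟨k, rfl⟩))
  simpa [mul_assoc] using this

theorem surjective (hrel : (∃ σ : Om ≃* Om, σ (N 0) = N 0 ∧ σ (el wB1) = el wB2) ∧
      ∃ σ : Om ≃* Om, σ (N 0) = N 0 ∧ σ (el wB1) = el wB3) : Function.Surjective C.f := by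
  rw [← MonoidHom.range_eq_top, eq_top_iff]
  intro g _
  by_contra hg
  obtain ⟨x, hx⟩ := C.le t (Commute.refl t)
  obtain ⟨m, hm⟩ : ∃ m, m = g * t * g⁻¹ := ⟨_, rfl⟩
  have hmt : IsConj t m := isConj_iff.2 ⟨g, hm.symm⟩
  have hout : m ∉ C.f.range := fun h => hg (C.stab (hm ▸ h))
  set j := C.f (el wB1) with hj
  have hj2 : j * j = 1 := by rw [hj, ← map_mul, el_B1_sq, map_one]
  have ht2 : t * t = 1 := by
    calc t * t = C.f x * C.f x := congrArg₂ (· * ·) hx.symm hx.symm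
      _ = 1 := by
        rw [← map_mul, C.sq_of_mem ((C.mem_iff x).2 (isConj_iff.2 ⟨1, by rw [hx]; group⟩)), map_one]
  have hm2 : m * m = 1 := by
    rw [hm]
    calc g * t * g⁻¹ * (g * t * g⁻¹) = g * (t * t) * g⁻¹ := by group
      _ = 1 := by rw [ht2, mul_one, mul_inv_cancel]
  obtain ⟨d, hd⟩ : ∃ d, d = j * m := ⟨_, rfl⟩
  have hconj : ∀ n : ℕ, j * d ^ n * j = (d ^ n)⁻¹ := fun n => by
    have e : j * d * j⁻¹ = d⁻¹ := by
      rw [hd, mul_inv_rev, inv_eq_of_mul_eq_one_right hj2, inv_eq_of_mul_eq_one_right hm2, ← mul_assoc, hj2, one_mul]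
    calc j * d ^ n * j = j * d ^ n * j⁻¹ := by rw [inv_eq_of_mul_eq_one_right hj2]
      _ = (j * d * j⁻¹) ^ n := by rw [conj_pow]
      _ = _ := by rw [e, inv_pow]
  have heven : 2 ∣ orderOf d := by
    by_contra hodd
    obtain ⟨i, hi⟩ := Nat.odd_iff.2 (Nat.two_dvd_ne_zero.1 hodd)
    refine not_mem_B1 ((C.mem_iff _).2 (hmt.trans (isConj_iff.2 ⟨d ^ (i + 1), ?_⟩)))
    show d ^ (i + 1) * m * (d ^ (i + 1))⁻¹ = j
    have h0 : d ^ (i + 1) * d ^ i = 1 := by
      rw [← pow_add, show i + 1 + i = orderOf d by omega, pow_orderOf_eq_one]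
    calc d ^ (i + 1) * m * (d ^ (i + 1))⁻¹ = d ^ (i + 1) * (j * d) * (d ^ (i + 1))⁻¹ := by
          rw [hd, ← mul_assoc j, hj2, one_mul]
      _ = (j * j) * d ^ (i + 1) * (j * d) * (d ^ (i + 1))⁻¹ := by rw [hj2, one_mul]
      _ = j * (j * d ^ (i + 1) * j) * d * (d ^ (i + 1))⁻¹ := by group
      _ = j * (d ^ (i + 1) * d ^ i)⁻¹ := by rw [hconj, pow_succ]; group
      _ = _ := by rw [h0, inv_one, mul_one]
  obtain ⟨n, hn⟩ := heven
  set v := d ^ n with hv
  have hv2 : orderOf v = 2 := by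
    rw [hv, orderOf_pow' d (by have := orderOf_pos d; omega), hn, Nat.gcd_mul_left_left,
      Nat.mul_div_assoc 2 (dvd_refl n), Nat.div_self (by have := orderOf_pos d; omega), mul_one]
  have hvv : v⁻¹ = v := inv_eq_of_mul_eq_one_right (by rw [← pow_two, ← hv2, pow_orderOf_eq_one])
  have hvj : Commute v j := by
    have e : j * v * j = v := by rw [hv, hconj, ← hv, hvv]
    show v * j = j * v
    calc v * j = j * v * j * j := by rw [e]
      _ = _ := by rw [mul_assoc, hj2, mul_one]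
  have hvm : Commute v m := by
    rw [show m = j * d by rw [hd, ← mul_assoc, hj2, one_mul]]
    exact hvj.mul_right ((Commute.refl d).pow_left n)
  obtain ⟨y, hy⟩ := C.safe (c := v) hvj
  have hy2 : orderOf y = 2 := by rw [← orderOf_injective C.f C.inj, hy, hv2]
  rw [← hy] at hvm
  rcases invol_class y hy2 with h | h | h
  · exact hout (C.cent_mem h hvm.symm)
  · exact hout (C.safe_btype hrel h hvm.symm)
  obtain ⟨k, rfl⟩ := isConj_iff.1 h
  set m2 := (C.f k)⁻¹ * m * C.f k with hm2def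
  have hm2c : Commute (C.f (el wE)) m2 := by
    rw [map_mul, map_mul, map_inv] at hvm
    have := (Commute.conj_iff (C.f k)⁻¹).2 hvm
    simpa [hm2def, mul_assoc] using this
  have hm2t : IsConj t m2 := hmt.trans (isConj_iff.2 ⟨(C.f k)⁻¹, by rw [inv_inv]⟩)
  have hm2out : m2 ∉ C.f.range := fun hh => hout (by
    have := mul_mem (mul_mem (show C.f k ∈ C.f.range from ⟨k, rfl⟩) hh) (inv_mem (show C.f k ∈ C.f.range from ⟨k, rfl⟩))
    simpa [hm2def, mul_assoc] using this)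
  obtain ⟨l1, l2, hl1, hl2, he1, he2, hne⟩ := E_pair
  have step : ∀ l, Mem l → Commute (el wE) l → ∃ r, r * m2 * r⁻¹ = C.f l ∧ Commute (C.f (el wE)) r := by
    intro l hl hel
    obtain ⟨y', r, -, hr, hcr, -, hB⟩ := C.split hm2t hm2out hl
    refine ⟨r, ?_, hcr _ (hel.map C.f) hm2c⟩
    by_contra e
    obtain ⟨hb, hc⟩ := hB fun e' => e (e' ▸ hr)
    exact hm2out (C.safe_btype hrel hb hc.symm)
  obtain ⟨r1, hr1, hc1⟩ := step l1 hl1 he1
  obtain ⟨r2, hr2, hc2⟩ := step l2 hl2 he2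
  have hk : r2 * r1⁻¹ * C.f l1 * (r2 * r1⁻¹)⁻¹ = C.f l2 := by rw [← hr1, ← hr2]; group
  obtain ⟨k0, hk0⟩ := C.stab_mem hl1 (g := r2 * r1⁻¹) (by rw [hk]; exact ⟨l2, rfl⟩)
  refine hne k0 ?_ (C.inj ?_)
  · show k0 * el wE = el wE * k0
    refine C.inj ?_
    rw [map_mul, map_mul, hk0]
    exact ((hc2.mul_right hc1.inv_right).symm).eq
  · rw [map_mul, map_mul, map_inv, hk0, hk]

end Core

end CfsgLib.O8Plus
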