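import Batteries.Data.Nat.Lemmas
import Mathlib.Data.Fintype.Sum
import Mathlib.Data.Matrix.Mul
import Mathlib.Data.ZMod.Basic
import Mathlib.Algebra.BigOperators.Fin

/-!
Matrices of degree eight over two elements coded by natural numbers, a column to each byte, with a
multiplication that the kernel can evaluate.
-/

set_option autoImplicit false

namespace CfsgLib.O8Plus

/-- The coordinates. -/
abbrev Idx : Type := Fin 4 ⊕ Fin 4

/-- The place of a coordinate in a byte. -/
def pos : Idx → Nat := Sum.elim (fun k => k.1) (fun k => 4 + k.1)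

/-- The coordinate at a place. -/
def atPos (n : Nat) : Idx :=
  if n % 8 < 4 then Sum.inl (Fin.ofNat 4 (n % 8)) else Sum.inr (Fin.ofNat 4 (n % 8))

theorem atPos_pos : ∀ i : Idx, atPos (pos i) = i := by decide

theorem pos_lt : ∀ i : Idx, pos i < 8 := by decide

/-- The code of a matrix. -/
def encM (P : Matrix Idx Idx (ZMod 2)) : Nat :=
  Nat.ofBits fun p : Fin 64 => decide (P (atPos (p.1 % 8)) (atPos (p.1 / 8)) = 1)

/-- The matrix of a code. -/
def matOf (c : Nat) : Matrix Idx Idx (ZMod 2) :=
  Matrix.of fun i j => if c.testBit (8 * pos j + pos i) then 1 else 0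

/-- The code of the identity matrix. -/
def oneC : Nat := 0x8040201008040201

theorem encM_one : encM 1 = oneC := by decide +kernel

theorem matOf_encM (P : Matrix Idx Idx (ZMod 2)) : matOf (encM P) = P := by
  ext i j
  have h1 := pos_lt i
  have h2 := pos_lt j
  have e : ∀ z : ZMod 2, (if decide (z = 1) = true then 1 else 0) = z := by decide
  simp only [matOf, Matrix.of_apply, encM]
  have hlt : 8 * pos j + pos i < 64 := by omega
  simp only [Nat.testBit_ofBits_lt _ _ hlt, show (8 * pos j + pos i) % 8 = pos i by omega,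
    show (8 * pos j + pos i) / 8 = pos j by omega, atPos_pos]
  exact e _

theorem encM_inj {P Q : Matrix Idx Idx (ZMod 2)} (h : encM P = encM Q) : P = Q := by
  rw [← matOf_encM P, ← matOf_encM Q, h]

/-- The bytes all equal to one. -/
def ones : Nat → Nat
  | 0 => 0
  | m + 1 => 1 + 256 * ones m

theorem land_ones (m X : Nat) : X &&& (1 + 256 * ones m) = X % 2 + 256 * ((X >>> 8) &&& ones m) := by
  refine Nat.eq_of_testBit_eq fun i => ?_
  rw [Nat.testBit_and, show (256 : Nat) = 2 ^ 8 from rfl, Nat.add_comm (1 : Nat),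
    Nat.add_comm (X % 2), Nat.testBit_two_pow_mul_add _ (by decide),
    Nat.testBit_two_pow_mul_add _ (lt_of_lt_of_le (Nat.mod_lt X two_pos) (by decide : (2 : Nat) ≤ 2 ^ 8))]
  split_ifs with h
  · rcases Nat.eq_zero_or_pos i with rfl | hi
    · simp
    · rw [Nat.testBit_lt_two_pow (Nat.one_lt_two_pow (by omega : i ≠ 0))]
      have : X % 2 < 2 ^ i := lt_of_lt_of_le (Nat.mod_lt _ two_pos) (Nat.le_self_pow (by omega) 2)
      simp [Nat.testBit_lt_two_pow this]
  · rw [Nat.testBit_and, Nat.testBit_shiftRight, show 8 + (i - 8) = i by omega]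

theorem testBit_spread (a : Nat) (ha : a < 256) : ∀ (m X p : Nat),
    ((X &&& ones m) * a).testBit p = (decide (p < 8 * m) && X.testBit (8 * (p / 8)) && a.testBit (p % 8)) := by
  intro m
  induction m with
  | zero => intro X p; simp [ones]
  | succ m ih =>
    intro X p
    have hb : X % 2 * a < 2 ^ 8 := by
      rcases Nat.mod_two_eq_zero_or_one X with h | h <;> rw [h] <;> omega
    rw [ones, land_ones, add_mul, mul_assoc, show (256 : Nat) = 2 ^ 8 from rfl, Nat.add_comm,
      Nat.testBit_two_pow_mul_add _ hb]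
    split_ifs with h
    · rw [show p / 8 = 0 by omega, show p % 8 = p by omega, decide_eq_true (by omega : p < 8 * (m + 1)),
        mul_zero]
      rcases Nat.mod_two_eq_zero_or_one X with h2 | h2 <;>
        simp [h2, Nat.testBit_zero]
    · rw [ih, Nat.testBit_shiftRight, show 8 + 8 * ((p - 8) / 8) = 8 * (p / 8) by omega,
        show (p - 8) % 8 = p % 8 by omega]
      congr 2
      exact decide_eq_decide.2 (by omega)

/-- One term of the product: the bit `k` of each byte of `B` selects the byte `k` of `A`. -/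
def termC (A B k : Nat) : Nat :=
  Nat.mul (Nat.land (Nat.shiftRight B k) 0x0101010101010101)
    (Nat.land (Nat.shiftRight A (Nat.mul 8 k)) 255)

/-- The product of two codes. -/
def mulP (A B : Nat) : Nat :=
  Nat.xor (Nat.xor (Nat.xor (termC A B 0) (termC A B 1)) (Nat.xor (termC A B 2) (termC A B 3)))
    (Nat.xor (Nat.xor (termC A B 4) (termC A B 5)) (Nat.xor (termC A B 6) (termC A B 7)))

theorem testBit_termC (A B k p : Nat) :
    (termC A B k).testBit p =
      (decide (p < 64) && B.testBit (8 * (p / 8) + k) && A.testBit (8 * k + p % 8)) := by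
  have e : termC A B k = ((B >>> k) &&& ones 8) * ((A >>> (8 * k)) &&& 255) := rfl
  have h255 : (A >>> (8 * k)) &&& 255 < 256 := Nat.lt_succ_of_le Nat.and_le_right
  rw [e, testBit_spread _ h255, Nat.testBit_shiftRight, Nat.testBit_and, Nat.testBit_shiftRight,
    show Nat.testBit 255 (p % 8) = true by
      have : ∀ i : Fin 8, Nat.testBit 255 i.1 = true := by decide
      exact this ⟨p % 8, by omega⟩]
  simp [Nat.add_comm k]

theorem encM_mul (P Q : Matrix Idx Idx (ZMod 2)) : encM (P * Q) = mulP (encM P) (encM Q) := by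
  refine Nat.eq_of_testBit_eq fun p => ?_
  have hx : ∀ a b : Nat, Nat.testBit (Nat.xor a b) p = (Nat.testBit a p ^^ Nat.testBit b p) :=
    fun a b => Nat.testBit_xor a b p
  simp only [mulP, hx, testBit_termC]
  by_cases hp : p < 64
  · have hb : ∀ j : Nat, j < 64 → (encM Q).testBit j = decide (Q (atPos (j % 8)) (atPos (j / 8)) = 1) :=
      fun j hj => Nat.testBit_ofBits_lt _ _ hj
    have ha : ∀ j : Nat, j < 64 → (encM P).testBit j = decide (P (atPos (j % 8)) (atPos (j / 8)) = 1) :=
      fun j hj => Nat.testBit_ofBits_lt _ _ hj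
    rw [encM, Nat.testBit_ofBits_lt _ _ hp]
    generalize hi : atPos (p % 8) = i
    generalize hj : atPos (p / 8) = j
    have hB : ∀ k : Nat, k < 8 → (encM Q).testBit (8 * (p / 8) + k) = decide (Q (atPos k) j = 1) := fun k hk => by
      rw [hb _ (by omega), show (8 * (p / 8) + k) % 8 = k by omega,
        show (8 * (p / 8) + k) / 8 = p / 8 by omega, hj]
    have hA : ∀ k : Nat, k < 8 → (encM P).testBit (8 * k + p % 8) = decide (P i (atPos k) = 1) := fun k hk => by
      rw [ha _ (by omega), show (8 * k + p % 8) % 8 = p % 8 by omega,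
        show (8 * k + p % 8) / 8 = k by omega, hi]
    have hmul : ∀ x y : ZMod 2, decide (x * y = 1) = (decide (x = 1) && decide (y = 1)) := by decide
    have hadd : ∀ x y : ZMod 2, decide (x + y = 1) = (decide (x = 1) ^^ decide (y = 1)) := by decide
    rw [Matrix.mul_apply, Fintype.sum_sum_type, Fin.sum_univ_four, Fin.sum_univ_four,
      hB 0 (by decide), hB 1 (by decide), hB 2 (by decide), hB 3 (by decide), hB 4 (by decide), hB 5 (by decide), hB 6 (by decide), hB 7 (by decide),
      hA 0 (by decide), hA 1 (by decide), hA 2 (by decide), hA 3 (by decide), hA 4 (by decide), hA 5 (by decide), hA 6 (by decide), hA 7 (by decide)]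
    simp only [hadd, hmul, hp, decide_true, Bool.true_and]
    simp only [Bool.and_comm]
    simp only [Bool.xor_assoc, show atPos 0 = Sum.inl 0 from rfl, show atPos 1 = Sum.inl 1 from rfl,
      show atPos 2 = Sum.inl 2 from rfl, show atPos 3 = Sum.inl 3 from rfl, show atPos 4 = Sum.inr 0 from rfl,
      show atPos 5 = Sum.inr 1 from rfl, show atPos 6 = Sum.inr 2 from rfl, show atPos 7 = Sum.inr 3 from rfl]
  · simp [encM, Nat.testBit_ofBits_ge _ _ (show 64 ≤ p by omega), hp]

end CfsgLib.O8Plus
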