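import Mathlib.Data.ZMod.Basic
import Mathlib.Algebra.Module.ZMod
import Mathlib.GroupTheory.Perm.Basic
import Mathlib.Algebra.Group.Subgroup.Finite
import Mathlib.GroupTheory.Coset.Card
import Mathlib.Algebra.Group.Pi.Lemmas
import Mathlib.Tactic.Abel
import Mathlib.Tactic.FinCases
import Mathlib.Tactic.IntervalCases
import Mathlib.Tactic.Linarith
import Mathlib.Tactic.NormNum
import Mathlib.Tactic.GCongr

/-!
Eight-dimensional modules for three copies of the symmetric group of degree three in which a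
Sylow 2-subgroup fixes a totally singular subspace and a point.
-/

set_option autoImplicit false
set_option linter.style.haveILetI false
set_option linter.unusedSectionVars false

namespace CfsgLib.O8Plus

/-- Three copies of the symmetric group of degree three. -/
abbrev H3 : Type := Fin 3 → Equiv.Perm (Fin 3)

/-- A standard involution in one factor. -/
def hs (i : Fin 3) : H3 := Pi.mulSingle i (Equiv.swap 0 1)

/-- A standard element of order three in one factor. -/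
def hd (i : Fin 3) : H3 := Pi.mulSingle i (Equiv.swap 0 1 * Equiv.swap 1 2)

theorem hs_sq : ∀ i, hs i * hs i = 1 := by decide +kernel

theorem hd_cube : ∀ i, hd i * hd i * hd i = 1 := by decide +kernel

theorem hs_hd : ∀ i, hs i * hd i = hd i * hd i * hs i := by decide +kernel

theorem hd_hs : ∀ i, hd i * hs i = hs i * (hd i * hd i) := by decide +kernel

theorem hs_comm : ∀ i j, hs i * hs j = hs j * hs i := by decide +kernel

theorem hd_comm : ∀ i j, hd i * hd j = hd j * hd i := by decide +kernel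

theorem hs_hd_comm : ∀ i j, i ≠ j → hs i * hd j = hd j * hs i := by decide +kernel

theorem hd_ne_one : ∀ i, hd i ≠ 1 := by decide +kernel

/-- An action on a space with an alternating form, a fixed point and an invariant singular subspace. -/
structure Cube (V : Type*) [AddCommGroup V] where
  r : H3 →* AddMonoid.End V
  two : ∀ u : V, u + u = 0
  card : Nat.card V = 256
  B : V → V → ZMod 2
  B_add : ∀ u u' w, B (u + u') w = B u w + B u' w
  B_comm : ∀ u w, B u w = B w u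
  nondeg : ∀ u, (∀ w, B u w = 0) → u = 0
  B_inv : ∀ h u w, B (r h u) (r h w) = B u w
  faithful : ∀ h, (∀ u, r h u = u) → h = 1
  /-- The singular vectors. -/
  Sing : V → Prop
  sing_inv : ∀ h u, Sing u → Sing (r h u)
  sing_B : ∀ u w, Sing u → Sing w → Sing (u + w) → B u w = 0
  M : AddSubgroup V
  M_sing : ∀ m ∈ M, Sing m
  M_iso : ∀ m ∈ M, ∀ m' ∈ M, B m m' = 0
  v : V
  v_ne : v ≠ 0
  v_fix : ∀ i, r (hs i) v = v
  v_mem : v ∈ M
  perp : ∀ i u, B u v = 0 → u + r (hs i) u ∈ M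
  m : Fin 3 → V
  m_mem : ∀ i, m i ∈ M
  m_eq : ∀ i, m i + r (hs i) (m i) = v
  m_ne : ∀ i j, j ≠ i → r (hs j) (m i) = m i

namespace Cube

variable {V : Type*} [AddCommGroup V] (D : Cube V)
include D

theorem r_mul (g h : H3) (u : V) : D.r (g * h) u = D.r g (D.r h u) := by rw [map_mul]; rfl

theorem r_one (u : V) : D.r 1 u = u := by rw [map_one]; rfl

theorem eq_of_add {u w : V} (h : u + w = 0) : u = w := by
  calc u = u + (w + w) := by rw [D.two, add_zero]
    _ = w := by rw [← add_assoc, h, zero_add]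

theorem add_cancel_left (u w : V) : u + (u + w) = w := by rw [← add_assoc, D.two, zero_add]

theorem B_add' (u w w' : V) : D.B u (w + w') = D.B u w + D.B u w' := by
  rw [D.B_comm, D.B_add, D.B_comm w, D.B_comm w']

theorem B_zero (u : V) : D.B u 0 = 0 := by
  have h := D.B_add' u 0 0
  rw [add_zero] at h
  exact left_eq_add.1 h

theorem finite : Finite V := Nat.finite_of_card_ne_zero (by rw [D.card]; norm_num)

/-- The difference of an involution and the identity. -/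
def sg (i : Fin 3) : V →+ V :=
  AddMonoidHom.mk' (fun u => u + D.r (hs i) u) fun u w => by
    show u + w + D.r (hs i) (u + w) = _
    rw [map_add]; abel

theorem sg_apply (i : Fin 3) (u : V) : D.sg i u = u + D.r (hs i) u := rfl

/-- The projection on the commutator of an element of order three. -/
def pj (i : Fin 3) : V →+ V :=
  AddMonoidHom.mk' (fun u => D.r (hd i) u + D.r (hd i * hd i) u) fun u w => by
    show D.r (hd i) (u + w) + D.r (hd i * hd i) (u + w) = _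
    rw [map_add, map_add]; abel

theorem pj_apply (i : Fin 3) (u : V) : D.pj i u = D.r (hd i) u + D.r (hd i * hd i) u := rfl

theorem sg_eq_zero {i : Fin 3} {u : V} : D.sg i u = 0 ↔ D.r (hs i) u = u :=
  ⟨fun h => (D.eq_of_add h).symm, fun h => by rw [sg_apply, h, D.two]⟩

theorem sg_sg (i : Fin 3) (u : V) : D.sg i (D.sg i u) = 0 := by
  rw [sg_apply, sg_apply, map_add, ← r_mul, hs_sq, r_one, add_comm (D.r (hs i) u) u, D.two]

theorem homotopy (i : Fin 3) (u : V) :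
    D.r (hd i) (D.sg i u) + D.sg i (D.r (hd i * hd i) u) = D.pj i u := by
  rw [sg_apply, sg_apply, map_add, ← r_mul, ← r_mul, ← hd_hs, pj_apply]
  calc D.r (hd i) u + D.r (hd i * hs i) u + (D.r (hd i * hd i) u + D.r (hd i * hs i) u)
      = D.r (hd i) u + D.r (hd i * hd i) u + (D.r (hd i * hs i) u + D.r (hd i * hs i) u) := by abel
    _ = _ := by rw [D.two, add_zero]

theorem pj_B (i : Fin 3) (u w : V) : D.B (D.pj i u) w = D.B u (D.pj i w) := by
  have h1 : ∀ u w, D.B (D.r (hd i) u) w = D.B u (D.r (hd i * hd i) w) := fun u w => by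
    rw [← D.B_inv (hd i) u, ← r_mul, ← mul_assoc, hd_cube, r_one]
  have h2 : ∀ u w, D.B (D.r (hd i * hd i) u) w = D.B u (D.r (hd i) w) := fun u w => by
    rw [D.B_comm, ← h1, D.B_comm]
  rw [pj_apply, pj_apply, D.B_add, h1, h2, D.B_add', add_comm]

theorem pj_fix {i : Fin 3} {u : V} (h : D.pj i u = 0) : D.r (hd i) u = u := by
  have h' := congrArg (D.r (hd i * hd i)) (D.eq_of_add h)
  rw [← r_mul, ← r_mul, hd_cube, r_one,
    show hd i * hd i * (hd i * hd i) = hd i by rw [← mul_assoc, hd_cube, one_mul]] at h'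
  exact h'.symm

theorem pj_of_fix {i : Fin 3} {u : V} (h : D.r (hd i) u = u) : D.pj i u = 0 := by
  rw [pj_apply, r_mul, h, h, D.two]

theorem pj_idem (i : Fin 3) (u : V) : D.pj i (D.pj i u) = D.pj i u := by
  rw [pj_apply, pj_apply, map_add, map_add, ← r_mul, ← r_mul, ← r_mul, ← r_mul, ← mul_assoc,
    hd_cube, r_one, mul_assoc (hd i) (hd i) (hd i * hd i), ← mul_assoc (hd i) (hd i) (hd i), hd_cube, mul_one]
  calc D.r (hd i * hd i) u + u + (u + D.r (hd i) u)
      = D.r (hd i) u + D.r (hd i * hd i) u + (u + u) := by abel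
    _ = _ := by rw [D.two, add_zero]

theorem pj_comm_pj (i j : Fin 3) (u : V) : D.pj i (D.pj j u) = D.pj j (D.pj i u) := by
  have h := hd_comm i j
  have c : ∀ g g' : H3, g * g' = g' * g → D.r g (D.r g' u) = D.r g' (D.r g u) := fun g g' e => by
    rw [← r_mul, ← r_mul, e]
  have h' : Commute (hd i) (hd j) := h
  simp only [pj_apply, map_add]
  rw [c _ _ h'.eq, c _ _ (h'.mul_right h').eq, c _ _ (h'.mul_left h').eq,
    c _ _ ((h'.mul_left h').mul_right (h'.mul_left h')).eq]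
  abel

theorem pj_hd (i j : Fin 3) (u : V) : D.pj i (D.r (hd j) u) = D.r (hd j) (D.pj i u) := by
  have h' : Commute (hd i) (hd j) := hd_comm i j
  rw [pj_apply, pj_apply, map_add, ← r_mul, ← r_mul, ← r_mul, ← r_mul, h'.eq, (h'.mul_left h').eq]

theorem pj_hs (i j : Fin 3) (u : V) : D.pj i (D.r (hs j) u) = D.r (hs j) (D.pj i u) := by
  rw [pj_apply, pj_apply, map_add, ← r_mul, ← r_mul, ← r_mul, ← r_mul]
  by_cases h : j = i
  · subst h
    rw [hd_hs, ← hs_hd, add_comm]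
  · have h' : Commute (hd i) (hs j) := (hs_hd_comm j i h).symm
    rw [h'.eq, (h'.mul_left h').eq]

theorem pj_sg (i j : Fin 3) (u : V) : D.pj i (D.sg j u) = D.sg j (D.pj i u) := by
  rw [sg_apply, sg_apply, map_add, pj_hs]

theorem sg_hd {i j : Fin 3} (h : i ≠ j) (u : V) : D.sg i (D.r (hd j) u) = D.r (hd j) (D.sg i u) := by
  rw [sg_apply, sg_apply, map_add, ← r_mul, ← r_mul, hs_hd_comm i j h]

theorem sg_hs (i j : Fin 3) (u : V) : D.sg i (D.r (hs j) u) = D.r (hs j) (D.sg i u) := by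
  rw [sg_apply, sg_apply, map_add, ← r_mul, ← r_mul, hs_comm]

/-- The vectors fixed by an involution. -/
def fix (i : Fin 3) : AddSubgroup V := (D.sg i).ker

theorem mem_fix {i : Fin 3} {u : V} : u ∈ D.fix i ↔ D.sg i u = 0 := AddMonoidHom.mem_ker

/-- Stability under the pair of generators in one factor. -/
def Stable (i : Fin 3) (W : AddSubgroup V) : Prop :=
  ∀ u ∈ W, D.r (hs i) u ∈ W ∧ D.r (hd i) u ∈ W ∧ D.pj i u = u

theorem Stable.fix {i j : Fin 3} {W : AddSubgroup V} (h : D.Stable i W) (hij : i ≠ j) :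
    D.Stable i (W ⊓ D.fix j) := fun u hu => by
  obtain ⟨hu, hf⟩ := hu
  obtain ⟨h1, h2, h3⟩ := h u hu
  have hf' := D.mem_fix.1 hf
  exact ⟨⟨h1, D.mem_fix.2 (by rw [sg_hs, hf', map_zero])⟩,
    ⟨h2, D.mem_fix.2 (by rw [sg_hd D hij.symm, hf', map_zero])⟩, h3⟩

theorem Stable.exists_sg {i : Fin 3} {W : AddSubgroup V} (h : D.Stable i W) {u : V}
    (hu : u ∈ W ⊓ D.fix i) : ∃ w ∈ W, D.sg i w = u := by
  obtain ⟨hu, hf⟩ := hu
  refine ⟨D.r (hd i * hd i) u, by rw [r_mul]; exact (h _ (h u hu).2.1).2.1, ?_⟩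
  have e := D.homotopy i u
  rw [D.mem_fix.1 hf, map_zero, zero_add, (h u hu).2.2] at e
  exact e

theorem Stable.card {i : Fin 3} {W : AddSubgroup V} (h : D.Stable i W) :
    Nat.card W = Nat.card ↥(W ⊓ D.fix i) ^ 2 := by
  haveI := D.finite
  let f : W →+ ↥(W ⊓ D.fix i) :=
    AddMonoidHom.mk' (fun u => ⟨D.sg i u, W.add_mem u.2 (h u u.2).1, D.mem_fix.2 (D.sg_sg i u)⟩)
      fun u w => Subtype.ext (map_add (D.sg i) (u : V) w)
  have hf : Function.Surjective f := fun u => by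
    obtain ⟨w, hw, e⟩ := h.exists_sg D u.2
    exact ⟨⟨w, hw⟩, Subtype.ext e⟩
  have hk : Nat.card f.ker = Nat.card ↥(W ⊓ D.fix i) := Nat.card_congr
    { toFun := fun u => ⟨u.1.1, u.1.2, D.mem_fix.2 (congrArg Subtype.val (AddMonoidHom.mem_ker.1 u.2))⟩
      invFun := fun u => ⟨⟨u.1, u.2.1⟩, AddMonoidHom.mem_ker.2 (Subtype.ext (D.mem_fix.1 u.2.2))⟩
      left_inv := fun u => rfl
      right_inv := fun u => rfl }
  rw [AddSubgroup.card_eq_card_quotient_mul_card_addSubgroup f.ker,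
    Nat.card_congr (QuotientAddGroup.quotientKerEquivOfSurjective f hf).toEquiv, hk, pow_two]

theorem eq_of_card_two {W : AddSubgroup V} (h : Nat.card W = 2) {c u : V} (hc : c ∈ W) (hc0 : c ≠ 0)
    (hu : u ∈ W) : u = 0 ∨ u = c := by
  have h2 := Nat.card_eq_two_iff' (⟨0, W.zero_mem⟩ : W) |>.1 h
  by_contra hn
  push Not at hn
  exact hn.2 (congrArg Subtype.val (h2.unique (y₁ := ⟨u, hu⟩) (y₂ := ⟨c, hc⟩)
    (fun e => hn.1 (congrArg Subtype.val e)) (fun e => hc0 (congrArg Subtype.val e))))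

theorem exists_ne_zero_fix {i : Fin 3} {W : AddSubgroup V} (h : D.Stable i W) (hW : W ≠ ⊥) :
    1 < Nat.card ↥(W ⊓ D.fix i) := by
  haveI := D.finite
  have h1 : 1 < Nat.card W := (AddSubgroup.one_lt_card_iff_ne_bot W).2 hW
  rw [h.card D] at h1
  by_contra hn
  interval_cases Nat.card ↥(W ⊓ D.fix i) <;> simp at h1

theorem full_of_triple {u : V} (h : ∀ i, D.pj i u = u) (hu : u ≠ 0) : ∀ i w, D.pj i w = w := by
  haveI := D.finite
  set W : AddSubgroup V := ⨅ i, (D.pj i - AddMonoidHom.id V).ker with hWdef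
  have hmem : ∀ w, w ∈ W ↔ ∀ i, D.pj i w = w := fun w => by
    simp [hWdef, AddSubgroup.mem_iInf, AddMonoidHom.mem_ker, sub_eq_zero]
  have hst : ∀ i, D.Stable i W := fun i w hw =>
    ⟨(hmem _).2 fun j => by rw [pj_hs, (hmem w).1 hw j],
      (hmem _).2 fun j => by rw [pj_hd, (hmem w).1 hw j], (hmem w).1 hw i⟩
  have h01 : D.Stable 1 (W ⊓ D.fix 0) := (hst 1).fix D (by decide)
  have h012 : D.Stable 2 (W ⊓ D.fix 0 ⊓ D.fix 1) := ((hst 2).fix D (by decide)).fix D (by decide)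
  have hne : ∀ {i : Fin 3} {X : AddSubgroup V}, D.Stable i X → X ≠ ⊥ → X ⊓ D.fix i ≠ ⊥ := fun hX h0 =>
    (AddSubgroup.one_lt_card_iff_ne_bot _).1 (D.exists_ne_zero_fix hX h0)
  have hW : W ≠ ⊥ := fun e => hu (by
    have := (hmem u).2 h
    rwa [e, AddSubgroup.mem_bot] at this)
  have ha := D.exists_ne_zero_fix h012 (hne h01 (hne (hst 0) hW))
  have hcW := (hst 0).card D
  rw [h01.card D, h012.card D] at hcW
  have hle : Nat.card W ≤ 256 := D.card ▸ Nat.card_le_card_of_injective _ (Subtype.val_injective (p := (· ∈ W)))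
  have ha2 : Nat.card ↥(W ⊓ D.fix 0 ⊓ D.fix 1 ⊓ D.fix 2) = 2 := by
    by_contra hn
    have h3 : 3 ≤ Nat.card ↥(W ⊓ D.fix 0 ⊓ D.fix 1 ⊓ D.fix 2) := by omega
    have := Nat.pow_le_pow_left h3 8
    rw [← pow_mul, ← pow_mul] at hcW
    norm_num at hcW this
    omega
  rw [ha2] at hcW
  have htop : W = ⊤ := AddSubgroup.eq_top_of_card_eq W (by rw [hcW, D.card]; norm_num)
  exact fun i w => (hmem w).1 (htop ▸ AddSubgroup.mem_top w) i

theorem no_pair (h3 : ∀ u : V, (∀ i, D.pj i u = u) → u = 0) {i j : Fin 3} (hij : i ≠ j) (u : V) :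
    D.pj i (D.pj j u) = 0 := by
  haveI := D.finite
  obtain ⟨k, hki, hkj⟩ : ∃ k : Fin 3, k ≠ i ∧ k ≠ j := by
    revert i j; decide
  have hall : ∀ l : Fin 3, l = i ∨ l = j ∨ l = k := by
    revert hij hki hkj; revert i j k; decide
  set W : AddSubgroup V := (D.pj i - AddMonoidHom.id V).ker ⊓ (D.pj j - AddMonoidHom.id V).ker with hWdef
  have hmem : ∀ w, w ∈ W ↔ D.pj i w = w ∧ D.pj j w = w := fun w => by
    simp [hWdef, AddSubgroup.mem_inf, AddMonoidHom.mem_ker, sub_eq_zero]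
  have hsti : D.Stable i W := fun w hw => by
    obtain ⟨a, b⟩ := (hmem w).1 hw
    exact ⟨(hmem _).2 ⟨by rw [pj_hs, a], by rw [pj_hs, b]⟩, (hmem _).2 ⟨by rw [pj_hd, a], by rw [pj_hd, b]⟩, a⟩
  have hstj : D.Stable j W := fun w hw => by
    obtain ⟨a, b⟩ := (hmem w).1 hw
    exact ⟨(hmem _).2 ⟨by rw [pj_hs, a], by rw [pj_hs, b]⟩, (hmem _).2 ⟨by rw [pj_hd, a], by rw [pj_hd, b]⟩, b⟩
  have hWk : ∀ w ∈ W, D.r (hd k) w = w := fun w hw => D.pj_fix (h3 _ fun l => by
    obtain ⟨a, b⟩ := (hmem w).1 hw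
    rcases hall l with rfl | rfl | rfl
    · rw [pj_comm_pj, a]
    · rw [pj_comm_pj, b]
    · exact D.pj_idem _ _)
  have hu : D.pj i (D.pj j u) ∈ W := (hmem _).2 ⟨D.pj_idem _ _, by rw [pj_comm_pj, pj_idem, pj_comm_pj]⟩
  by_contra hu0
  have hW : W ≠ ⊥ := fun e => hu0 (by rwa [e, AddSubgroup.mem_bot] at hu)
  have hstj' : D.Stable j (W ⊓ D.fix i) := hstj.fix D hij.symm
  have hne : W ⊓ D.fix i ≠ ⊥ := (AddSubgroup.one_lt_card_iff_ne_bot _).1 (D.exists_ne_zero_fix hsti hW)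
  have ha := D.exists_ne_zero_fix hstj' hne
  have hcW := hsti.card D
  rw [hstj'.card D] at hcW
  have hle : Nat.card W ≤ 256 := D.card ▸ Nat.card_le_card_of_injective _ (Subtype.val_injective (p := (· ∈ W)))
  have ha2 : Nat.card ↥(W ⊓ D.fix i ⊓ D.fix j) = 2 := by
    by_contra hn
    have h4 : 4 ≤ Nat.card ↥(W ⊓ D.fix i ⊓ D.fix j) := by
      by_contra h4
      have e3 : Nat.card ↥(W ⊓ D.fix i ⊓ D.fix j) = 3 := by omega
      have hdvd := AddSubgroup.card_addSubgroup_dvd_card (W ⊓ D.fix i ⊓ D.fix j)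
      rw [e3, D.card] at hdvd
      norm_num at hdvd
    have := Nat.pow_le_pow_left h4 4
    rw [← pow_mul] at hcW
    norm_num at hcW this
    have htop : W = ⊤ := AddSubgroup.eq_top_of_card_eq W (by rw [D.card]; omega)
    exact hd_ne_one k (D.faithful _ fun w => hWk w (htop ▸ AddSubgroup.mem_top w))
  obtain ⟨c, hc, hc0⟩ := (AddSubgroup.bot_or_exists_ne_zero (W ⊓ D.fix i ⊓ D.fix j)).resolve_left
    (fun e => by rw [e, AddSubgroup.card_bot] at ha; omega)
  -- the third involution is trivial on the piece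
  have hkc : D.sg k c = 0 := by
    obtain ⟨⟨hcW', hci⟩, hcj⟩ := hc
    have hm : D.sg k c ∈ W ⊓ D.fix i ⊓ D.fix j := by
      refine ⟨⟨(hmem _).2 ⟨?_, ?_⟩, D.mem_fix.2 ?_⟩, D.mem_fix.2 ?_⟩
      · rw [pj_sg, ((hmem c).1 hcW').1]
      · rw [pj_sg, ((hmem c).1 hcW').2]
      · rw [D.sg_apply k c, map_add, sg_hs, D.mem_fix.1 hci, map_zero, zero_add]
      · rw [D.sg_apply k c, map_add, sg_hs, D.mem_fix.1 hcj, map_zero, zero_add]
    rcases D.eq_of_card_two ha2 ⟨⟨hcW', hci⟩, hcj⟩ hc0 hm with e | e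
    · exact e
    · have := D.sg_sg k c
      rw [e, e] at this
      exact absurd this hc0
  have hk : ∀ w ∈ W, D.sg k w = 0 := by
    have hi' : D.Stable i (W ⊓ D.fix k) := hsti.fix D hki.symm
    have hj' : D.Stable j (W ⊓ D.fix k ⊓ D.fix i) := (hstj.fix D hkj.symm).fix D hij.symm
    have hcY : c ∈ W ⊓ D.fix k ⊓ D.fix i ⊓ D.fix j := ⟨⟨⟨hc.1.1, D.mem_fix.2 hkc⟩, hc.1.2⟩, hc.2⟩
    have hb : 2 ≤ Nat.card ↥(W ⊓ D.fix k ⊓ D.fix i ⊓ D.fix j) := (AddSubgroup.one_lt_card_iff_ne_bot _).2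
      fun e => hc0 (by rwa [e, AddSubgroup.mem_bot] at hcY)
    have hcY' := hi'.card D
    rw [hj'.card D] at hcY'
    rw [ha2] at hcW
    have hY : Nat.card W ≤ Nat.card ↥(W ⊓ D.fix k) := by
      rw [hcY', hcW]; gcongr
    intro w hw
    exact D.mem_fix.1 ((AddSubgroup.eq_of_le_of_card_ge inf_le_left hY).ge hw).2
  have hperp : ∀ w ∈ W, D.B w D.v = 0 := fun w hw => by
    obtain ⟨a, b⟩ := (hmem w).1 hw
    rw [← a, ← b, pj_B, pj_B, ← D.m_eq k, ← sg_apply, pj_sg, pj_sg,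
      hk _ ((hmem _).2 ⟨by rw [pj_comm_pj, pj_idem], D.pj_idem _ _⟩)]
    exact D.B_zero _
  have hzero : ∀ w ∈ W, D.sg j (D.sg i w) = 0 := by
    intro w hw
    refine D.nondeg _ fun y => ?_
    have hz : D.sg j (D.sg i w) ∈ W := (hmem _).2
      ⟨by rw [pj_sg, pj_sg, ((hmem w).1 hw).1], by rw [pj_sg, pj_sg, ((hmem w).1 hw).2]⟩
    obtain ⟨a, b⟩ := (hmem _).1 hz
    rw [← a, ← b, pj_B, pj_B]
    have hy : D.pj j (D.pj i y) ∈ W := (hmem _).2 ⟨by rw [pj_comm_pj, pj_idem], D.pj_idem _ _⟩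
    set y' := D.pj j (D.pj i y)
    have e : D.B (D.sg j (D.sg i w)) y' = D.B (D.sg i w) (D.sg j y') := by
      rw [sg_apply D j, sg_apply D j y', D.B_add, D.B_add',
        ← D.B_inv (hs j) (D.r (hs j) (D.sg i w)), ← r_mul, hs_sq, r_one]
    rw [e]
    exact D.M_iso _ (D.perp i w (hperp w hw)) _ (D.perp j y' (hperp y' hy))
  have hsub : W ⊓ D.fix i ≤ W ⊓ D.fix i ⊓ D.fix j := fun w hw => ⟨hw, by
    obtain ⟨w', hw', rfl⟩ := hsti.exists_sg D hw
    exact D.mem_fix.2 (hzero w' hw')⟩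
  have h4 := hstj'.card D
  rw [ha2] at h4
  have := Nat.le_of_dvd (by omega) (AddSubgroup.card_dvd_of_le hsub)
  omega

theorem fpf (i : Fin 3) (u : V) (hu : D.r (hd i) u = u) : u = 0 := by
  haveI := D.finite
  by_cases h3 : ∀ w : V, (∀ l, D.pj l w = w) → w = 0
  swap
  · push Not at h3
    obtain ⟨w, hw, hw0⟩ := h3
    rw [← D.full_of_triple hw hw0 i u, D.pj_of_fix hu]
  exfalso
  let W : Fin 3 → AddSubgroup V := fun l => (D.pj l - AddMonoidHom.id V).ker
  have hmem : ∀ l w, w ∈ W l ↔ D.pj l w = w := fun l w => by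
    simp [W, AddMonoidHom.mem_ker, sub_eq_zero]
  have hst : ∀ l, D.Stable l (W l) := fun l w hw =>
    ⟨(hmem _ _).2 (by rw [pj_hs, (hmem l w).1 hw]), (hmem _ _).2 (by rw [pj_hd, (hmem l w).1 hw]),
      (hmem l w).1 hw⟩
  have hne : ∀ l, W l ≠ ⊥ := fun l e => hd_ne_one l (D.faithful _ fun w => D.pj_fix (by
    have := (hmem l _).2 (D.pj_idem l w)
    rwa [e, AddSubgroup.mem_bot] at this))
  have hort : ∀ l l', l ≠ l' → ∀ w ∈ W l', D.pj l w = 0 := fun l l' h w hw => by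
    rw [← (hmem l' w).1 hw, D.no_pair h3 h]
  obtain ⟨l, hl⟩ : ∃ l, Nat.card ↥(W l ⊓ D.fix l) = 2 := by
    by_contra hn
    push Not at hn
    have hbig : ∀ l, 16 ≤ Nat.card (W l) := fun l => by
      rw [(hst l).card D]
      have h1 := D.exists_ne_zero_fix (hst l) (hne l)
      have h4 : 4 ≤ Nat.card ↥(W l ⊓ D.fix l) := by
        by_contra h4
        have e3 : Nat.card ↥(W l ⊓ D.fix l) = 3 := by have := hn l; omega
        have hdvd := AddSubgroup.card_addSubgroup_dvd_card (W l ⊓ D.fix l)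
        rw [e3, D.card] at hdvd
        norm_num at hdvd
      nlinarith
    let f : W 0 × W 1 × W 2 → V := fun p => (p.1 : V) + p.2.1 + p.2.2
    have hf : Function.Injective f := by
      rintro ⟨a, b, c⟩ ⟨a', b', c'⟩ e
      have key : ∀ l : Fin 3, D.pj l (f ⟨a, b, c⟩) = D.pj l (f ⟨a', b', c'⟩) := fun l => by rw [e]
      have k0 := key 0
      have k1 := key 1
      have k2 := key 2
      simp only [f, map_add, hort 0 1 (by decide) _ b.2, hort 0 1 (by decide) _ b'.2,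
        hort 0 2 (by decide) _ c.2, hort 0 2 (by decide) _ c'.2, (hmem 0 _).1 a.2, (hmem 0 _).1 a'.2,
        add_zero] at k0
      simp only [f, map_add, hort 1 0 (by decide) _ a.2, hort 1 0 (by decide) _ a'.2,
        hort 1 2 (by decide) _ c.2, hort 1 2 (by decide) _ c'.2, (hmem 1 _).1 b.2, (hmem 1 _).1 b'.2,
        add_zero, zero_add] at k1
      simp only [f, map_add, hort 2 0 (by decide) _ a.2, hort 2 0 (by decide) _ a'.2,
        hort 2 1 (by decide) _ b.2, hort 2 1 (by decide) _ b'.2, (hmem 2 _).1 c.2, (hmem 2 _).1 c'.2,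
        add_zero, zero_add] at k2
      rw [Subtype.ext k0, Subtype.ext k1, Subtype.ext k2]
    have h := Nat.card_le_card_of_injective f hf
    rw [Nat.card_prod, Nat.card_prod, D.card] at h
    nlinarith [hbig 0, hbig 1, hbig 2, Nat.mul_le_mul (hbig 1) (hbig 2)]
  obtain ⟨c, hc, hc0⟩ := (AddSubgroup.bot_or_exists_ne_zero (W l ⊓ D.fix l)).resolve_left
    (fun e => by rw [e, AddSubgroup.card_bot] at hl; omega)
  obtain ⟨j, hj⟩ : ∃ j, j ≠ l := exists_ne l
  -- the other involution is trivial on the piece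
  have hjc : D.sg j c = 0 := by
    have hm : D.sg j c ∈ W l ⊓ D.fix l := by
      refine ⟨(hmem _ _).2 (by rw [pj_sg, (hmem l c).1 hc.1]), D.mem_fix.2 ?_⟩
      rw [D.sg_apply j c, map_add, sg_hs, D.mem_fix.1 hc.2, map_zero, zero_add]
    rcases D.eq_of_card_two hl hc hc0 hm with e | e
    · exact e
    · have := D.sg_sg j c
      rw [e, e] at this
      exact absurd this hc0
  have hjW : ∀ w ∈ W l, D.sg j w = 0 := by
    have hst' : D.Stable l (W l ⊓ D.fix j) := (hst l).fix D hj.symm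
    have hcY : c ∈ W l ⊓ D.fix j ⊓ D.fix l := ⟨⟨hc.1, D.mem_fix.2 hjc⟩, hc.2⟩
    have hb : 2 ≤ Nat.card ↥(W l ⊓ D.fix j ⊓ D.fix l) := (AddSubgroup.one_lt_card_iff_ne_bot _).2
      fun e => hc0 (by rwa [e, AddSubgroup.mem_bot] at hcY)
    have hY : Nat.card (W l) ≤ Nat.card ↥(W l ⊓ D.fix j) := by
      rw [(hst l).card D, hst'.card D, hl]; gcongr
    intro w hw
    exact D.mem_fix.1 ((AddSubgroup.eq_of_le_of_card_ge inf_le_left hY).ge hw).2
  have hperp : ∀ w ∈ W l, D.B w D.v = 0 := fun w hw => by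
    rw [← (hmem l w).1 hw, pj_B, ← D.m_eq j, ← sg_apply, pj_sg, hjW _ ((hmem _ _).2 (D.pj_idem _ _)),
      D.B_zero]
  have hdc : D.r (hd l) c ∈ W l := ((hst l) c hc.1).2.1
  have hd2 : D.r (hd l * hd l) c ∈ W l := by rw [r_mul]; exact ((hst l) _ hdc).2.1
  have hcM : c ∈ D.M := by
    have e := D.homotopy l c
    rw [D.mem_fix.1 hc.2, map_zero, zero_add, (hmem l c).1 hc.1] at e
    rw [← e]
    exact D.perp l _ (hperp _ hd2)
  have hsum : c + D.r (hd l) c = D.r (hd l * hd l) c := by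
    refine D.eq_of_add ?_
    rw [add_assoc, ← pj_apply, (hmem l c).1 hc.1, D.two]
  have hB : D.B c (D.r (hd l) c) = 0 := D.sing_B _ _ (D.M_sing c hcM) (D.sing_inv _ _ (D.M_sing c hcM))
    (by rw [hsum]; exact D.sing_inv _ _ (D.M_sing c hcM))
  have hcc : D.B c c = 0 := D.M_iso c hcM c hcM
  refine hc0 (D.nondeg c fun y => ?_)
  rw [← (hmem l c).1 hc.1, pj_B]
  set w := D.pj l y
  have hw : w ∈ W l := (hmem l _).2 (D.pj_idem _ _)
  have hs' : D.sg l w ∈ W l ⊓ D.fix l := ⟨(W l).add_mem hw ((hst l) w hw).1, D.mem_fix.2 (D.sg_sg l w)⟩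
  have hs2 : D.sg l (D.r (hd l * hd l) w) ∈ W l ⊓ D.fix l := by
    have hw2 : D.r (hd l * hd l) w ∈ W l := by rw [r_mul]; exact ((hst l) _ ((hst l) w hw).2.1).2.1
    exact ⟨(W l).add_mem hw2 ((hst l) _ hw2).1, D.mem_fix.2 (D.sg_sg l _)⟩
  have e := D.homotopy l w
  rw [(hmem l w).1 hw] at e
  rw [← e, D.B_add']
  rcases D.eq_of_card_two hl hc hc0 hs' with e1 | e1 <;> rw [e1] <;>
    rcases D.eq_of_card_two hl hc hc0 hs2 with e2 | e2 <;> rw [e2] <;>
    simp [D.B_zero, hB, hcc]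

theorem stable_top (i : Fin 3) : D.Stable i ⊤ := fun u _ =>
  ⟨AddSubgroup.mem_top _, AddSubgroup.mem_top _, D.eq_of_add (D.fpf i _ (by
    have e : D.pj i (D.pj i u + u) = 0 := by rw [map_add, pj_idem, D.two]
    exact D.pj_fix e))⟩

theorem pj_eq (i : Fin 3) (u : V) : D.pj i u = u := (D.stable_top i u (AddSubgroup.mem_top _)).2.2

theorem fix_all {u : V} (h : ∀ i, D.r (hs i) u = u) : u = 0 ∨ u = D.v := by
  have h0 : D.Stable 1 (⊤ ⊓ D.fix 0) := (D.stable_top 1).fix D (by decide)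
  have h01 : D.Stable 2 (⊤ ⊓ D.fix 0 ⊓ D.fix 1) := ((D.stable_top 2).fix D (by decide)).fix D (by decide)
  have hc := (D.stable_top 0).card D
  rw [h0.card D, h01.card D, AddSubgroup.card_top, D.card, ← pow_mul, ← pow_mul] at hc
  have h2 : Nat.card ↥(⊤ ⊓ D.fix 0 ⊓ D.fix 1 ⊓ D.fix 2) = 2 := by
    refine Nat.pow_left_injective (n := 8) (by norm_num) ?_
    show Nat.card ↥(⊤ ⊓ D.fix 0 ⊓ D.fix 1 ⊓ D.fix 2) ^ 8 = 2 ^ 8
    rw [show (2 : ℕ) ^ 8 = 256 by norm_num, hc]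
  have hmem : ∀ w, (∀ i, D.r (hs i) w = w) → w ∈ ⊤ ⊓ D.fix 0 ⊓ D.fix 1 ⊓ D.fix 2 := fun w hw =>
    ⟨⟨⟨AddSubgroup.mem_top _, D.mem_fix.2 (D.sg_eq_zero.2 (hw 0))⟩, D.mem_fix.2 (D.sg_eq_zero.2 (hw 1))⟩,
      D.mem_fix.2 (D.sg_eq_zero.2 (hw 2))⟩
  exact D.eq_of_card_two h2 (hmem _ D.v_fix) D.v_ne (hmem u h)

theorem fix_iso {i : Fin 3} {u w : V} (hu : D.r (hs i) u = u) (hw : D.r (hs i) w = w) : D.B u w = 0 := by
  obtain ⟨u', -, rfl⟩ := (D.stable_top i).exists_sg D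
    (u := u) ⟨AddSubgroup.mem_top _, D.mem_fix.2 (D.sg_eq_zero.2 hu)⟩
  have e : D.B (D.r (hs i) u') w = D.B u' w := by
    conv_lhs => rw [← hw]
    rw [D.B_inv]
  rw [sg_apply, D.B_add, e]
  exact ZModModule.add_self _

theorem gen {p : V → Prop} (h0 : p 0) (hadd : ∀ u w, p u → p w → p (u + w))
    (hp : ∀ h, p (D.r h D.v)) : ∀ u, p u := by
  let S : AddSubgroup V := AddSubgroup.closure (Set.range fun h => D.r h D.v)
  have hr : ∀ g, ∀ u ∈ S, D.r g u ∈ S := fun g u hu => by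
    refine AddSubgroup.closure_induction (p := fun u _ => D.r g u ∈ S) ?_ ?_ ?_ ?_ hu
    · rintro _ ⟨h, rfl⟩; exact AddSubgroup.subset_closure ⟨g * h, D.r_mul g h _⟩
    · rw [map_zero]; exact S.zero_mem
    · intro a b _ _ ha hb; rw [map_add]; exact S.add_mem ha hb
    · intro a _ ha; rw [map_neg]; exact S.neg_mem ha
  have step : ∀ {i : Fin 3} {W : AddSubgroup V}, D.Stable i W → W ⊓ D.fix i ≤ S → W ≤ S := fun {i W} hW hle u hu => by
    have e := D.homotopy i u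
    rw [D.pj_eq] at e
    rw [← e]
    obtain ⟨h1, h2, -⟩ := hW u hu
    have hd2 : D.r (hd i * hd i) u ∈ W := by rw [r_mul]; exact (hW _ h2).2.1
    exact S.add_mem (hr _ _ (hle ⟨W.add_mem hu h1, D.mem_fix.2 (D.sg_sg i u)⟩))
      (hle ⟨W.add_mem hd2 (hW _ hd2).1, D.mem_fix.2 (D.sg_sg i _)⟩)
  have h2' : ⊤ ⊓ D.fix 0 ⊓ D.fix 1 ⊓ D.fix 2 ≤ S := fun u hu => by
    obtain ⟨⟨⟨-, a⟩, b⟩, c⟩ := hu
    have hf : ∀ i, D.r (hs i) u = u := fun i => D.sg_eq_zero.1 (by
      fin_cases i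
      exacts [D.mem_fix.1 a, D.mem_fix.1 b, D.mem_fix.1 c])
    rcases D.fix_all hf with e | e <;> rw [e]
    · exact S.zero_mem
    · exact AddSubgroup.subset_closure ⟨1, D.r_one _⟩
  have htop : (⊤ : AddSubgroup V) ≤ S := step (D.stable_top 0)
    (step ((D.stable_top 1).fix D (by decide)) (step (((D.stable_top 2).fix D (by decide)).fix D (by decide)) h2'))
  intro u
  refine AddSubgroup.closure_induction (p := fun u _ => p u) ?_ h0 (fun a b _ _ => hadd a b) ?_
    (htop (AddSubgroup.mem_top u))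
  · rintro _ ⟨h, rfl⟩; exact hp h
  · intro a _ ha
    rwa [show -a = a from (D.eq_of_add (show a + -a = 0 from add_neg_cancel a)).symm]

theorem r_fix {h : H3} (hh : ∀ i, h i = 1 ∨ h i = Equiv.swap 0 1) : D.r h D.v = D.v := by
  have e : h = (if h 0 = 1 then 1 else hs 0) * (if h 1 = 1 then 1 else hs 1) * (if h 2 = 1 then 1 else hs 2) := by
    funext i
    rcases hh 0 with a | a <;> rcases hh 1 with b | b <;> rcases hh 2 with c | c <;>
      fin_cases i <;> simp [hs, a, b, c, Pi.mulSingle_eq_same]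
  rw [e, r_mul, r_mul]
  split_ifs <;> simp [r_one, D.v_fix]

theorem B_opposite : D.B D.v (D.r (hd 0 * hd 1 * hd 2) D.v) = 1 := by
  by_contra hne
  have h0 : D.B D.v (D.r (hd 0 * hd 1 * hd 2) D.v) = 0 :=
    ((by decide : ∀ a : ZMod 2, a = 0 ∨ a = 1) _).resolve_right hne
  refine D.v_ne (D.nondeg _ (D.gen (p := fun u => D.B D.v u = 0) (D.B_zero _)
    (fun u w hu hw => by rw [D.B_add', hu, hw, add_zero]) fun h => ?_))
  by_cases hc : ∃ i, hs i * h = h * hs i
  · obtain ⟨i, hi⟩ := hc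
    exact D.fix_iso (D.v_fix i) (by rw [← r_mul, hi, r_mul, D.v_fix])
  · push Not at hc
    have key : ∀ g : Equiv.Perm (Fin 3), Equiv.swap 0 1 * g ≠ g * Equiv.swap 0 1 → ∃ a b : Equiv.Perm (Fin 3),
        (a = 1 ∨ a = Equiv.swap 0 1) ∧ (b = 1 ∨ b = Equiv.swap 0 1) ∧
        g = a * (Equiv.swap 0 1 * Equiv.swap 1 2) * b := by decide +kernel
    have hh : ∀ i, Equiv.swap 0 1 * h i ≠ h i * Equiv.swap 0 1 := fun i e => hc i (by
      funext j
      by_cases hj : j = i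
      · subst hj; simpa [hs, Pi.mulSingle_eq_same] using e
      · simp [hs, Pi.mulSingle_eq_of_ne hj])
    choose a b ha hb hab using fun i => key (h i) (hh i)
    have e : h = a * (hd 0 * hd 1 * hd 2) * b := by
      funext i
      rw [Pi.mul_apply, Pi.mul_apply, hab i]
      fin_cases i <;> simp [hd, Pi.mulSingle_eq_same]
    rw [e, r_mul, r_mul, D.r_fix hb]
    nth_rewrite 1 [← D.r_fix ha]
    rw [D.B_inv, h0]

end Cube

end CfsgLib.O8Plus
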