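import Cfsg.Agent.O8Plus.Good

/-!
The root elements in the centraliser of the first involution.
-/

set_option autoImplicit false
set_option linter.style.haveILetI false
set_option linter.unusedSectionVars false

namespace CfsgLib.O8Plus

open Subgroup CfsgLib.LargeExtra CfsgLib.Extra2

universe u v

namespace Good

variable {G : Type u} [Group G] {t : G} {V : Type v} [AddCommGroup V] (D : Good t V) [Finite G]

include D

/-- The conjugates of the second involution in one factor. -/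
def e (i : Fin 3) : G := D.L.δ i * D.x * (D.L.δ i)⁻¹

theorem e_mem (i : Fin 3) : D.e i ∈ D.Q := D.conj_mem (D.L.δ_t i) D.x_mem

theorem e_sq (i : Fin 3) : D.e i * D.e i = 1 := by
  calc D.e i * D.e i = D.L.δ i * (D.x * D.x) * (D.L.δ i)⁻¹ := by rw [e]; group
    _ = 1 := by rw [D.x_sq]; group

theorem e_cls (i : Fin 3) : D.cls (D.e i) = D.r (hd i) D.vx := by
  rw [e, D.cls_conj _ (D.L.δ_t i) _ D.x_mem, D.L.δ_ph]; rfl

theorem w_x (i : Fin 3) : Commute (D.L.w i) D.x := D.toFrame.commute_w_x D.L i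

theorem fix_two {i : Fin 3} {u : V} (h : ∀ j, j ≠ i → D.r (hs j) u = u) :
    u = 0 ∨ u = D.vx ∨ u = D.r (hd i) D.vx ∨ u = D.r (hd i) D.vx + D.vx := by
  have hh := D.toFrame.cube.homotopy i u
  rw [D.toFrame.cube.pj_eq] at hh
  have hfix : ∀ {z : V}, (∀ j, j ≠ i → D.r (hs j) z = z) → D.toFrame.cube.sg i z = 0 ∨ D.toFrame.cube.sg i z = D.vx := by
    intro z hz
    refine D.toFrame.cube.fix_all fun j => ?_
    show D.r (hs j) (D.toFrame.cube.sg i z) = _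
    by_cases hj : j = i
    · rw [hj]; exact D.toFrame.cube.sg_eq_zero.1 (D.toFrame.cube.sg_sg i z)
    · rw [show D.toFrame.cube.sg i z = z + D.r (hs i) z from rfl, map_add, ← D.r_mul, hs_comm, D.r_mul, hz j hj]
  have h2 : ∀ j, j ≠ i → D.r (hs j) (D.r (hd i * hd i) u) = D.r (hd i * hd i) u := fun j hj => by
    have c : Commute (hs j) (hd i) := hs_hd_comm j i hj
    rw [← D.r_mul, (c.mul_right c).eq, D.r_mul, h j hj]
  have key : D.r (hd i) (D.toFrame.cube.sg i u) + D.toFrame.cube.sg i (D.r (hd i * hd i) u) = u := hh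
  rcases hfix h with a | a <;> rcases hfix h2 with b | b <;> rw [a, b] at key <;> rw [← key]
  · exact Or.inl (by rw [map_zero, add_zero])
  · exact Or.inr (Or.inl (by rw [map_zero, zero_add]))
  · exact Or.inr (Or.inr (Or.inl (by rw [add_zero])))
  · exact Or.inr (Or.inr (Or.inr rfl))

theorem e_R (i : Fin 3) : D.e i ∈ D.R := by
  obtain ⟨m, hm, hmR, hmf, hmi⟩ := D.toFrame.exists_dual i
  have key : ∃ y ∈ D.Q, y ∈ D.R ∧ D.cls y = D.r (hd i) D.vx := by
    rcases D.fix_two hmf with e | e | e | e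
    · rw [e, map_zero, add_zero] at hmi; exact absurd hmi.symm D.vx_ne
    · rw [e, D.vx_fix, D.two] at hmi; exact absurd hmi.symm D.vx_ne
    · exact ⟨m, hm, hmR, e⟩
    · exact ⟨m * D.x, mul_mem hm D.x_mem, mul_mem hmR D.x_memR, by
        rw [D.cls_mul _ hm _ D.x_mem, e, add_assoc]
        show D.r (hd i) D.vx + (D.vx + D.vx) = _
        rw [D.two, add_zero]⟩
  obtain ⟨y, hy, hyR, hyc⟩ := key
  rcases D.eq_or hy (D.e_mem i) (hyc.trans (D.e_cls i).symm) with h | h <;> rw [h]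
  exacts [hyR, mul_mem hyR D.t_memR]

theorem x_e (i : Fin 3) : Commute D.x (D.e i) :=
  D.E_commute D.x_mem D.x_memR (D.e_mem i) (D.e_R i)

theorem δ_inv_conj (i : Fin 3) : (D.L.δ i)⁻¹ * D.x * D.L.δ i = D.e i * D.x := by
  have h : D.x * D.e i * ((D.L.δ i)⁻¹ * D.x * D.L.δ i) = 1 := D.good i
  rw [eq_inv_of_mul_eq_one_right h, mul_inv_rev, D.x_inv, inv_eq_of_mul_eq_one_right (D.e_sq i)]

theorem w_e_self (i : Fin 3) : D.L.w i * D.e i * D.L.w i = D.e i * D.x := by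
  rw [← D.δ_inv_conj i]
  have h1 : D.L.w i * D.L.δ i = (D.L.δ i)⁻¹ * D.L.w i := by
    rw [← D.L.wδ i, mul_assoc _ (D.L.w i) (D.L.w i), D.L.w_sq, mul_one]
  have h2 : (D.L.δ i)⁻¹ * D.L.w i = D.L.w i * D.L.δ i := h1.symm
  calc D.L.w i * D.e i * D.L.w i = (D.L.w i * D.L.δ i) * D.x * (D.L.w i * D.L.δ i)⁻¹ := by
        rw [e, mul_inv_rev, D.L.w_inv]; group
    _ = (D.L.δ i)⁻¹ * (D.L.w i * D.x) * ((D.L.w i)⁻¹ * D.L.δ i) := by rw [h1]; group
    _ = _ := by rw [(D.w_x i).eq]; group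

theorem w_e_ne {i j : Fin 3} (h : i ≠ j) : Commute (D.L.w i) (D.e j) :=
  ((D.L.wδ_comm i j h).mul_right (D.w_x i)).mul_right (D.L.wδ_comm i j h).inv_right

theorem e_ph (i : Fin 3) : D.r (hs i) (D.cls (D.e i)) = D.cls (D.e i) + D.vx := by
  rw [← D.L.w_ph i, ← D.cls_conj _ (D.L.w_t i) _ (D.e_mem i), D.L.w_inv, D.w_e_self,
    D.cls_mul _ (D.e_mem i) _ D.x_mem]
  rfl

theorem w_mem_R (i : Fin 3) : D.L.w i ∈ D.R := by
  classical
  obtain ⟨b, hb, hbt, hbe⟩ := D.lift i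
  set q := D.L.w i * b⁻¹ with hq
  have hqQ : q ∈ D.Q := (D.ph_Q _ ((D.L.w_t i).mul_left hbt.inv_left)).1 (by
    rw [D.ph_mul _ _ (D.L.w_t i) hbt.inv_left, D.ph_inv hbt, D.L.w_ph, hbe, mul_inv_cancel])
  have hqx : Commute q D.x := (D.w_x i).mul_left (D.comm_x hb).inv_left
  have hqe : ∀ j, Commute q (D.e j) := by
    intro j
    by_cases hji : j = i
    · subst hji
      have h1 : b * D.e j * b⁻¹ = D.x * D.e j := by
        rcases D.pair.pre'.gen.comm b hb _ (D.e_R j) with c | c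
        · exfalso
          have h := D.cls_conj b hbt _ (D.e_mem j)
          rw [mul_inv_eq_one.1 c, hbe, D.e_ph] at h
          exact D.vx_ne (left_eq_add.1 h)
        · exact mul_inv_eq_iff_eq_mul.1 c
      have h2 : b⁻¹ * D.e j * b = D.x * D.e j := by
        have hxb : b * D.x * b⁻¹ = D.x := by rw [(D.comm_x hb).eq, mul_inv_cancel_right]
        calc b⁻¹ * D.e j * b = b⁻¹ * (D.x * (D.x * D.e j)) * b := by rw [← mul_assoc D.x, D.x_sq, one_mul]
          _ = b⁻¹ * (D.x * (b * D.e j * b⁻¹)) * b := by rw [h1]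
          _ = b⁻¹ * ((D.x * b) * D.e j) := by group
          _ = D.x * D.e j := by rw [← (D.comm_x hb).eq, mul_assoc, inv_mul_cancel_left]
      refine mul_inv_eq_iff_eq_mul.1 ?_
      calc q * D.e j * q⁻¹ = D.L.w j * (b⁻¹ * D.e j * b) * D.L.w j := by rw [hq, mul_inv_rev, D.L.w_inv]; group
        _ = D.L.w j * D.x * (D.L.w j * D.L.w j) * (D.e j * D.L.w j) := by
          rw [h2, D.L.w_sq, mul_one]; group
        _ = (D.L.w j * D.x * D.L.w j) * (D.L.w j * D.e j * D.L.w j) := by group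
        _ = D.x * (D.e j * D.x) := by
          rw [D.w_e_self, (D.w_x j).eq, mul_assoc D.x, D.L.w_sq, mul_one]
        _ = D.x * (D.x * D.e j) := by rw [(D.x_e j).eq]
        _ = D.e j := by rw [← mul_assoc, D.x_sq, one_mul]
    · refine (D.w_e_ne (Ne.symm hji)).mul_left (Commute.inv_left ?_)
      rcases D.pair.pre'.gen.comm b hb _ (D.e_R j) with c | c
      · exact mul_inv_eq_iff_eq_mul.1 (mul_inv_eq_one.1 c)
      · exfalso
        have h := D.cls_conj b hbt _ (D.e_mem j)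
        rw [mul_inv_eq_iff_eq_mul.1 c, hbe, D.cls_mul _ D.x_mem _ (D.e_mem j), D.e_cls, ← D.r_mul,
          hs_hd_comm i j (Ne.symm hji), D.r_mul, D.vx_fix] at h
        exact D.vx_ne (add_eq_right.1 h)
  have hfix : ∀ u : V, ∀ j, D.r (hs j) (D.r (hd j) D.vx) = D.r (hd j) D.vx + D.vx := fun u j => by
    rw [← D.e_cls, D.e_ph]
  have hEQ : D.Q ⊓ centralizer (↑(D.Q ⊓ D.R) : Set G) = D.Q ⊓ D.R := by
    have h := card_mul_card_centralizer D.pre.gen (R := D.Q ⊓ D.R) ⟨D.pre.gen.mem, D.t_memR⟩ inf_le_left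
    rw [show Nat.card ↥(D.Q ⊓ D.R) = 32 from D.cardE, D.card] at h
    have hle : D.Q ⊓ D.R ≤ D.Q ⊓ centralizer (↑(D.Q ⊓ D.R) : Set G) := fun y hy =>
      ⟨hy.1, mem_centralizer_iff.2 fun z hz => (D.E_commute hz.1 hz.2 hy.1 hy.2).eq⟩
    refine (Subgroup.eq_of_le_of_card_ge hle ?_).symm
    rw [show Nat.card ↥(D.Q ⊓ D.R) = 32 from D.cardE]
    omega
  have hqE : q ∈ D.Q ⊓ D.R := by
    rw [← hEQ]
    refine ⟨hqQ, mem_centralizer_iff.2 ?_⟩
    rintro y ⟨hy, hyR⟩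
    refine Commute.eq (Commute.symm ((D.comm q hqQ y hy).2 ?_))
    -- the classes of the common part are spanned by those of the named elements
    have hsg : ∀ j, D.cls y + D.r (hs j) (D.cls y) = 0 ∨ D.cls y + D.r (hs j) (D.cls y) = D.vx := by
      intro j
      obtain ⟨b', hb', hbt', hbe'⟩ := D.lift j
      rw [← hbe', ← D.cls_conj _ hbt' _ hy]
      rcases D.pair.pre'.gen.comm b' hb' _ hyR with c | c
      · left; rw [mul_inv_eq_one.1 c, D.two]
      · right; rw [mul_inv_eq_iff_eq_mul.1 c, D.cls_mul _ D.x_mem _ hy, add_left_comm, D.two, add_zero]; rfl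
    let u' : Fin 3 → V := fun j => if D.cls y + D.r (hs j) (D.cls y) = 0 then 0 else D.cls (D.e j)
    have hu : ∀ j l, u' j + D.r (hs l) (u' j) = if l = j then D.cls y + D.r (hs j) (D.cls y) else 0 := by
      intro j l
      by_cases h0 : D.cls y + D.r (hs j) (D.cls y) = 0
      · simp [u', if_pos h0, h0]
      · simp only [u', if_neg h0]
        by_cases hl : l = j
        · rw [hl, if_pos rfl, D.e_ph, ← add_assoc, D.two, zero_add, (hsg j).resolve_left h0]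
        · rw [if_neg hl, D.e_cls, ← D.r_mul, hs_hd_comm l j hl, D.r_mul, D.vx_fix, D.two]
    have hz := D.toFrame.cube.fix_all (u := D.cls y + (u' 0 + u' 1 + u' 2)) fun l => D.toFrame.cube.sg_eq_zero.1 (by
      rw [map_add, map_add, map_add]
      show (D.cls y + D.r (hs l) (D.cls y)) + ((u' 0 + D.r (hs l) (u' 0)) + (u' 1 + D.r (hs l) (u' 1)) +
        (u' 2 + D.r (hs l) (u' 2))) = 0
      rw [hu, hu, hu]
      fin_cases l <;> simp [D.two])
    have hy' : D.cls y = D.cls y + (u' 0 + u' 1 + u' 2) + (u' 0 + u' 1 + u' 2) := by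
      rw [add_assoc, D.two, add_zero]
    have hB : ∀ j, D.B (D.cls q) (u' j) = 0 := fun j => by
      by_cases h0 : D.cls y + D.r (hs j) (D.cls y) = 0
      · simp only [u', if_pos h0, D.B_zero]
      · simp only [u', if_neg h0]; exact (D.comm q hqQ _ (D.e_mem j)).1 (hqe j)
    have hz0 : D.B (D.cls q) (D.cls y + (u' 0 + u' 1 + u' 2)) = 0 := by
      rcases hz with e | e <;> rw [e]
      · exact D.B_zero _
      · exact (D.comm q hqQ _ D.x_mem).1 hqx
    rwa [D.B_add', D.B_add', D.B_add', hB, hB, hB, add_zero, add_zero, add_zero] at hz0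
  have : D.L.w i = q * b := by rw [hq, inv_mul_cancel_right]
  rw [this]
  exact mul_mem hqE.2 hb

/-- The product of the three elements of order three. -/
def Δ : G := D.L.δ 0 * D.L.δ 1 * D.L.δ 2

/-- The product of the three involutions. -/
def W : G := D.L.w 0 * D.L.w 1 * D.L.w 2

/-- The element interchanging the two families. -/
def S : G := D.Δ * D.W

/-- The opposite of the second involution. -/
def a : G := D.Δ * D.x * D.Δ⁻¹

/-- The commutator of the opposite involution with an involution of one factor. -/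
def c (i : Fin 3) : G := D.a * (D.L.w i * D.a * D.L.w i)

theorem Δ_t : Commute D.Δ t := ((D.L.δ_t 0).mul_left (D.L.δ_t 1)).mul_left (D.L.δ_t 2)

theorem W_t : Commute D.W t := ((D.L.w_t 0).mul_left (D.L.w_t 1)).mul_left (D.L.w_t 2)

theorem S_t : Commute D.S t := D.Δ_t.mul_left D.W_t

theorem W_x : Commute D.W D.x := ((D.w_x 0).mul_left (D.w_x 1)).mul_left (D.w_x 2)

theorem a_eq : D.a = D.S * D.x * D.S⁻¹ := by
  rw [a, S]
  calc D.Δ * D.x * D.Δ⁻¹ = D.Δ * (D.W * D.x * D.W⁻¹) * D.Δ⁻¹ := by rw [D.W_x.eq, mul_inv_cancel_right]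
    _ = _ := by group

theorem a_mem : D.a ∈ D.Q := D.conj_mem D.Δ_t D.x_mem

theorem a_sq : D.a * D.a = 1 := by
  calc D.a * D.a = D.Δ * (D.x * D.x) * D.Δ⁻¹ := by rw [a]; group
    _ = 1 := by rw [D.x_sq]; group

theorem a_inv : D.a⁻¹ = D.a := inv_eq_of_mul_eq_one_right D.a_sq

theorem a_cls : D.cls D.a = D.r (hd 0 * hd 1 * hd 2) D.vx := by
  rw [a, D.cls_conj _ D.Δ_t _ D.x_mem, Δ, D.ph_mul _ _ ((D.L.δ_t 0).mul_left (D.L.δ_t 1)) (D.L.δ_t 2),
    D.ph_mul _ _ (D.L.δ_t 0) (D.L.δ_t 1), D.L.δ_ph, D.L.δ_ph, D.L.δ_ph]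
  rfl

theorem a_x : D.a * D.x * D.a = D.x * t := by
  have hne : ¬ Commute D.a D.x := fun h => by
    have h2 := (D.comm _ D.a_mem _ D.x_mem).1 h
    rw [D.a_cls, D.B_comm] at h2
    exact one_ne_zero (D.toFrame.cube.B_opposite.symm.trans h2)
  rcases conj_eq D.pre.gen D.a_mem D.x_mem with h | h
  · exact absurd (mul_inv_eq_iff_eq_mul.1 h) hne
  · rw [D.a_inv] at h; rw [h]; exact D.tx.eq

theorem Δ_w {i j k : Fin 3} (hi : j ≠ i) (hk : k ≠ i) (h : D.Δ = D.L.δ i * (D.L.δ j * D.L.δ k)) :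
    D.L.u i = D.Δ * D.L.w i * D.Δ⁻¹ := by
  have c : Commute (D.L.δ j * D.L.δ k) (D.L.w i) :=
    ((D.L.wδ_comm i j hi.symm).symm).mul_left (D.L.wδ_comm i k hk.symm).symm
  rw [h, Levi.u]
  calc D.L.δ i * D.L.w i * (D.L.δ i)⁻¹
      = D.L.δ i * (D.L.w i * (D.L.δ j * D.L.δ k)) * (D.L.δ j * D.L.δ k)⁻¹ * (D.L.δ i)⁻¹ := by group
    _ = _ := by rw [← c.eq]; group

theorem Δ_split (i : Fin 3) : ∃ j k, j ≠ i ∧ k ≠ i ∧ j ≠ k ∧ D.Δ = D.L.δ i * (D.L.δ j * D.L.δ k) := by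
  have c : ∀ p q, Commute (D.L.δ p) (D.L.δ q) := D.L.δ_comm
  have h0 : D.Δ = D.L.δ 0 * (D.L.δ 1 * D.L.δ 2) := mul_assoc _ _ _
  fin_cases i
  · exact ⟨1, 2, by decide, by decide, by decide, h0⟩
  · refine ⟨0, 2, by decide, by decide, by decide, ?_⟩
    show D.Δ = D.L.δ 1 * (D.L.δ 0 * D.L.δ 2)
    rw [← mul_assoc, ← (c 0 1).eq]; rfl
  · refine ⟨0, 1, by decide, by decide, by decide, ?_⟩
    exact ((c 2 0).mul_right (c 2 1)).eq.symm

theorem a_u (i : Fin 3) : Commute D.a (D.L.u i) := by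
  obtain ⟨j, k, hj, hk, -, h⟩ := D.Δ_split i
  rw [D.Δ_w hj hk h]
  exact (Commute.conj_iff D.Δ).2 (D.w_x i).symm

theorem comm_of_u {p q : G} (hp : p ∈ D.Q) (hq : q ∈ D.Q) {j : Fin 3} (h1 : Commute p (D.L.u j))
    (h2 : Commute q (D.L.u j)) : Commute p q := by
  refine (D.comm p hp q hq).2 ?_
  rw [← D.B_inv (hd j * hd j)]
  have key : ∀ {m}, m ∈ D.Q → Commute m (D.L.u j) →
      D.r (hs j) (D.r (hd j * hd j) (D.cls m)) = D.r (hd j * hd j) (D.cls m) := by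
    intro m hm h
    have e1 : D.r (D.ph (D.L.u j)) (D.cls m) = D.cls m := by
      rw [← D.cls_conj _ (D.L.u_t j) m hm, ← h.eq, mul_inv_cancel_right]
    conv_rhs => rw [← e1]
    rw [D.L.u_ph, ← D.r_mul, ← D.r_mul,
      show hd j * hd j * (hd j * hs j * (hd j * hd j)) = (hd j * hd j * hd j) * hs j * (hd j * hd j) by group,
      hd_cube, one_mul]
  exact D.toFrame.cube.fix_iso (key hp h1) (key hq h2)

theorem waw_mem (i : Fin 3) : D.L.w i * D.a * D.L.w i ∈ D.Q := by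
  have := D.conj_mem (D.L.w_t i) D.a_mem
  rwa [D.L.w_inv] at this

theorem waw_u {i j : Fin 3} (h : i ≠ j) : Commute (D.L.w i * D.a * D.L.w i) (D.L.u j) :=
  ((D.L.w_u_comm h).mul_left (D.a_u j)).mul_left (D.L.w_u_comm h)

theorem a_waw (i : Fin 3) : Commute D.a (D.L.w i * D.a * D.L.w i) := by
  obtain ⟨j, hj⟩ : ∃ j, j ≠ i := exists_ne i
  exact D.comm_of_u D.a_mem (D.waw_mem i) (D.a_u j) (D.waw_u hj.symm)

theorem c_mem (i : Fin 3) : D.c i ∈ D.Q := mul_mem D.a_mem (D.waw_mem i)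

theorem c_u {i j : Fin 3} (h : i ≠ j) : Commute (D.c i) (D.L.u j) := (D.a_u j).mul_left (D.waw_u h)

theorem waw_sq (i : Fin 3) : D.L.w i * D.a * D.L.w i * (D.L.w i * D.a * D.L.w i) = 1 := by
  calc D.L.w i * D.a * D.L.w i * (D.L.w i * D.a * D.L.w i)
      = D.L.w i * D.a * (D.L.w i * D.L.w i) * D.a * D.L.w i := by group
    _ = D.L.w i * (D.a * D.a) * D.L.w i := by rw [D.L.w_sq]; group
    _ = 1 := by rw [D.a_sq, mul_one, D.L.w_sq]

theorem c_sq (i : Fin 3) : D.c i * D.c i = 1 := by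
  rw [c]
  calc D.a * (D.L.w i * D.a * D.L.w i) * (D.a * (D.L.w i * D.a * D.L.w i))
      = D.a * ((D.L.w i * D.a * D.L.w i) * D.a) * (D.L.w i * D.a * D.L.w i) := by group
    _ = (D.a * D.a) * (D.L.w i * D.a * D.L.w i * (D.L.w i * D.a * D.L.w i)) := by
      rw [← (D.a_waw i).eq]; group
    _ = 1 := by rw [D.a_sq, D.waw_sq, one_mul]

theorem c_inv (i : Fin 3) : (D.c i)⁻¹ = D.c i := inv_eq_of_mul_eq_one_right (D.c_sq i)

theorem c_x (i : Fin 3) : Commute (D.c i) D.x := by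
  refine mul_inv_eq_iff_eq_mul.1 ?_
  rw [D.c_inv, c]
  have hw : D.L.w i * D.x * D.L.w i = D.x := by rw [(D.w_x i).eq, mul_assoc, D.L.w_sq, mul_one]
  have ha : D.a * (D.x * t) * D.a = D.x := by
    calc D.a * (D.x * t) * D.a = D.a * D.x * (t * D.a) := by group
      _ = D.a * D.x * (D.a * t) := by rw [(D.comm_t D.a_mem).eq]
      _ = D.x * (t * t) := by rw [← mul_assoc, D.a_x, mul_assoc]
      _ = D.x := by rw [D.t_sq, mul_one]
  calc D.a * (D.L.w i * D.a * D.L.w i) * D.x * (D.a * (D.L.w i * D.a * D.L.w i))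
      = D.a * (D.L.w i * D.a * D.L.w i * D.x * (D.L.w i * D.a * D.L.w i)) * D.a := by
        conv_lhs => rw [(D.a_waw i).eq]
        conv_lhs => rw [← (D.a_waw i).eq]
        rw [show D.a * (D.L.w i * D.a * D.L.w i) * D.x * (D.a * (D.L.w i * D.a * D.L.w i)) =
          D.a * (D.L.w i * D.a * D.L.w i * D.x * (D.a * (D.L.w i * D.a * D.L.w i))) by group,
          (D.a_waw i).eq]
        group
    _ = D.a * (D.L.w i * (D.a * (D.L.w i * D.x * D.L.w i) * D.a) * D.L.w i) * D.a := by group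
    _ = D.a * (D.L.w i * (D.x * t) * D.L.w i) * D.a := by rw [hw, D.a_x]
    _ = D.a * (D.x * t) * D.a := by
      rw [show D.L.w i * (D.x * t) * D.L.w i = D.L.w i * D.x * (t * D.L.w i) by group, ← (D.L.w_t i).eq,
        ← mul_assoc (D.L.w i * D.x), hw]
    _ = D.x := ha

theorem c_comm (i j : Fin 3) : Commute (D.c i) (D.c j) := by
  obtain ⟨k, hki, hkj⟩ : ∃ k, k ≠ i ∧ k ≠ j := by revert i j; decide
  exact D.comm_of_u (D.c_mem i) (D.c_mem j) (D.c_u hki.symm) (D.c_u hkj.symm)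

theorem S_conj_u (i : Fin 3) : D.S * D.L.u i * D.S⁻¹ = D.L.w i := by
  obtain ⟨j, k, hj, hk, hjk, h⟩ := D.Δ_split i
  have hWi : Commute D.W (D.L.w i) := ((D.L.w_comm 0 i).mul_left (D.L.w_comm 1 i)).mul_left (D.L.w_comm 2 i)
  have hW : D.W * D.L.u i * D.W⁻¹ = D.L.w i * D.L.u i * D.L.w i := by
    have hs : ∀ l, l ≠ i → Commute (D.L.w l) (D.L.u i) := fun l hl => D.L.w_u_comm hl
    have hsplit : ∃ p, Commute p (D.L.u i) ∧ D.W = D.L.w i * p := by
      fin_cases i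
      · exact ⟨D.L.w 1 * D.L.w 2, (hs 1 (by decide)).mul_left (hs 2 (by decide)), mul_assoc _ _ _⟩
      · refine ⟨D.L.w 0 * D.L.w 2, (hs 0 (by decide)).mul_left (hs 2 (by decide)), ?_⟩
        show D.W = D.L.w 1 * (D.L.w 0 * D.L.w 2)
        rw [← mul_assoc, ← (D.L.w_comm 0 1).eq]; rfl
      · exact ⟨D.L.w 0 * D.L.w 1, (hs 0 (by decide)).mul_left (hs 1 (by decide)),
          ((D.L.w_comm 2 0).mul_right (D.L.w_comm 2 1)).eq.symm⟩
    obtain ⟨p, hp, hWe⟩ := hsplit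
    calc D.W * D.L.u i * D.W⁻¹ = D.L.w i * (p * D.L.u i * p⁻¹) * (D.L.w i)⁻¹ := by rw [hWe]; group
      _ = _ := by rw [hp.eq, mul_inv_cancel_right, D.L.w_inv]
  have hd3 : D.L.δ i * D.L.δ i * D.L.δ i = 1 := D.L.δ_cube i
  calc D.S * D.L.u i * D.S⁻¹ = D.Δ * (D.W * D.L.u i * D.W⁻¹) * D.Δ⁻¹ := by rw [S]; group
    _ = D.Δ * (D.L.δ i * D.L.w i) * D.Δ⁻¹ := by rw [hW, ← D.L.w_u]
    _ = D.L.δ i * (D.L.δ j * D.L.δ k * (D.L.δ i * D.L.w i)) * (D.L.δ j * D.L.δ k)⁻¹ * (D.L.δ i)⁻¹ := by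
      rw [h]; group
    _ = D.L.δ i * (D.L.δ i * D.L.w i) * (D.L.δ i)⁻¹ := by
      have cc : Commute (D.L.δ j * D.L.δ k) (D.L.δ i * D.L.w i) :=
        ((D.L.δ_comm j i).mul_right (D.L.wδ_comm i j hj.symm).symm).mul_left
          ((D.L.δ_comm k i).mul_right (D.L.wδ_comm i k hk.symm).symm)
      rw [cc.eq]; group
    _ = (D.L.δ i * D.L.δ i) * D.L.w i * (D.L.δ i)⁻¹ := by group
    _ = (D.L.w i * D.L.δ i * D.L.w i) * D.L.w i * (D.L.δ i)⁻¹ := by rw [← D.L.δ_inv, D.L.wδ]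
    _ = D.L.w i * D.L.δ i * (D.L.w i * D.L.w i) * (D.L.δ i)⁻¹ := by group
    _ = _ := by rw [D.L.w_sq, mul_one, mul_inv_cancel_right]

theorem c_eq (i : Fin 3) : D.c i = D.S * D.e i * D.S⁻¹ := by
  have hu : D.L.u i * D.x * D.L.u i = D.e i * D.x := by
    rw [← D.δ_inv_conj i]
    calc D.L.u i * D.x * D.L.u i = D.L.δ i * D.L.w i * ((D.L.δ i)⁻¹ * D.x * D.L.δ i) * D.L.w i * (D.L.δ i)⁻¹ := by
          rw [Levi.u]; group
      _ = D.L.δ i * (D.L.w i * (D.e i * D.x) * D.L.w i) * (D.L.δ i)⁻¹ := by rw [D.δ_inv_conj]; group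
      _ = D.L.δ i * (D.L.w i * D.e i * (D.x * D.L.w i)) * (D.L.δ i)⁻¹ := by group
      _ = D.L.δ i * (D.L.w i * D.e i * D.L.w i * D.x) * (D.L.δ i)⁻¹ := by rw [← (D.w_x i).eq]; group
      _ = D.L.δ i * (D.L.δ i * D.x * (D.L.δ i)⁻¹) * (D.x * D.x) * (D.L.δ i)⁻¹ := by
        rw [D.w_e_self, e]; group
      _ = D.L.δ i * D.L.δ i * D.x * ((D.L.δ i) * D.L.δ i)⁻¹ := by rw [D.x_sq]; group
      _ = (D.L.δ i)⁻¹ * D.x * D.L.δ i := by rw [← D.L.δ_inv, inv_inv]
  have hx : D.x * (D.e i * D.x) = D.e i := by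
    rw [← mul_assoc, (D.x_e i).eq, mul_assoc, D.x_sq, mul_one]
  calc D.c i = (D.S * D.x * D.S⁻¹) * ((D.S * D.L.u i * D.S⁻¹) * (D.S * D.x * D.S⁻¹) *
        (D.S * D.L.u i * D.S⁻¹)) := by rw [D.S_conj_u, ← D.a_eq]; rfl
    _ = D.S * (D.x * (D.L.u i * D.x * D.L.u i)) * D.S⁻¹ := by group
    _ = _ := by rw [hu, hx]

theorem u_e_self (i : Fin 3) : D.e i * (D.L.w i * D.e i * D.L.w i) = D.x := by
  rw [D.w_e_self, ← mul_assoc, D.e_sq, one_mul]

theorem c_u_self (i : Fin 3) : D.c i * D.L.u i * D.c i * D.L.u i = D.a := by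
  have hu : D.L.u i = D.S * D.L.w i * D.S⁻¹ := by
    have h := D.S_conj_u i
    obtain ⟨j, k, hj, hk, -, hΔ⟩ := D.Δ_split i
    have hWi : Commute D.W (D.L.w i) := ((D.L.w_comm 0 i).mul_left (D.L.w_comm 1 i)).mul_left (D.L.w_comm 2 i)
    rw [D.Δ_w hj hk hΔ, S]
    calc D.Δ * D.L.w i * D.Δ⁻¹ = D.Δ * (D.W * D.L.w i * D.W⁻¹) * D.Δ⁻¹ := by
          rw [hWi.eq, mul_inv_cancel_right]
      _ = _ := by group
  rw [D.c_eq, hu, D.a_eq]
  calc D.S * D.e i * D.S⁻¹ * (D.S * D.L.w i * D.S⁻¹) * (D.S * D.e i * D.S⁻¹) * (D.S * D.L.w i * D.S⁻¹)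
      = D.S * (D.e i * (D.L.w i * D.e i * D.L.w i)) * D.S⁻¹ := by group
    _ = _ := by rw [D.u_e_self]

theorem S_δ (i : Fin 3) : ∀ j, j ≠ i → Commute (D.L.δ j) (D.L.w i) := fun j hj => (D.L.wδ_comm i j hj.symm).symm

/-- An element of the other radical whose commutator with the opposite involution lies in the common part
lies in the first radical. -/
theorem inj_a {β : G} (hβ : β ∈ D.R) (hβt : Commute β t) (h : D.a * β * D.a⁻¹ * β⁻¹ ∈ D.R) : β ∈ D.Q := by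
  classical
  refine (D.ph_Q β hβt).1 (funext fun i => ?_)
  by_contra hne
  have hi : D.ph β i = Equiv.swap 0 1 := (D.img β hβ hβt i).resolve_left hne
  have hk : D.a * β * D.a⁻¹ * β⁻¹ = D.a * (β * D.a * β⁻¹)⁻¹ * 1 := by rw [mul_one]; group
  have hconj := D.conj_mem hβt D.a_mem
  have hm : D.a * β * D.a⁻¹ * β⁻¹ ∈ D.Q := by rw [hk]; exact mul_mem (mul_mem D.a_mem (inv_mem hconj)) (one_mem _)
  have h0 := (D.comm _ hm _ (D.e_mem i)).1 (D.E_commute hm h (D.e_mem i) (D.e_R i))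
  rw [hk, mul_one, D.cls_mul _ D.a_mem _ (inv_mem hconj), D.cls_inv hconj, D.cls_conj β hβt _ D.a_mem,
    D.B_add] at h0
  have hinv : D.ph β * D.ph β = 1 := funext fun j => by
    rcases D.img β hβ hβt j with e | e <;> simp [e]
  have hmove : D.r (D.ph β) (D.cls (D.e i)) = D.cls (D.e i) + D.vx := by
    have hother : hs i * D.ph β = D.ph β * hs i ∧ (hs i * D.ph β) * hd i = hd i * (hs i * D.ph β) := by
      constructor <;>
      · funext j
        rcases D.img β hβ hβt j with e | e <;> by_cases hj : j = i <;>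
          simp [hs, hd, hj, e, hi, Pi.mulSingle_eq_same, Pi.mulSingle_eq_of_ne]
    have hfix : D.r (hs i * D.ph β) D.vx = D.vx := D.toFrame.cube.r_fix fun j => by
      rcases D.img β hβ hβt j with e | e <;> by_cases hj : j = i <;>
        simp [hs, hj, e, hi, Pi.mulSingle_eq_same, Pi.mulSingle_eq_of_ne]
    rw [show D.ph β = hs i * (hs i * D.ph β) by rw [← mul_assoc, hs_sq, one_mul], D.r_mul, D.e_cls,
      ← D.r_mul (hs i * D.ph β), hother.2, D.r_mul, hfix, ← D.e_cls, D.e_ph]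
  have hswap : D.B (D.r (D.ph β) (D.cls D.a)) (D.cls (D.e i)) =
      D.B (D.cls D.a) (D.r (D.ph β) (D.cls (D.e i))) := by
    rw [← D.B_inv (D.ph β), ← D.r_mul, hinv, D.r_one]
  rw [hswap, hmove, D.B_add', ← add_assoc, ZModModule.add_self, zero_add, D.a_cls, D.B_comm] at h0
  exact one_ne_zero (D.toFrame.cube.B_opposite.symm.trans h0)

end Good

end CfsgLib.O8Plus
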