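import Cfsg.Agent.O8Plus.Tuple
import Cfsg.Agent.O8Plus.Words

/-!
The orthogonal group inside the abstract group.
-/

set_option autoImplicit false
set_option linter.style.haveILetI false
set_option linter.unusedSectionVars false

namespace CfsgLib.O8Plus

open Subgroup CfsgLib.LargeExtra CfsgLib.Extra2 CfsgLib.Coset

universe u v

set_option maxHeartbeats 400000

/-- The conclusion of the embedding step: the orthogonal group sits in the group and contains the centraliser
of an involution whose conjugates in the radical are all fused inside. -/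
structure Emb {G : Type u} [Group G] (t : G) where
  f : Om →* G
  inj : Function.Injective f
  /-- The radical of the centraliser. -/
  Q : Subgroup G
  le : ∀ c, Commute c t → c ∈ f.range
  t_conj : ∃ k, f (k * N 0 * k⁻¹) = t
  member : ∀ y, f y ∈ Q → IsConj t (f y) → Mem y
  reps : f (el wB1) ∈ Q ∧ f (el wB2) ∈ Q ∧ f (el wB3) ∈ Q ∧ f (el wE) ∈ Q

theorem perm_word : ∀ g : Equiv.Perm (Fin 3), ∃ p q : Bool, ∃ r : Bool, g = (if p then Equiv.swap 0 1 else 1) *
    ((if q then Equiv.swap 0 1 * Equiv.swap 1 2 else 1) * (if r then Equiv.swap 0 1 * Equiv.swap 1 2 else 1)) := by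
  decide +kernel

theorem fl_ofFn {X : Type*} [Group X] (g : Fin 8 → X) (i : Fin 8) : fl (List.ofFn g) i.1 = g i := by
  rw [fl, List.getD_eq_getElem _ _ (by simp), List.getElem_ofFn]

theorem map_el {X : Type*} [Group X] (f : Om →* X) (g : Fin 8 → X) (hf : ∀ i, f (N i) = g i) (w : List Nat) :
    f (el w) = ev (List.ofFn g) w := by
  induction w with
  | nil => exact map_one f
  | cons l w ih =>
    rw [el, ev_cons, ev_cons, map_mul, ← ih, el]
    refine congrArg (· * _) ?_
    by_cases h : l < 8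
    · rw [show l = (⟨l, h⟩ : Fin 8).1 from rfl, fl_ofFn, fl_ofFn, hf]
    · rw [fl_of_le _ (by simpa using Nat.le_of_not_lt h), fl_of_le _ (by simpa using Nat.le_of_not_lt h), map_one]

namespace Good

variable {G : Type u} [Group G] {t : G} {V : Type v} [AddCommGroup V] (D : Good t V) [Finite G]

include D

theorem exists_emb : ∃ E : Emb t, E.Q = D.Q := by
  classical
  obtain ⟨K, hK, hall⟩ := D.exists_untwisted
  obtain ⟨f, hf⟩ := exists_hom (D.tuple K) (D.tuple_rels hK hall)
  have ha : f (N 0) = D.a := hf 0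
  have hb : f (N 1) = D.bb K := hf 1
  have hw : ∀ i, D.wt K i ∈ f.range := fun i => by
    fin_cases i
    exacts [⟨_, hf 2⟩, ⟨_, hf 4⟩, ⟨_, hf 6⟩]
  have hu : ∀ i, D.ut (K := K) i ∈ f.range := fun i => by
    fin_cases i
    exacts [⟨_, hf 3⟩, ⟨_, hf 5⟩, ⟨_, hf 7⟩]
  have hδ : ∀ i, D.L.δ i ∈ f.range := fun i => by
    have h : D.wt K i * D.ut (K := K) i = D.L.δ i := by
      rw [ut, ← mul_assoc, ← mul_assoc, D.wt_conj hK _ (D.L.δ_t i)]
      conv_rhs => rw [← D.L.w_u i, Levi.u, ← mul_assoc, ← mul_assoc]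
    exact h ▸ mul_mem (hw i) (hu i)
  have hΔ : D.Δ ∈ f.range := mul_mem (mul_mem (hδ 0) (hδ 1)) (hδ 2)
  obtain ⟨kΔ, hkΔ⟩ := hΔ
  have hxa : D.x = D.Δ⁻¹ * D.a * D.Δ := by rw [Good.a]; simp [mul_assoc]
  have hxr : D.x ∈ f.range := hxa ▸ mul_mem (mul_mem (inv_mem ⟨kΔ, hkΔ⟩) ⟨_, ha⟩) ⟨kΔ, hkΔ⟩
  have hxt : f (N 0 * (kΔ⁻¹ * N 0 * kΔ) * N 0) = D.x * t := by
    rw [map_mul, map_mul, map_mul, map_mul, map_inv, ha, hkΔ, ← hxa, D.a_x]
  have htt : f (N 1 * (N 0 * (kΔ⁻¹ * N 0 * kΔ) * N 0) * N 1) = t := by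
    rw [map_mul, map_mul, hxt, hb]
    calc D.bb K * (D.x * t) * D.bb K = (D.bb K * D.x) * t * D.bb K := by group
      _ = D.x * (D.bb K * t * D.bb K) := by rw [(D.b_x hK).eq]; group
      _ = D.x * (t * D.x) := by rw [D.b_t hK]
      _ = t * (D.x * D.x) := by rw [← mul_assoc, ← D.tx.eq, mul_assoc]
      _ = t := by rw [D.x_sq, mul_one]
  have htr : t ∈ f.range := ⟨_, htt⟩
  have hwr : ∀ i, D.L.w i ∈ f.range := fun i => by
    rcases D.wt_cases hK i with e | e
    · exact e ▸ hw i
    · have := mul_mem (hw i) htr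
      rwa [e, mul_assoc, D.t_sq, mul_one] at this
  -- lifts of all elements of the top group
  have htop : ∀ h : H3, ∃ c ∈ f.range, Commute c t ∧ D.ph c = h := by
    intro h
    choose p q r hpqr using fun i => perm_word (h i)
    let cs : Bool → Fin 3 → G := fun b i => if b then D.L.w i else 1
    let cd : Bool → Fin 3 → G := fun b i => if b then D.L.δ i else 1
    let one : Fin 3 → G := fun i => cs (p i) i * (cd (q i) i * cd (r i) i)
    have hm : ∀ i, one i ∈ f.range := fun i => by
      simp only [one, cs, cd]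
      exact mul_mem (by split_ifs <;> [exact hwr i; exact one_mem _])
        (mul_mem (by split_ifs <;> [exact hδ i; exact one_mem _]) (by split_ifs <;> [exact hδ i; exact one_mem _]))
    have c1 : ∀ b i, Commute (cs b i) t := fun b i => by
      simp only [cs]; split_ifs <;> [exact D.L.w_t i; exact Commute.one_left t]
    have c2 : ∀ b i, Commute (cd b i) t := fun b i => by
      simp only [cd]; split_ifs <;> [exact D.L.δ_t i; exact Commute.one_left t]
    have hc : ∀ i, Commute (one i) t := fun i => (c1 _ _).mul_left ((c2 _ _).mul_left (c2 _ _))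
    have hph : ∀ i, D.ph (one i) = Pi.mulSingle i (h i) := fun i => by
      show D.ph (cs (p i) i * (cd (q i) i * cd (r i) i)) = _
      rw [D.ph_mul _ _ (c1 _ _) ((c2 _ _).mul_left (c2 _ _)), D.ph_mul _ _ (c2 _ _) (c2 _ _), hpqr i,
        Pi.mulSingle_mul, Pi.mulSingle_mul]
      simp only [cs, cd]
      split_ifs <;> simp [D.ph_one, D.L.w_ph, D.L.δ_ph, hs, hd]
    refine ⟨one 0 * one 1 * one 2, mul_mem (mul_mem (hm 0) (hm 1)) (hm 2),
      ((hc 0).mul_left (hc 1)).mul_left (hc 2), ?_⟩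
    rw [D.ph_mul _ _ ((hc 0).mul_left (hc 1)) (hc 2), D.ph_mul _ _ (hc 0) (hc 1), hph, hph, hph]
    funext j
    fin_cases j <;> simp [Pi.mulSingle_eq_same]
  have hQ : D.Q ≤ f.range := by
    intro q hq
    have key := D.toFrame.cube.gen (p := fun u => ∃ s ∈ D.Q, s ∈ f.range ∧ D.cls s = u)
      ⟨1, one_mem _, one_mem _, D.cls_one⟩
      (by
        rintro _ _ ⟨s, hs1, hs2, rfl⟩ ⟨s', hs1', hs2', rfl⟩
        exact ⟨s * s', mul_mem hs1 hs1', mul_mem hs2 hs2', D.cls_mul _ hs1 _ hs1'⟩)
      (fun h => by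
        obtain ⟨c, hc, hct, hce⟩ := htop h
        refine ⟨c * D.x * c⁻¹, D.conj_mem hct D.x_mem, mul_mem (mul_mem hc hxr) (inv_mem hc), ?_⟩
        rw [D.cls_conj c hct _ D.x_mem, hce]; rfl)
      (D.cls q)
    obtain ⟨s, hs1, hs2, hs3⟩ := key
    rcases D.eq_or hs1 hq hs3 with e | e <;> rw [e]
    exacts [hs2, mul_mem hs2 htr]
  have hle : ∀ c, Commute c t → c ∈ f.range := fun c hc => by
    obtain ⟨d, hd', hdt, hde⟩ := htop (D.ph c)
    have h : d⁻¹ * c ∈ D.Q := (D.ph_Q _ (hdt.inv_left.mul_left hc)).1 (by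
      rw [D.ph_mul _ _ hdt.inv_left hc, D.ph_inv hdt, hde, inv_mul_cancel])
    have := mul_mem hd' (hQ h)
    rwa [mul_inv_cancel_left] at this
  haveI := isSimple_Om
  have hinj : Function.Injective f := by
    rw [← MonoidHom.ker_eq_bot_iff]
    refine (f.normal_ker.eq_bot_or_eq_top).resolve_right fun e => ?_
    have h1 : D.a = 1 := ha ▸ MonoidHom.mem_ker.1 (e ▸ Subgroup.mem_top (N 0))
    have h2 := D.a_x
    rw [h1, one_mul, mul_one] at h2
    exact D.pre.gen.ne_one (left_eq_mul.1 h2)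
  -- words in the outer letters commute with the central involution
  have hlet : ∀ w : List Nat, (∀ l ∈ w, 2 ≤ l) → Commute (f (el w)) t := by
    intro w hw'
    induction w with
    | nil => rw [show el [] = (1 : Om) from rfl, map_one]; exact Commute.one_left t
    | cons l w ih =>
      rw [map_el f _ hf, ev_cons, ← map_el f _ hf]
      refine Commute.mul_left ?_ (ih fun l' hl' => hw' l' (List.mem_cons_of_mem _ hl'))
      have h2 := hw' l (List.mem_cons_self ..)
      by_cases h8 : l < 8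
      · rw [show l = (⟨l, h8⟩ : Fin 8).1 from rfl, fl_ofFn]
        interval_cases l <;> first
          | exact D.wt_t hK _
          | exact D.ut_t hK hall _
      · rw [fl_of_le _ (by simpa using Nat.le_of_not_lt h8)]; exact Commute.one_left t
  have hconj : ∀ l : List (Fin 3), f (el (cjW l)) ∈ D.Q := by
    intro l
    have h := hlet (l.flatMap swW) (fun m hm => by
      obtain ⟨i, -, hi⟩ := List.mem_flatMap.1 hm
      simp only [swW, List.mem_cons, List.not_mem_nil, or_false] at hi
      omega)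
    show f (el (l.flatMap swW ++ [0] ++ (l.flatMap swW).reverse)) ∈ D.Q
    rw [el_append, el_append, el_rev, map_mul, map_mul, map_inv,
      show el [0] = N 0 from List.prod_singleton, ha]
    exact D.conj_mem h D.a_mem
  have hone : f (el [0]) ∈ D.Q := by
    rw [show el [0] = N 0 from List.prod_singleton, ha]; exact D.a_mem
  set k := N 1 * N 0 * kΔ⁻¹
  have hk : f (k * N 0 * k⁻¹) = t := by
    rw [← htt]
    simp only [k, map_mul, map_inv, mul_inv_rev, inv_inv, D.a_inv, D.b_inv hK, ha, hb, mul_assoc]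
  refine ⟨{
    f := f, inj := hinj, Q := D.Q, le := hle
    t_conj := ⟨k, hk⟩
    member := ?_
    reps := ⟨?_, ?_, ?_, ?_⟩ }, rfl⟩
  · intro y hy hc
    obtain ⟨h, hh⟩ := isConj_iff.1 hc
    have hN : Mem (N 0) := IsConj.refl _
    by_cases hne : h * t * h⁻¹ = t
    · have : y = k * N 0 * k⁻¹ := hinj (by rw [hk, ← hh, hne])
      rw [this]
      exact hN.conj k
    · obtain ⟨c, hc', e⟩ := D.toFrame.member_conj (h := h) (hh ▸ hy) hne
      obtain ⟨kc, hkc⟩ := hle c hc'
      have : y = (kΔ * kc)⁻¹ * N 0 * (kΔ * kc)⁻¹⁻¹ := hinj (by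
        rw [inv_inv, map_mul, map_mul, map_inv, map_mul, ha, hkc, hkΔ, ← hh]
        calc h * t * h⁻¹ = c⁻¹ * (c * (h * t * h⁻¹) * c⁻¹) * c := by group
          _ = c⁻¹ * (D.Δ⁻¹ * D.a * D.Δ) * c := by rw [e, hxa]
          _ = _ := by group)
      rw [this]
      exact hN.conj _
  · rw [wB1, el_append, map_mul]; exact mul_mem hone (hconj _)
  · rw [wB2, el_append, map_mul]; exact mul_mem hone (hconj _)
  · rw [wB3, el_append, map_mul]; exact mul_mem hone (hconj _)
  · rw [wE, el_append, el_append, map_mul, map_mul]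
    exact mul_mem (mul_mem (hconj _) (hconj _)) (hconj _)

end Good

end CfsgLib.O8Plus
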