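import Cfsg.Agent.O8Plus.Base
import Mathlib.GroupTheory.Sylow

/-!
A second involution in the radical fixes a Sylow 2-subgroup of the top group and a vector.
-/

set_option autoImplicit false
set_option linter.style.haveILetI false
set_option linter.unusedSectionVars false

namespace CfsgLib.O8Plus

open Subgroup CfsgLib.LargeExtra CfsgLib.Extra2

universe u v

/-- Coordinates together with a second involution in the radical. -/
structure Frame {G : Type u} [Group G] (t : G) (V : Type v) [AddCommGroup V] extends Base t V where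
  g : G
  pair : Pair toBase.Q t g
  img : ∀ b ∈ toBase.Q.map (MulAut.conj g).toMonoidHom, Commute b t →
    ∀ i, toBase.ph b i = 1 ∨ toBase.ph b i = Equiv.swap 0 1
  lift : ∀ i, ∃ b ∈ toBase.Q.map (MulAut.conj g).toMonoidHom, Commute b t ∧ toBase.ph b = hs i
  cardE : Nat.card ↥(toBase.Q ⊓ toBase.Q.map (MulAut.conj g).toMonoidHom) = 32
  cardB : 256 ≤ Nat.card ↥(toBase.Q.map (MulAut.conj g).toMonoidHom ⊓ centralizer ({t} : Set G))

/-- The standard Sylow 2-subgroup of the top group. -/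
def stdTwo : Subgroup H3 where
  carrier := {h | ∀ i, h i = 1 ∨ h i = Equiv.swap 0 1}
  one_mem' := fun i => Or.inl rfl
  mul_mem' := fun {a b} ha hb i => by
    rcases ha i with e | e <;> rcases hb i with e' | e' <;> simp [e, e']
  inv_mem' := fun {a} ha i => by rcases ha i with e | e <;> simp [e]

theorem isPGroup_stdTwo : IsPGroup 2 stdTwo := fun h => ⟨1, Subtype.ext (funext fun i => by
  rcases h.2 i with e | e <;> simp [pow_two, e])⟩

theorem card_stdTwo : Nat.card stdTwo = 8 := by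
  let f : stdTwo ≃ (Fin 3 → Bool) :=
    { toFun := fun h i => decide (h.1 i = 1)
      invFun := fun b => ⟨fun i => if b i then 1 else Equiv.swap 0 1, fun i => by
        by_cases hb : b i <;> simp [hb]⟩
      left_inv := fun h => Subtype.ext (funext fun i => by
        rcases h.2 i with e | e <;> simp [e])
      right_inv := fun b => funext fun i => by
        by_cases hb : b i <;> simp [hb] }
  rw [Nat.card_congr f]
  simp

theorem card_H3 : Nat.card H3 = 216 := by
  rw [Nat.card_pi]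
  simp [Nat.card_perm]
  decide

theorem exists_conj_std {P : Subgroup H3} (hP : Nat.card P = 8) :
    ∃ h : H3, P.map (MulAut.conj h).toMonoidHom = stdTwo := by
  haveI : Fact (Nat.Prime 2) := ⟨Nat.prime_two⟩
  have h8 : 2 ^ (Nat.card H3).factorization 2 = 8 := by
    rw [card_H3]
    have h := Nat.factorization_mul (a := 2 ^ 3) (b := 27) (by norm_num) (by norm_num)
    rw [show (216 : ℕ) = 2 ^ 3 * 27 by norm_num, h]
    rw [Finsupp.add_apply, Nat.prime_two.factorization_pow, Finsupp.single_eq_same,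
      Nat.factorization_eq_zero_of_not_dvd (show ¬ 2 ∣ 27 by norm_num)]
    rfl
  obtain ⟨h, hh⟩ := MulAction.exists_smul_eq H3 (Sylow.ofCard P (by rw [hP, h8]))
    (Sylow.ofCard stdTwo (by rw [card_stdTwo, h8]))
  exact ⟨h, congrArg (fun S : Sylow 2 H3 => (S : Subgroup H3)) hh⟩

theorem sylow_image {G : Type u} [Group G] [Finite G] {t : G} {V : Type v} [AddCommGroup V]
    (D : Base t V) {g : G} (hx : g * t * g⁻¹ ∈ D.Q) (hne : g * t * g⁻¹ ≠ t) :
    ∃ P : Subgroup H3, Nat.card P = 8 ∧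
      (∀ h, h ∈ P ↔ ∃ b ∈ D.Q.map (MulAut.conj g).toMonoidHom, Commute b t ∧ D.ph b = h) ∧
      Nat.card ↥(D.Q ⊓ D.Q.map (MulAut.conj g).toMonoidHom) = 32 ∧
      256 ≤ Nat.card ↥(D.Q.map (MulAut.conj g).toMonoidHom ⊓ centralizer ({t} : Set G)) := by
  classical
  haveI : Fact (Nat.Prime 2) := ⟨Nat.prime_two⟩
  have hgC : g ∉ centralizer ({t} : Set G) := fun h =>
    hne (mul_inv_eq_iff_eq_mul.2 (mem_centralizer_singleton_iff.1 h))
  have P := pair_of D.pre hx hgC
  set Q' := D.Q.map (MulAut.conj g).toMonoidHom with hQ'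
  set B0 := Q' ⊓ centralizer ({t} : Set G) with hB0
  have hBc : ∀ b ∈ B0, Commute b t := fun b hb => mem_centralizer_singleton_iff.1 hb.2
  let φ : B0 →* H3 :=
    { toFun := fun b => D.ph b
      map_one' := D.ph_one
      map_mul' := fun a b => D.ph_mul _ _ (hBc _ a.2) (hBc _ b.2) }
  have hE : Nat.card φ.ker = Nat.card ↥(D.Q ⊓ Q') := Nat.card_congr
    { toFun := fun b => ⟨b.1.1, (D.ph_Q _ (hBc _ b.1.2)).1 (MonoidHom.mem_ker.1 b.2), b.1.2.1⟩
      invFun := fun e => ⟨⟨e.1, e.2.2, mem_centralizer_singleton_iff.2 (D.comm_t e.2.1)⟩,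
        MonoidHom.mem_ker.2 (D.ph_of_mem e.2.1)⟩
      left_inv := fun b => rfl
      right_inv := fun e => rfl }
  have hlow : 256 ≤ Nat.card B0 := by
    have h := card_le_two_mul P.pre'.gen Q' le_rfl P.zQ
    rw [hQ', card_map_of_injective (MulAut.conj g).injective, D.card] at h
    rw [hB0, hQ']
    omega
  have hE32 : Nat.card ↥(D.Q ⊓ Q') ≤ 32 := by
    have h := card_mul_card_centralizer D.pre.gen (R := D.Q ⊓ Q') ⟨D.pre.gen.mem, P.zQ⟩ inf_le_left
    rw [D.card] at h
    have hle : D.Q ⊓ Q' ≤ D.Q ⊓ centralizer (↑(D.Q ⊓ Q') : Set G) := fun e he =>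
      ⟨he.1, mem_centralizer_iff.2 fun y hy => E_comm P hy he⟩
    have := Subgroup.card_le_of_le hle
    by_contra hn
    push Not at hn
    have := Nat.mul_le_mul hn.le (hn.le.trans this)
    rcases Nat.lt_or_eq_of_le (show 32 ≤ Nat.card ↥(D.Q ⊓ Q') from hn.le) with h' | h'
    · nlinarith
    · omega
  have hrange : Nat.card φ.range = 8 := by
    have h1 := Subgroup.card_eq_card_quotient_mul_card_subgroup φ.ker
    rw [Nat.card_congr (QuotientGroup.quotientKerEquivRange φ).toEquiv, hE] at h1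
    have h2 : Nat.card φ.range ∣ 216 := card_H3 ▸ card_subgroup_dvd_card _
    obtain ⟨k, hk⟩ := IsPGroup.iff_card.1 (((D.twoQ.map (MulAut.conj g).toMonoidHom).to_le
      (inf_le_left : B0 ≤ Q')).of_surjective φ.rangeRestrict φ.rangeRestrict_surjective)
    have hk3 : k ≤ 3 := by
      rw [hk] at h2
      by_contra hn
      have h16 : 2 ^ 4 ∣ 216 := (pow_dvd_pow 2 (by omega : 4 ≤ k)).trans h2
      norm_num at h16
    have h8 : 2 ^ k ≤ 8 := by
      calc 2 ^ k ≤ 2 ^ 3 := Nat.pow_le_pow_right (by norm_num) hk3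
        _ = 8 := rfl
    rw [hk] at h1 ⊢
    nlinarith
  refine ⟨φ.range, hrange, fun h => ?_, ?_, hlow⟩
  · constructor
    · rintro ⟨b, rfl⟩
      exact ⟨b, b.2.1, hBc _ b.2, rfl⟩
    · rintro ⟨b, hb, hc, rfl⟩
      exact ⟨⟨b, hb, mem_centralizer_singleton_iff.2 hc.eq⟩, rfl⟩
  · have h1 := Subgroup.card_eq_card_quotient_mul_card_subgroup φ.ker
    rw [Nat.card_congr (QuotientGroup.quotientKerEquivRange φ).toEquiv, hE, hrange] at h1
    change Nat.card ↥(D.Q ⊓ Q') = 32
    omega

theorem exists_frame {G : Type u} [Group G] [Finite G] {t : G} {V : Type v} [AddCommGroup V]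
    (D : Base t V) {g : G} (hx : g * t * g⁻¹ ∈ D.Q) (hne : g * t * g⁻¹ ≠ t) :
    ∃ F : Frame t V, F.Q = D.Q ∧ F.g = g := by
  have hgC : g ∉ centralizer ({t} : Set G) := fun h =>
    hne (mul_inv_eq_iff_eq_mul.2 (mem_centralizer_singleton_iff.1 h))
  have P := pair_of D.pre hx hgC
  obtain ⟨S, hS, hmem, hE, hB⟩ := sylow_image D hx hne
  obtain ⟨h, hh⟩ := exists_conj_std hS
  let D' : Base t V :=
    { D with
      ph := fun a => h * D.ph a * h⁻¹
      ph_mul := fun a b ha hb => by rw [D.ph_mul a b ha hb]; group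
      ph_Q := fun a ha => by rw [conj_eq_one_iff, D.ph_Q a ha]
      ph_surj := fun k => by
        obtain ⟨a, ha, e⟩ := D.ph_surj (h⁻¹ * k * h)
        exact ⟨a, ha, by rw [e]; group⟩
      r := D.r.comp (MulAut.conj h⁻¹).toMonoidHom
      cls_conj := fun c hc q hq => by
        rw [D.cls_conj c hc q hq]
        show D.r (D.ph c) (D.cls q) = D.r (h⁻¹ * (h * D.ph c * h⁻¹) * h⁻¹⁻¹) (D.cls q)
        rw [show h⁻¹ * (h * D.ph c * h⁻¹) * h⁻¹⁻¹ = D.ph c by group] }
  refine ⟨{ D' with g := g, pair := P, img := fun b hb hc i => ?_, lift := fun i => ?_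
                    cardE := hE, cardB := hB }, rfl, rfl⟩
  · have : h * D.ph b * h⁻¹ ∈ stdTwo := hh ▸ ⟨D.ph b, (hmem _).2 ⟨b, hb, hc, rfl⟩, rfl⟩
    exact this i
  · have : hs i ∈ S.map (MulAut.conj h).toMonoidHom := hh.symm ▸ fun j => by
      by_cases hj : j = i
      · exact Or.inr (by rw [hj, hs, Pi.mulSingle_eq_same])
      · exact Or.inl (by rw [hs, Pi.mulSingle_eq_of_ne hj])
    obtain ⟨k, hk, e⟩ := this
    obtain ⟨b, hb, hc, rfl⟩ := (hmem k).1 hk
    exact ⟨b, hb, hc, e⟩

end CfsgLib.O8Plus
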