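import Cfsg.Agent.O8Plus.Frame

/-!
The module attached to a frame, and the conjugates of the central involution inside the radical.
-/

set_option autoImplicit false
set_option linter.style.haveILetI false
set_option linter.unusedSectionVars false

namespace CfsgLib.O8Plus

open Subgroup CfsgLib.LargeExtra CfsgLib.Extra2

universe u v

namespace Base

variable {G : Type u} [Group G] {t : G} {V : Type v} [AddCommGroup V] (D : Base t V)

include D

/-- The vectors with involutory lifts. -/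
def Sing (u : V) : Prop := ∃ a ∈ D.Q, D.cls a = u ∧ a * a = 1

theorem sing_inv (h : H3) (u : V) (hu : D.Sing u) : D.Sing (D.r h u) := by
  obtain ⟨a, ha, rfl, h2⟩ := hu
  obtain ⟨c, hc, rfl⟩ := D.ph_surj h
  exact ⟨c * a * c⁻¹, D.conj_mem hc ha, D.cls_conj c hc a ha, by
    rw [show c * a * c⁻¹ * (c * a * c⁻¹) = c * (a * a) * c⁻¹ by group, h2]; group⟩

theorem commute_of_sq {a b : G} (ha : a * a = 1) (hb : b * b = 1) (hab : a * b * (a * b) = 1) :
    Commute a b := by
  have e : b * a = a * b := by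
    calc b * a = (a * a) * (b * a) * (b * b) := by rw [ha, hb, one_mul, mul_one]
      _ = a * (a * b * (a * b)) * b := by group
      _ = a * b := by rw [hab, mul_one]
  exact e.symm

theorem sing_B (u w : V) (hu : D.Sing u) (hw : D.Sing w) (huw : D.Sing (u + w)) : D.B u w = 0 := by
  obtain ⟨a, ha, rfl, a2⟩ := hu
  obtain ⟨b, hb, rfl, b2⟩ := hw
  obtain ⟨c, hc, ec, c2⟩ := huw
  rw [← D.cls_mul a ha b hb] at ec
  refine (D.comm a ha b hb).1 (D.commute_of_sq a2 b2 ?_)
  rcases D.eq_or hc (mul_mem ha hb) ec with e | e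
  · rw [e, c2]
  · calc a * b * (a * b) = c * (t * c) * t := by rw [e]; group
      _ = c * (c * t) * t := by rw [(D.comm_t hc).eq]
      _ = c * c * (t * t) := by group
      _ = 1 := by rw [c2, D.t_sq, one_mul]

end Base

namespace Frame

variable {G : Type u} [Group G] {t : G} {V : Type v} [AddCommGroup V] (F : Frame t V)

include F

/-- The second involution. -/
abbrev x : G := F.g * t * F.g⁻¹

/-- The radical of the second involution. -/
abbrev R : Subgroup G := F.Q.map (MulAut.conj F.g).toMonoidHom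

theorem x_mem : F.x ∈ F.Q := F.pair.xQ

theorem x_memR : F.x ∈ F.R := F.pair.pre'.gen.mem

theorem t_memR : t ∈ F.R := F.pair.zQ

theorem x_sq : F.x * F.x = 1 := F.pair.pre'.gen.sq

theorem x_inv : F.x⁻¹ = F.x := inv_eq_of_mul_eq_one_right F.x_sq

theorem comm_x {b : G} (hb : b ∈ F.R) : Commute b F.x := F.pair.pre'.gen.comm_z b hb

theorem tx : Commute t F.x := (F.comm_t F.x_mem).symm

/-- The vector of the second involution. -/
def vx : V := F.cls F.x

theorem vx_ne : F.vx ≠ 0 := fun e => by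
  rcases (F.cls_zero _ F.x_mem).1 e with h | h
  · exact F.pair.pre'.gen.ne_one h
  · exact F.pair.ne h

theorem E_sq {e : G} (h1 : e ∈ F.Q) (h2 : e ∈ F.R) : e * e = 1 :=
  eq_one_of_z_x F.pair (F.pre.gen.square e h1) (F.pair.pre'.gen.square e h2)

theorem E_commute [Finite G] {a b : G} (a1 : a ∈ F.Q) (a2 : a ∈ F.R) (b1 : b ∈ F.Q) (b2 : b ∈ F.R) :
    Commute a b :=
  E_comm F.pair ⟨a1, a2⟩ ⟨b1, b2⟩

/-- The classes of the common part of the two radicals. -/
def M : AddSubgroup V where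
  carrier := {u | ∃ e ∈ F.Q, e ∈ F.R ∧ F.cls e = u}
  zero_mem' := ⟨1, one_mem _, one_mem _, F.cls_one⟩
  add_mem' := by
    rintro _ _ ⟨a, a1, a2, rfl⟩ ⟨b, b1, b2, rfl⟩
    exact ⟨a * b, mul_mem a1 b1, mul_mem a2 b2, F.cls_mul a a1 b b1⟩
  neg_mem' := by
    rintro u hu
    rwa [show -u = u from (F.eq_of_add (show u + -u = 0 from add_neg_cancel u)).symm]

theorem vx_fix (i : Fin 3) : F.r (hs i) F.vx = F.vx := by
  obtain ⟨b, hb, hc, e⟩ := F.lift i
  rw [← e, vx, ← F.cls_conj b hc _ F.x_mem, (F.comm_x hb).eq, mul_inv_cancel_right]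

/-- Elements of the common part with prescribed commutators. -/
theorem exists_dual [Finite G] (i : Fin 3) :
    ∃ e ∈ F.Q, e ∈ F.R ∧ (∀ j, j ≠ i → F.r (hs j) (F.cls e) = F.cls e) ∧
      F.cls e + F.r (hs i) (F.cls e) = F.vx := by
  classical
  choose b hb hbc hbe using F.lift
  let E0 : Subgroup G := F.Q ⊓ F.R
  let f : E0 →* (Fin 3 → Subgroup.zpowers F.x) :=
    (MonoidHom.pi fun j => commHom F.pair.pre'.gen ⟨b j, hb j⟩).comp
      (Subgroup.inclusion (inf_le_right : E0 ≤ F.R))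
  have hfe : ∀ e j, (f e j : G) = e * b j * (e : G)⁻¹ * (b j)⁻¹ := fun e j => rfl
  set K := f.ker.map E0.subtype with hKdef
  have hKR : K ≤ F.R := (Subgroup.map_subtype_le _).trans inf_le_right
  have hxK : F.x ∈ K := ⟨⟨F.x, F.x_mem, F.x_memR⟩, MonoidHom.mem_ker.2 (funext fun j => Subtype.ext (by
    rw [hfe]
    show F.x * b j * F.x⁻¹ * (b j)⁻¹ = ((1 : Subgroup.zpowers F.x) : G)
    rw [← (F.comm_x (hb j)).eq, mul_inv_cancel_right, mul_inv_cancel]; rfl)), rfl⟩
  have hcomm : ∀ k ∈ K, ∀ j, Commute k (b j) := by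
    rintro _ ⟨k, hk, rfl⟩ j
    have e : (f k j : G) = 1 := by rw [MonoidHom.mem_ker.1 hk]; rfl
    rw [hfe] at e
    exact mul_inv_eq_iff_eq_mul.1 (mul_inv_eq_one.1 e)
  have hB : F.R ⊓ centralizer ({t} : Set G) ≤ F.R ⊓ centralizer (K : Set G) := by
    rintro y ⟨hy, hyt⟩
    refine ⟨hy, mem_centralizer_iff.2 fun k hk => ?_⟩
    have hyc : Commute y t := mem_centralizer_singleton_iff.1 hyt
    let p : G := (if F.ph y 0 = 1 then 1 else b 0) * (if F.ph y 1 = 1 then 1 else b 1) *
      (if F.ph y 2 = 1 then 1 else b 2)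
    have hpR : p ∈ F.R := mul_mem (mul_mem (by split_ifs <;> simp [hb, one_mem])
      (by split_ifs <;> simp [hb, one_mem])) (by split_ifs <;> simp [hb, one_mem])
    have hpt : Commute p t := Commute.mul_left (Commute.mul_left (by split_ifs <;> simp [hbc])
      (by split_ifs <;> simp [hbc])) (by split_ifs <;> simp [hbc])
    have hpk : Commute k p := Commute.mul_right (Commute.mul_right (by split_ifs <;> simp [hcomm k hk])
      (by split_ifs <;> simp [hcomm k hk])) (by split_ifs <;> simp [hcomm k hk])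
    have c1 : ∀ j, Commute (if F.ph y j = 1 then (1 : G) else b j) t := fun j => by
      split_ifs <;> simp [hbc]
    have hpp : F.ph p = F.ph y := by
      show F.ph (_ * _ * _) = _
      rw [F.ph_mul _ _ ((c1 0).mul_left (c1 1)) (c1 2), F.ph_mul _ _ (c1 0) (c1 1)]
      funext j
      rcases F.img y hy hyc 0 with a | a <;> rcases F.img y hy hyc 1 with a' | a' <;>
        rcases F.img y hy hyc 2 with a'' | a'' <;>
        fin_cases j <;> simp [F.ph_one, hbe, hs, a, a', a'', Pi.mulSingle_eq_same]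
    have hq : p⁻¹ * y ∈ F.Q := (F.ph_Q _ (hpt.inv_left.mul_left hyc)).1 (by
      rw [F.ph_mul _ _ hpt.inv_left hyc, F.ph_inv hpt, hpp, inv_mul_cancel])
    obtain ⟨k', hk', rfl⟩ := hk
    have hk2 : Commute (k' : G) (p⁻¹ * y) :=
      F.E_commute k'.2.1 k'.2.2 hq (mul_mem (inv_mem hpR) hy)
    have := hpk.mul_right hk2
    rwa [mul_inv_cancel_left] at this
  have hK4 : Nat.card K ≤ 4 := by
    have h := card_mul_card_centralizer F.pair.pre'.gen hxK hKR
    rw [show Nat.card F.R = 512 from (card_map_of_injective (MulAut.conj F.g).injective).trans F.card] at h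
    have h256 := F.cardB.trans (Subgroup.card_le_of_le hB)
    nlinarith
  have hcard := Subgroup.card_eq_card_quotient_mul_card_subgroup f.ker
  rw [Nat.card_congr (QuotientGroup.quotientKerEquivRange f).toEquiv,
    show Nat.card f.ker = Nat.card K from (card_map_of_injective E0.subtype_injective).symm] at hcard
  have hE0 : Nat.card E0 = 32 := F.cardE
  have h8 : Nat.card (Fin 3 → Subgroup.zpowers F.x) = 8 := by
    rw [Nat.card_pi]
    simp [Nat.card_zpowers, orderOf_gen F.pair.pre'.gen]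
  have hr : 8 ≤ Nat.card f.range := by
    rw [hE0] at hcard
    change 32 = Nat.card f.range * Nat.card K at hcard
    nlinarith
  have htop : f.range = ⊤ :=
    Subgroup.eq_top_of_card_eq _ (le_antisymm (Subgroup.card_le_card_group _) (h8 ▸ hr))
  obtain ⟨e, he⟩ : Pi.mulSingle i (⟨F.x, Subgroup.mem_zpowers _⟩ : Subgroup.zpowers F.x) ∈ f.range :=
    htop ▸ Subgroup.mem_top _
  have hv : ∀ j, (e : G) * b j * (e : G)⁻¹ * (b j)⁻¹ = if j = i then F.x else 1 := fun j => by
    rw [← hfe, he]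
    by_cases hj : j = i
    · rw [hj, if_pos rfl, Pi.mulSingle_eq_same]
    · rw [if_neg hj, Pi.mulSingle_eq_of_ne hj]; rfl
  refine ⟨e, e.2.1, e.2.2, fun j hj => ?_, ?_⟩
  · have h := hv j
    rw [if_neg hj, mul_inv_eq_one, mul_inv_eq_iff_eq_mul] at h
    rw [← hbe j, ← F.cls_conj _ (hbc j) _ e.2.1, ← h, mul_inv_cancel_right]
  · have h := hv i
    rw [if_pos rfl] at h
    have hconj := F.conj_mem (hbc i) e.2.1
    rw [← hbe i, ← F.cls_conj _ (hbc i) _ e.2.1,
      ← F.cls_inv hconj, ← F.cls_mul _ e.2.1 _ (inv_mem hconj)]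
    show F.cls _ = F.cls F.x
    rw [show (e : G) * (b i * e * (b i)⁻¹)⁻¹ = e * b i * (e : G)⁻¹ * (b i)⁻¹ by group, h]

/-- The module of a frame. -/
noncomputable def cube [Finite G] : Cube V where
  r := F.r
  two := F.two
  card := F.cardV
  B := F.B
  B_add := F.B_add
  B_comm := F.B_comm
  nondeg := F.nondeg
  B_inv := F.B_inv
  faithful := F.faithful
  Sing := F.Sing
  sing_inv := F.sing_inv
  sing_B := F.sing_B
  M := F.M
  M_sing := by
    rintro _ ⟨e, h1, h2, rfl⟩
    exact ⟨e, h1, rfl, F.E_sq h1 h2⟩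
  M_iso := by
    rintro _ ⟨a, a1, a2, rfl⟩ _ ⟨b, b1, b2, rfl⟩
    exact (F.comm a a1 b b1).1 (F.E_commute a1 a2 b1 b2)
  v := F.vx
  v_ne := F.vx_ne
  v_fix := F.vx_fix
  v_mem := ⟨F.x, F.x_mem, F.x_memR, rfl⟩
  perp := fun i u hu => by
    obtain ⟨a, ha, rfl⟩ := F.cls_surj u
    have hax : Commute a F.x := (F.comm a ha _ F.x_mem).2 hu
    obtain ⟨b, hb, hc, e⟩ := F.lift i
    have hE := comm_AB F.pair ⟨ha, mem_centralizer_singleton_iff.2 hax.eq⟩
      ⟨hb, mem_centralizer_singleton_iff.2 hc.eq⟩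
    refine ⟨_, hE.1, hE.2, ?_⟩
    have e1 : a * b * a⁻¹ * b⁻¹ = a * (b * a * b⁻¹)⁻¹ := by group
    rw [e1, F.cls_mul _ ha _ (inv_mem (F.conj_mem hc ha)), F.cls_inv (F.conj_mem hc ha),
      F.cls_conj b hc a ha, e]
  m := fun i => F.cls (F.exists_dual i).choose
  m_mem := fun i => ⟨_, (F.exists_dual i).choose_spec.1, (F.exists_dual i).choose_spec.2.1, rfl⟩
  m_eq := fun i => (F.exists_dual i).choose_spec.2.2.2
  m_ne := fun i j h => (F.exists_dual i).choose_spec.2.2.1 j h

/-- An element inducing an element of order three in one factor has trivial fixed part. -/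
theorem fixed_trivial [Finite G] {q c : G} (hq : q ∈ F.Q) (hc : Commute c t) {i : Fin 3}
    (hci : F.ph c = hd i) (h : Commute c q) : q = 1 ∨ q = t :=
  (F.cls_zero q hq).1 (F.cube.fpf i _ (by
    show F.r (hd i) (F.cls q) = F.cls q
    rw [← hci, ← F.cls_conj c hc q hq, h.eq, mul_inv_cancel_right]))

/-- Every other conjugate of the involution in the radical is conjugate to the second one in the
centraliser. -/
theorem member_conj [Finite G] {h : G} (hy : h * t * h⁻¹ ∈ F.Q) (hne : h * t * h⁻¹ ≠ t) :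
    ∃ c, Commute c t ∧ c * (h * t * h⁻¹) * c⁻¹ = F.x := by
  obtain ⟨P, hP, hmem, -, -⟩ := sylow_image F.toBase hy hne
  obtain ⟨k, hk⟩ := exists_conj_std hP
  obtain ⟨c, hc, rfl⟩ := F.ph_surj k
  have hyc := F.conj_mem hc hy
  have hfix : ∀ i, F.r (hs i) (F.cls (c * (h * t * h⁻¹) * c⁻¹)) = F.cls (c * (h * t * h⁻¹) * c⁻¹) := by
    intro i
    have : hs i ∈ P.map (MulAut.conj (F.ph c)).toMonoidHom := hk.symm ▸ fun j => by
      by_cases hj : j = i
      · exact Or.inr (by rw [hj, hs, Pi.mulSingle_eq_same])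
      · exact Or.inl (by rw [hs, Pi.mulSingle_eq_of_ne hj])
    obtain ⟨p, hp, e⟩ := this
    obtain ⟨b, hb, hbt, rfl⟩ := (hmem p).1 hp
    rw [← e]
    show F.r (F.ph c * F.ph b * (F.ph c)⁻¹) _ = _
    rw [F.cls_conj c hc _ hy, ← F.r_mul, show F.ph c * F.ph b * (F.ph c)⁻¹ * F.ph c = F.ph c * F.ph b by group,
      F.r_mul, ← F.cls_conj b hbt _ hy, ((pre_conj F.pre h).gen.comm_z b hb).eq, mul_inv_cancel_right]
  rcases F.cube.fix_all hfix with e | e
  · exfalso
    rcases (F.cls_zero _ hyc).1 e with e' | e'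
    · exact F.pre.gen.ne_one (conj_eq_one_iff.1 (conj_eq_one_iff.1 e'))
    · refine hne ?_
      calc h * t * h⁻¹ = c⁻¹ * (c * (h * t * h⁻¹) * c⁻¹) * c := by group
        _ = t := by rw [e', mul_assoc, ← hc.eq, inv_mul_cancel_left]
  · rcases F.eq_or F.x_mem hyc e.symm with e' | e'
    · exact ⟨c, hc, e'⟩
    · obtain ⟨q, hq, hqx⟩ := exists_a F.pair
      refine ⟨q * c, (F.comm_t hq).mul_left hc, ?_⟩
      rw [show q * c * (h * t * h⁻¹) * (q * c)⁻¹ = q * (c * (h * t * h⁻¹) * c⁻¹) * q⁻¹ by group, e']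
      calc q * (F.x * t) * q⁻¹ = (q * F.x * q⁻¹) * (q * t * q⁻¹) := by group
        _ = F.x * (t * t) := by rw [hqx, F.tx.eq, (F.comm_t hq).eq, mul_inv_cancel_right, mul_assoc]
        _ = F.x := by rw [F.t_sq, mul_one]

end Frame

end CfsgLib.O8Plus
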