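/-!
Relators for eight involutions: four fundamental root elements of a group of type D₄ over two elements
and the opposite ones, the first pair belonging to the middle node.
-/

set_option autoImplicit false

namespace CfsgLib.O8Plus

/-- The relators as numeric words. -/
def rels : List (List Nat) :=
  [[0, 0],
   [1, 1],
   [2, 2],
   [3, 3],
   [4, 4],
   [5, 5],
   [6, 6],
   [7, 7],
   [0, 1, 0, 1, 0, 1],
   [2, 3, 2, 3, 2, 3],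
   [0, 3, 0, 3],
   [1, 2, 1, 2],
   [0, 2, 0, 2, 0, 2, 0, 2],
   [1, 3, 1, 3, 1, 3, 1, 3],
   [0, 2, 0, 2, 3, 0, 2, 0, 2, 3, 0],
   [0, 2, 0, 2, 1, 0, 2, 0, 2, 1, 2],
   [2, 4, 2, 4],
   [2, 5, 2, 5],
   [3, 4, 3, 4],
   [3, 5, 3, 5],
   [2, 6, 2, 6],
   [2, 7, 2, 7],
   [3, 6, 3, 6],
   [3, 7, 3, 7],
   [4, 5, 4, 5, 4, 5],
   [0, 5, 0, 5],
   [1, 4, 1, 4],
   [0, 4, 0, 4, 0, 4, 0, 4],
   [1, 5, 1, 5, 1, 5, 1, 5],
   [0, 4, 0, 4, 5, 0, 4, 0, 4, 5, 0],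
   [0, 4, 0, 4, 1, 0, 4, 0, 4, 1, 4],
   [4, 6, 4, 6],
   [4, 7, 4, 7],
   [5, 6, 5, 6],
   [5, 7, 5, 7],
   [6, 7, 6, 7, 6, 7],
   [0, 7, 0, 7],
   [1, 6, 1, 6],
   [0, 6, 0, 6, 0, 6, 0, 6],
   [1, 7, 1, 7, 1, 7, 1, 7],
   [0, 6, 0, 6, 7, 0, 6, 0, 6, 7, 0],
   [0, 6, 0, 6, 1, 0, 6, 0, 6, 1, 6]]

/-- The relators in the first six letters. -/
def rels6 : List (List Nat) := rels.filter fun w => w.all fun l => Nat.blt l 6

/-- The relators in the first four letters. -/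
def rels4 : List (List Nat) := rels.filter fun w => w.all fun l => Nat.blt l 4

end CfsgLib.O8Plus
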