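import Cfsg.Agent.O8Plus.Twist
import Cfsg.Agent.O8Plus.Rels
import Cfsg.Agent.Coset.Prim
import Cfsg.Agent.Coset.Checker

/-!
Eight involutions satisfying the defining relations.
-/

set_option autoImplicit false
set_option linter.style.haveILetI false
set_option linter.unusedSectionVars false

namespace CfsgLib.O8Plus

open Subgroup CfsgLib.LargeExtra CfsgLib.Extra2

universe u v

theorem other_two : ∀ l : Fin 3, ∃ i k : Fin 3, i ≠ k ∧ i ≠ l ∧ k ≠ l := by decide

theorem pair_cases : ∀ l i k a b : Fin 3, i ≠ k → i ≠ l → k ≠ l → a ≠ b → a ≠ l → b ≠ l →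
    (a = i ∧ b = k) ∨ (a = k ∧ b = i) := by decide

theorem flip_unique : ∀ a b l l' : Fin 3, a ≠ b → a ≠ l' → b ≠ l' → a ≠ l → b ≠ l → l' = l := by
  intro a b l l' h1 h2 h3 h4 h5; omega

namespace Good

variable {G : Type u} [Group G] {t : G} {V : Type v} [AddCommGroup V] (D : Good t V) [Finite G]

include D

/-- The condition that two factors are untwisted. -/
def Ok (K : G) (l : Fin 3) : Prop :=
  ∀ i k, i ≠ k → i ≠ l → k ≠ l → Commute (D.nn K i) (D.L.w k)

theorem fix_step {K : G} (hK : D.IsSwap K) (l : Fin 3) :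
    ∃ K', D.IsSwap K' ∧ D.Ok K' l ∧ ∀ l', l' ≠ l → D.Ok K l' → D.Ok K' l' := by
  classical
  by_cases h : D.Ok K l
  · exact ⟨K, hK, h, fun _ _ h => h⟩
  refine ⟨D.c l * K, D.swap_flip hK l, fun a b hab hal hbl => ?_, fun l' hl' hok a b hab hal hbl => ?_⟩
  · rw [D.flip_n hK, if_pos ⟨b, hab.symm, hbl, hal, rfl⟩]
    intro hc
    refine h fun i k hik hil hkl => ?_
    rcases pair_cases l a b i k hab hal hbl hik hil hkl with ⟨rfl, rfl⟩ | ⟨rfl, rfl⟩
    exacts [hc, D.n_symm hK hc]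
  · have hn : ¬ ∃ k, k ≠ a ∧ k ≠ l ∧ a ≠ l ∧ b = k := by
      rintro ⟨k, hka, hkl, hal', rfl⟩
      exact hl' (flip_unique a b l l' hab hal hbl hal' hkl)
    rw [D.flip_n hK, if_neg hn]
    exact hok a b hab hal hbl

theorem exists_untwisted : ∃ K, D.IsSwap K ∧ ∀ i k, Commute (D.nn K i) (D.L.w k) := by
  obtain ⟨K, hK⟩ := D.exists_swap
  obtain ⟨K0, h0, o0, -⟩ := D.fix_step hK 0
  obtain ⟨K1, h1, o1, p1⟩ := D.fix_step h0 1
  obtain ⟨K2, h2, o2, p2⟩ := D.fix_step h1 2
  have hall : ∀ l, D.Ok K2 l := fun l => by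
    fin_cases l
    exacts [p2 0 (by decide) (p1 0 (by decide) o0), p2 1 (by decide) o1, o2]
  refine ⟨K2, h2, fun i k => ?_⟩
  by_cases hik : i = k
  · exact hik ▸ D.n_self h2 i
  · obtain ⟨l, hli, hlk⟩ := exists_third i k
    exact hall l i k hik hli.symm hlk.symm

variable {K : G} (hK : D.IsSwap K) (hall : ∀ i k, Commute (D.nn K i) (D.L.w k))

include hK hall

theorem n_one (i : Fin 3) : D.nn K i = 1 := by
  have hQ := D.n_Q hK i
  have hfix : ∀ k, D.r (hs k) (D.cls (D.nn K i)) = D.cls (D.nn K i) := fun k => by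
    rw [← D.L.w_ph k, ← D.cls_conj _ (D.L.w_t k) _ hQ, ← (hall i k).eq, mul_inv_cancel_right]
  have hb : Commute (D.nn K i) (D.bb K) := by
    refine Commute.mul_left ?_ (D.b_wt hK i).symm
    have h := (D.cbc_comm hK i i).2
    rw [β]
    show Commute _ _
    exact h.symm.mul_left (Commute.refl _)
  have hat : ¬ Commute D.x D.a := fun h => by
    have h' := D.a_x
    rw [← h.eq, mul_assoc, D.a_sq, mul_one] at h'
    exact D.pre.gen.ne_one (left_eq_mul.1 h')
  have hbt : ¬ Commute t (D.bb K) := fun h => by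
    have h' := D.b_t hK
    rw [← h.eq, mul_assoc, D.b_sq hK, mul_one] at h'
    exact D.pair.pre'.gen.ne_one (left_eq_mul.1 h')
  have hna := D.n_a hK i
  rcases D.toFrame.cube.fix_all (u := D.cls (D.nn K i)) hfix with e | e
  · rcases (D.cls_zero _ hQ).1 e with e | e
    · exact e
    · rw [e] at hb
      exact absurd hb hbt
  · exfalso
    rcases D.eq_or D.x_mem hQ e.symm with e' | e'
    · exact hat (e' ▸ hna)
    · refine hat ?_
      have := hna
      rw [e'] at this
      have h2 := this.mul_left (D.comm_t D.a_mem).symm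
      rwa [mul_assoc, D.t_sq, mul_one] at h2

theorem β_eq (i : Fin 3) : D.β K i = D.wt K i := by
  have h := D.n_one hK hall i
  rw [nn] at h
  rw [eq_inv_of_mul_eq_one_left h, D.wt_inv hK]

/-- The twisted second involution of a factor. -/
noncomputable def ut (i : Fin 3) : G := D.L.δ i * D.wt K i * (D.L.δ i)⁻¹

omit hall in
theorem ut_cases (i : Fin 3) :
    D.L.δ i * D.wt K i * (D.L.δ i)⁻¹ = D.L.u i ∨ D.L.δ i * D.wt K i * (D.L.δ i)⁻¹ = D.L.u i * t := by
  rcases D.wt_cases hK i with e | e <;> rw [e]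
  · exact Or.inl rfl
  · refine Or.inr ?_
    calc D.L.δ i * (D.L.w i * t) * (D.L.δ i)⁻¹ = D.L.δ i * D.L.w i * (t * (D.L.δ i)⁻¹) := by group
      _ = D.L.δ i * D.L.w i * ((D.L.δ i)⁻¹ * t) := by rw [(D.L.δ_t i).inv_left.eq]
      _ = _ := by rw [Levi.u]; group

end Good

end CfsgLib.O8Plus
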