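import Cfsg.Agent.Coset.Table
import Cfsg.Agent.O8Plus.Rels
import Cfsg.Agent.O8Plus.T0Data

set_option autoImplicit false
set_option maxRecDepth 100000

namespace CfsgLib.O8Plus.T0

open CfsgLib.Coset

theorem hR : checkRules rels4 subs R = true := by decide +kernel
theorem hdefs : checkDefs E 4 9 332 = true := by decide +kernel
theorem hsteps : checkChunks E id R 4 4 332 10 C = true := by decide +kernel
theorem htable : checkTable E id (332 + chunk * 10) 168 4 8 2 Rep Ref Tb = true := by decide +kernel

end CfsgLib.O8Plus.T0
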