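import Cfsg.Agent.Coset.Table
import Cfsg.Agent.O8Plus.Rels
import Cfsg.Agent.O8Plus.T2Data

set_option autoImplicit false
set_option maxRecDepth 100000

namespace CfsgLib.O8Plus.T2

open CfsgLib.Coset

theorem hR : checkRules rels subs R = true := by decide +kernel
theorem hdefs : checkDefs E 8 14 9963 = true := by decide +kernel
theorem hsteps : checkChunks E id R 8 9 9963 504 C = true := by decide +kernel
theorem htable : checkTable E id (9963 + chunk * 504) 8640 8 14 3 Rep Ref Tb = true := by decide +kernel

end CfsgLib.O8Plus.T2
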