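import Cfsg.Agent.Coset.Presented
import Mathlib.Tactic.IntervalCases
import Cfsg.Agent.O8Plus.T0
import Cfsg.Agent.O8Plus.T1
import Cfsg.Agent.O8Plus.T2

/-! The order bound for groups generated by eight elements satisfying the relators of `Rels`, from
the three coset tables. -/

set_option autoImplicit false
set_option maxRecDepth 100000
set_option Elab.async false

namespace CfsgLib.O8Plus

open CfsgLib.Coset

/-- Eight elements of a group satisfying the relators. -/
structure RelsHold {G : Type*} [Group G] (L : List G) : Prop where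
  len : L.length = 8
  rel : ∀ w ∈ rels, ev L w = 1

variable {G : Type*} [Group G] {L : List G}

theorem RelsHold.sq (h : RelsHold L) (x : Nat) : fl L x * fl L x = 1 := by
  by_cases hx : x < 8
  · have h1 := h.rel [x, x] (by interval_cases x <;> decide)
    simpa using h1
  · rw [fl_of_le L (by rw [h.len]; omega), one_mul]

theorem RelsHold.level (h : RelsHold L) {n : Nat} {S S' : List Nat} {rs subs : List (List Nat)}
    {E Rep Tb : Nat → Nat} {R : Tr (List Nat × Nat)} {d d' N nC dn dk : Nat} {C Ref : Nat → Nat}
    (k : Nat) (hk : S.length = k) (hc : checkLevel rels 8 S S' rs subs = true)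
    (hR : checkRules rs subs R = true) (hd : checkDefs E k d' N = true)
    (hs : checkChunks E id R k d N nC C = true)
    (ht : checkTable E id (N + chunk * nC) n k dn dk Rep Ref Tb = true) :
    TableOK (lv L S) (genBy L S') E id n Rep Tb := by
  have hl : (lv L S).length = k := by simp [lv, hk]
  exact tableOK_of_check (inv_lv h.sq S) hR (hl.symm ▸ hd) (hl.symm ▸ hs) (hl.symm ▸ ht)
    (level_rels h.len hc h.rel) (level_subs h.len hc)

theorem RelsHold.card_four (h : RelsHold L) :
    Finite (genBy L [0, 1, 2, 3]) ∧ Nat.card (genBy L [0, 1, 2, 3]) ≤ 168 := by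
  have c : checkLevel rels 8 [0, 1, 2, 3] [] rels4 T0.subs = true := by decide +kernel
  exact level_card (h.level 4 rfl c T0.hR T0.hdefs T0.hsteps T0.htable) (by decide) c card_genBy_nil

theorem RelsHold.card_six (h : RelsHold L) :
    Finite (genBy L [0, 1, 2, 3, 4, 5]) ∧ Nat.card (genBy L [0, 1, 2, 3, 4, 5]) ≤ 20160 := by
  have c : checkLevel rels 8 [0, 1, 2, 3, 4, 5] [0, 1, 2, 3] rels6 T1.subs = true := by decide +kernel
  exact level_card (h.level 6 rfl c T1.hR T1.hdefs T1.hsteps T1.htable) (by decide) c h.card_four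

theorem RelsHold.card_eight (h : RelsHold L) : Finite (genBy L [0, 1, 2, 3, 4, 5, 6, 7]) ∧
    Nat.card (genBy L [0, 1, 2, 3, 4, 5, 6, 7]) ≤ 174182400 := by
  have c : checkLevel rels 8 [0, 1, 2, 3, 4, 5, 6, 7] [0, 1, 2, 3, 4, 5] rels T2.subs = true := by
    decide +kernel
  exact level_card (h.level 8 rfl c T2.hR T2.hdefs T2.hsteps T2.htable) (by decide) c h.card_six

theorem RelsHold.card_le (h : RelsHold L) :
    Finite (Subgroup.closure {x | x ∈ L} : Subgroup G) ∧
      Nat.card (Subgroup.closure {x | x ∈ L} : Subgroup G) ≤ 174182400 := by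
  have e : genBy L [0, 1, 2, 3, 4, 5, 6, 7] = Subgroup.closure {x | x ∈ L} := by
    have : lv L (List.range L.length) = L := lv_range
    rw [h.len] at this
    show Subgroup.closure {x | x ∈ lv L (List.range 8)} = _
    rw [this]
  rw [← e]
  exact h.card_eight

/-- The presented group has at most the order of the orthogonal group. -/
theorem card_numGr_le :
    Finite (NumGr 8 rels) ∧ Nat.card (NumGr 8 rels) ≤ 174182400 := by
  obtain ⟨h1, h2⟩ := RelsHold.card_le (L := numGens 8 rels) ⟨length_numGens, ev_numGens⟩
  rw [closure_numGens] at h1 h2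
  exact ⟨Finite.of_equiv _ Subgroup.topEquiv.toEquiv,
    (Nat.card_congr Subgroup.topEquiv.toEquiv).symm.le.trans h2⟩

end CfsgLib.O8Plus
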