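import Cfsg.Agent.O8Plus.Code
import Cfsg.Agent.O8Plus.Present
import Cfsg.Agent.OmegaEight.Weyl
import Cfsg.Agent.Quad.POmega

/-!
The eight root elements in the orthogonal group of plus type of degree eight over two elements, satisfying
the relators of `Rels`.
-/

set_option autoImplicit false
set_option maxRecDepth 100000
set_option linter.style.haveILetI false

namespace CfsgLib.O8Plus

open CfsgLib.Coset CfsgLib.Quad CfsgLib.Forms Matrix

/-- The group `Ω₈⁺(2)`. -/
abbrev Om : Type := Cfsg.Omega (ZMod 2) (Cfsg.quadFormPlus 4 (ZMod 2))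

/-- The isometry group containing it. -/
abbrev Og : Type := Cfsg.isometryGroup (ZMod 2) (Cfsg.quadFormPlus 4 (ZMod 2))

/-- The codes of the eight generators. -/
def genC : List Nat :=
  [0x8040601008060201, 0x8060201008040601, 0x8040203008040301, 0x8040301008040203,
   0x80c020100c040201, 0xc0402010080c0201, 0x8448201008040201, 0x8040201048840201]

/-- The code of a word. -/
def codeW (w : List Nat) : Nat := w.foldr (fun l c => mulP (genC.getD l oneC) c) oneC

theorem genC_check : ∀ i : Fin 8, encM (matOf (genC.getD i oneC)) = genC.getD i oneC ∧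
    mulP (genC.getD i oneC) (genC.getD i oneC) = oneC := by decide +kernel

theorem genC_iso : ∀ (i : Fin 8) (v : Idx → ZMod 2),
    Cfsg.quadFormPlus 4 (ZMod 2) (matOf (genC.getD i oneC) *ᵥ v) = Cfsg.quadFormPlus 4 (ZMod 2) v := by
  decide +kernel

/-- A generator as an invertible matrix. -/
def genU (i : Fin 8) : GL Idx (ZMod 2) :=
  have h : matOf (genC.getD i oneC) * matOf (genC.getD i oneC) = 1 :=
    encM_inj (by rw [encM_mul, (genC_check i).1, encM_one]; exact (genC_check i).2)
  ⟨_, _, h, h⟩

/-- A generator as an isometry. -/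
def genG (i : Fin 8) : Og := ⟨genU i, fun u _ => genC_iso i u⟩

/-- The code of an isometry. -/
def encG (g : Og) : Nat := encM g.1.1

theorem encG_one : encG 1 = oneC := encM_one

theorem encG_mul (g h : Og) : encG (g * h) = mulP (encG g) (encG h) := encM_mul _ _

theorem encG_inj {g h : Og} (e : encG g = encG h) : g = h :=
  Subtype.ext (Units.ext (encM_inj e))

theorem encG_gen (i : Fin 8) : encG (genG i) = genC.getD i oneC := (genC_check i).1

theorem fl_genG (l : Nat) : encG (fl (List.ofFn genG) l) = genC.getD l oneC := by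
  by_cases h : l < 8
  · rw [fl, List.getD_eq_getElem _ _ (by simpa using h), List.getElem_ofFn]
    exact encG_gen _
  · rw [fl_of_le _ (by simpa using Nat.le_of_not_lt h), List.getD_eq_default _ _ (by simpa [genC] using Nat.le_of_not_lt h)]
    exact encG_one

theorem encG_ev (w : List Nat) : encG (ev (List.ofFn genG) w) = codeW w := by
  induction w with
  | nil => exact encG_one
  | cons l w ih => rw [ev_cons, encG_mul, fl_genG, ih]; rfl

theorem fl_genG_sq (l : Nat) : fl (List.ofFn genG) l * fl (List.ofFn genG) l = 1 := by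
  refine encG_inj ?_
  rw [encG_mul, fl_genG, encG_one]
  by_cases h : l < 8
  · exact (genC_check ⟨l, h⟩).2
  · rw [List.getD_eq_default _ _ (by simpa [genC] using Nat.le_of_not_lt h)]
    decide +kernel

theorem ev_genG_rev (w : List Nat) :
    ev (List.ofFn genG) w.reverse = (ev (List.ofFn genG) w)⁻¹ := by
  induction w with
  | nil => simp
  | cons l w ih =>
    have e : ev (List.ofFn genG) [l] = (fl (List.ofFn genG) l)⁻¹ := by
      rw [inv_eq_of_mul_eq_one_right (fl_genG_sq l)]
      exact List.prod_singleton
    rw [List.reverse_cons, ev_append, ih, e, ← _root_.mul_inv_rev, ← ev_cons]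

/-- Each generator as a conjugate of a commutator, by three words. -/
def commW : List (List Nat × List Nat × List Nat) :=
  [([], [0, 2, 0, 2], [3]), ([0, 1], [0, 2, 0, 2], [3]), ([], [0, 2, 0, 2], [1]),
   ([2, 3], [0, 2, 0, 2], [1]), ([], [0, 4, 0, 4], [1]), ([4, 5], [0, 4, 0, 4], [1]),
   ([], [0, 6, 0, 6], [1]), ([6, 7], [0, 6, 0, 6], [1])]

theorem commW_check : ∀ i : Fin 8,
    (match commW.getD i ([], [], []) with
      | (g, c, u) => codeW (g ++ (c ++ u ++ c.reverse ++ u.reverse) ++ g.reverse)) = genC.getD i oneC := by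
  decide +kernel

theorem genG_mem (i : Fin 8) : genG i ∈ commutator Og := by
  obtain ⟨g, c, u, e⟩ : ∃ g c u : List Nat,
      codeW (g ++ (c ++ u ++ c.reverse ++ u.reverse) ++ g.reverse) = genC.getD i oneC :=
    ⟨_, _, _, commW_check i⟩
  rw [← encG_gen, ← encG_ev] at e
  rw [← encG_inj e]
  simp only [ev_append, ev_genG_rev]
  exact (inferInstance : (commutator Og).Normal).conj_mem _
    (Subgroup.commutator_mem_commutator (Subgroup.mem_top _) (Subgroup.mem_top _)) _

/-- The eight generators. -/
noncomputable def N (i : Fin 8) : Om := ⟨genG i, genG_mem i⟩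

/-- The code of an element. -/
noncomputable def encO (m : Om) : Nat := encG m.1

theorem encO_one : encO 1 = oneC := encG_one

theorem encO_mul (m k : Om) : encO (m * k) = mulP (encO m) (encO k) := encG_mul _ _

theorem encO_inj {m k : Om} (e : encO m = encO k) : m = k := Subtype.ext (encG_inj e)

theorem fl_N_coe (l : Nat) : ((fl (List.ofFn N) l : Om) : Og) = fl (List.ofFn genG) l := by
  by_cases h : l < 8
  · rw [fl, List.getD_eq_getElem _ _ (by simpa using h), List.getElem_ofFn, fl,
      List.getD_eq_getElem _ _ (by simpa using h), List.getElem_ofFn]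
    rfl
  · rw [fl_of_le _ (by simpa using Nat.le_of_not_lt h), fl_of_le _ (by simpa using Nat.le_of_not_lt h)]
    rfl

theorem ev_N_coe (w : List Nat) : ((ev (List.ofFn N) w : Om) : Og) = ev (List.ofFn genG) w := by
  induction w with
  | nil => simp
  | cons l w ih => rw [ev_cons, ev_cons, Subgroup.coe_mul, fl_N_coe, ih]

theorem encO_ev (w : List Nat) : encO (ev (List.ofFn N) w) = codeW w := by
  rw [encO, ev_N_coe, encG_ev]

theorem encO_N (i : Fin 8) : encO (N i) = genC.getD i oneC := encG_gen i

theorem rels_code : ∀ w ∈ rels, codeW w = oneC := by decide +kernel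

theorem rels_N : ∀ w ∈ rels, ev (List.ofFn N) w = 1 := fun w hw =>
  encO_inj (by rw [encO_ev, encO_one, rels_code w hw])

theorem N_sq (i : Fin 8) : N i * N i = 1 :=
  encO_inj (by rw [encO_mul, encO_N, encO_one]; exact (genC_check i).2)

/-- The isometry group in both languages. -/
noncomputable def ogEquiv : Og ≃* oGroup (plusQ (F := ZMod 2) 4) :=
  (MulEquiv.subgroupCongr (congrArg (Cfsg.isometryGroup (ZMod 2)) (plusQ_coe 4).symm)).trans
    (isoGroupEquiv (plusQ 4))

theorem ogEquiv_apply (g : Og) (x : Idx → ZMod 2) :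
    (ogEquiv g).1 x = (g.1 : Matrix Idx Idx (ZMod 2)) *ᵥ x := rfl

/-- `Ω₈⁺(2)` in both languages. -/
noncomputable def omEquiv : Om ≃* commutator (oGroup (plusQ (F := ZMod 2) 4)) :=
  (ogEquiv.subgroupMap _).trans (MulEquiv.subgroupCongr (commutator_map_equiv ogEquiv))

theorem two_cases : ∀ x : ZMod 2, x = 0 ∨ x = 1 := by decide

theorem card_Om : Nat.card Om = 174182400 :=
  (Nat.card_congr omEquiv.toEquiv).trans (OmegaEight.card_omega two_cases)

instance instFiniteOm : Finite Om := Nat.finite_of_card_ne_zero (by rw [card_Om]; norm_num)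

end CfsgLib.O8Plus
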