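import Cfsg.Agent.O8Plus.Levi

/-!
Normalisation of the second involution against the complement, and the resulting elements.
-/

set_option autoImplicit false
set_option linter.style.haveILetI false
set_option linter.unusedSectionVars false

namespace CfsgLib.O8Plus

open Subgroup CfsgLib.LargeExtra CfsgLib.Extra2

universe u v

/-- A frame with a complement for which the second involution is the good lift of its class. -/
structure Good {G : Type u} [Group G] (t : G) (V : Type v) [AddCommGroup V] extends Frame t V where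
  L : Levi toFrame.toBase
  good : ∀ i, toFrame.x * (L.δ i * toFrame.x * (L.δ i)⁻¹) * ((L.δ i)⁻¹ * toFrame.x * L.δ i) = 1

namespace Frame

variable {G : Type u} [Group G] {t : G} {V : Type v} [AddCommGroup V] (F : Frame t V)

include F

theorem commute_w_x [Finite G] (L : Levi F.toBase) (i : Fin 3) : Commute (L.w i) F.x :=
  F.commute_fixed (L.w_t i) (L.w_sq i) (i := i) (by rw [L.w_ph, hs_hd]) F.x_mem F.x_sq
    (by rw [L.w_ph]; exact F.vx_fix i)

theorem exists_good [Finite G] : ∃ Gd : Good t V, Gd.Q = F.Q := by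
  classical
  obtain ⟨L⟩ := F.exists_levi
  let tau : Fin 3 → G := fun i => F.x * (L.δ i * F.x * (L.δ i)⁻¹) * ((L.δ i)⁻¹ * F.x * L.δ i)
  have hmem : ∀ {c}, Commute c t → c * F.x * c⁻¹ ∈ F.Q := fun hc => F.conj_mem hc F.x_mem
  have hcls : ∀ {c}, Commute c t → F.cls (c * F.x * c⁻¹) = F.r (F.ph c) F.vx :=
    fun hc => F.cls_conj _ hc _ F.x_mem
  have hmem' : ∀ i, (L.δ i)⁻¹ * F.x * L.δ i ∈ F.Q := fun i => by
    simpa using hmem (L.δ_t i).inv_left
  have htau : ∀ i, tau i = 1 ∨ tau i = t := fun i => by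
    have h0 : tau i ∈ F.Q := mul_mem (mul_mem F.x_mem (hmem (L.δ_t i))) (hmem' i)
    refine (F.cls_zero _ h0).1 ?_
    have e1 : F.cls ((L.δ i)⁻¹ * F.x * L.δ i) = F.r (hd i * hd i) F.vx := by
      have := hcls (L.δ_t i).inv_left
      rwa [inv_inv, F.ph_inv (L.δ_t i), L.δ_ph, inv_eq_of_mul_eq_one_left (hd_cube i)] at this
    show F.cls (F.x * (L.δ i * F.x * (L.δ i)⁻¹) * ((L.δ i)⁻¹ * F.x * L.δ i)) = 0
    rw [F.cls_mul _ (mul_mem F.x_mem (hmem (L.δ_t i))) _ (hmem' i), F.cls_mul _ F.x_mem _ (hmem (L.δ_t i)),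
      hcls (L.δ_t i), L.δ_ph, e1, add_assoc]
    show F.vx + F.cube.pj i F.vx = 0
    rw [F.cube.pj_eq]; exact F.two _
  have heq : ∀ i j, i ≠ j → tau i = tau j := by
    intro i j hij
    obtain ⟨k, hki, hkj⟩ : ∃ k, k ≠ i ∧ k ≠ j := by revert i j; decide
    let p : G → G := fun c => c * F.x * c⁻¹
    let S : Subgroup G := centralizer ({L.w k} : Set G) ⊓ F.Q
    have hcomm : ∀ a ∈ S, ∀ b ∈ S, Commute a b := by
      rintro a ⟨ha1, ha⟩ b ⟨hb1, hb⟩
      refine (F.comm a ha b hb).2 (F.cube.fix_iso (i := k) ?_ ?_)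
      · show F.r (hs k) (F.cls a) = F.cls a
        rw [← L.w_ph k, ← F.cls_conj _ (L.w_t k) a ha, ← mem_centralizer_singleton_iff.1 ha1,
          mul_inv_cancel_right]
      · show F.r (hs k) (F.cls b) = F.cls b
        rw [← L.w_ph k, ← F.cls_conj _ (L.w_t k) b hb, ← mem_centralizer_singleton_iff.1 hb1,
          mul_inv_cancel_right]
    have hp : ∀ c, Commute c t → Commute c (L.w k) → p c ∈ S := fun c hc hck =>
      ⟨mem_centralizer_singleton_iff.2 ((hck.mul_left (F.commute_w_x L k).symm).mul_left hck.inv_left).eq,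
        hmem hc⟩
    have hci : Commute (L.δ i) (L.w k) := (L.wδ_comm k i hki).symm
    have hcj : Commute (L.δ j) (L.w k) := (L.wδ_comm k j hkj).symm
    set d := L.δ i
    set e := L.δ j
    have hde : Commute d e := L.δ_comm i j
    have hti : tau i = p 1 * p d * p d⁻¹ := by simp [tau, p, d]
    have htj : tau j = p 1 * p e * p e⁻¹ := by simp [tau, p, e]
    have hd' : Commute d t := L.δ_t i
    have he' : Commute e t := L.δ_t j
    have conjt : ∀ c, Commute c t → ∀ z, (z = 1 ∨ z = t) → c * z * c⁻¹ = z := by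
      rintro c hc z (rfl | rfl)
      · group
      · rw [hc.eq, mul_inv_cancel_right]
    have row : ∀ c, Commute c t → p c * p (c * e) * p (c * e⁻¹) = tau j := fun c hc => by
      rw [← conjt c hc _ (htau j), htj]; simp only [p]; group
    have col : ∀ c, Commute c t → p c * p (c * d) * p (c * d⁻¹) = tau i := fun c hc => by
      rw [← conjt c hc _ (htau i), hti]; simp only [p]; group
    have r1 := row 1 (Commute.one_left t)
    have r2 := row d hd'
    have r3 := row d⁻¹ hd'.inv_left
    have c1 := col 1 (Commute.one_left t)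
    have c2 := col e he'
    have c3 := col e⁻¹ he'.inv_left
    simp only [one_mul] at r1 c1
    rw [← hde.eq, ← (hde.inv_left).eq] at c2
    rw [← hde.inv_right.eq, ← hde.inv_inv.eq] at c3
    have m : ∀ {c}, Commute c t → Commute c (L.w k) → p c ∈ S := fun {c} => hp c
    have s1 := m (Commute.one_left t) (Commute.one_left _)
    have sd := m hd' hci
    have sd' := m hd'.inv_left hci.inv_left
    have se := m he' hcj
    have se' := m he'.inv_left hcj.inv_left
    have sde := m (hd'.mul_left he') (hci.mul_left hcj)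
    have sde' := m (hd'.mul_left he'.inv_left) (hci.mul_left hcj.inv_left)
    have sd'e := m (hd'.inv_left.mul_left he') (hci.inv_left.mul_left hcj)
    have sd'e' := m (hd'.inv_left.mul_left he'.inv_left) (hci.inv_left.mul_left hcj.inv_left)
    have shuffle : ∀ {a b c a' b' c' a'' b'' c'' : G}, a' ∈ S → b ∈ S → c ∈ S → a'' ∈ S → b' ∈ S → b'' ∈ S →
        c' ∈ S → (a * b * c) * (a' * b' * c') * (a'' * b'' * c'') =
          (a * a' * a'') * (b * b' * b'') * (c * c' * c'') := by
      intro a b c a' b' c' a'' b'' c'' ha' hb hc ha'' hb' hb'' hc'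
      calc (a * b * c) * (a' * b' * c') * (a'' * b'' * c'')
          = a * (b * c) * a' * ((b' * c') * a'') * b'' * c'' := by group
        _ = a * (b * c * a') * (a'' * (b' * c')) * b'' * c'' := by
          rw [(hcomm (b' * c') (mul_mem hb' hc') a'' ha'').eq]; group
        _ = a * (a' * (b * c)) * (a'' * (b' * c')) * b'' * c'' := by
          rw [(hcomm (b * c) (mul_mem hb hc) a' ha').eq]
        _ = a * a' * ((b * c) * a'') * b' * (c' * b'') * c'' := by group
        _ = a * a' * (a'' * (b * c)) * b' * (b'' * c') * c'' := by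
          rw [(hcomm (b * c) (mul_mem hb hc) a'' ha'').eq, (hcomm c' hc' b'' hb'').eq]
        _ = a * a' * a'' * b * (c * (b' * b'')) * c' * c'' := by group
        _ = a * a' * a'' * b * ((b' * b'') * c) * c' * c'' := by
          rw [(hcomm c hc (b' * b'') (mul_mem hb' hb'')).eq]
        _ = _ := by group
    have h9 := shuffle (a := p 1) (b := p e) (c := p e⁻¹) (a' := p d) (b' := p (d * e)) (c' := p (d * e⁻¹))
      (a'' := p d⁻¹) (b'' := p (d⁻¹ * e)) (c'' := p (d⁻¹ * e⁻¹)) sd se se' sd' sde sd'e sde'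
    rw [r1, r2, r3, c1, c2, c3] at h9
    rcases htau i with a | a <;> rcases htau j with b | b <;> rw [a, b] at h9 ⊢
    · simp [F.t_sq] at h9
      exact h9.symm
    · simp [F.t_sq] at h9
      exact h9.symm
  have hall : ∀ i, tau i = tau 0 := fun i => by
    by_cases h : i = 0
    · rw [h]
    · exact heq i 0 h
  rcases htau 0 with h0 | h0
  · exact ⟨{ F with L := L, good := fun i => (hall i).trans h0 }, rfl⟩
  · obtain ⟨q, hq, hqx⟩ := exists_a F.pair
    have hqt : Commute q t := F.comm_t hq
    have hx2 : q * F.g * t * (q * F.g)⁻¹ = F.x * t := by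
      rw [F.tx.symm.eq, ← hqx]; group
    have hR : F.Q.map (MulAut.conj (q * F.g)).toMonoidHom = (F.R).map (MulAut.conj q).toMonoidHom := by
      rw [Subgroup.map_map]
      congr 1
      ext a
      simp [mul_assoc]
    have hne : q * F.g * t * (q * F.g)⁻¹ ≠ t := fun e => by
      rw [hx2] at e
      exact F.pair.pre'.gen.ne_one (mul_eq_right.1 e)
    have hxQ : q * F.g * t * (q * F.g)⁻¹ ∈ F.Q := by rw [hx2]; exact mul_mem F.x_mem F.pre.gen.mem
    have hinf : (F.Q ⊓ F.R).map (MulAut.conj q).toMonoidHom =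
        F.Q ⊓ F.Q.map (MulAut.conj (q * F.g)).toMonoidHom := by
      rw [Subgroup.map_inf _ _ _ (MulAut.conj q).injective, hR]
      congr 1
      exact mem_normalizer_iff_map_conj_eq.1 (le_normalizer hq)
    have hct : (centralizer ({t} : Set G)).map (MulAut.conj q).toMonoidHom = centralizer ({t} : Set G) :=
      mem_normalizer_iff_map_conj_eq.1 (le_normalizer (mem_centralizer_singleton_iff.2 hqt.eq))
    let F' : Frame t V :=
      { F.toBase with
        g := q * F.g
        pair := pair_of F.pre hxQ fun h => hne (mul_inv_eq_iff_eq_mul.2 (mem_centralizer_singleton_iff.1 h))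
        img := fun b hb hc i => by
          rw [hR] at hb
          obtain ⟨b', hb', rfl⟩ := hb
          have hb't : Commute b' t := (Commute.conj_iff q).1 (by
            show Commute (q * b' * q⁻¹) (q * t * q⁻¹)
            rw [hqt.eq, mul_inv_cancel_right]; exact hc)
          have := F.img b' hb' hb't i
          show F.ph (q * b' * q⁻¹) i = 1 ∨ F.ph (q * b' * q⁻¹) i = _
          rwa [F.ph_conj hqt hb't, F.ph_of_mem hq, one_mul, inv_one, mul_one]
        lift := fun i => by
          obtain ⟨b, hb, hbt, hbe⟩ := F.lift i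
          refine ⟨q * b * q⁻¹, hR ▸ ⟨b, hb, rfl⟩, (hqt.mul_left hbt).mul_left hqt.inv_left, ?_⟩
          show F.ph (q * b * q⁻¹) = _
          rw [F.ph_conj hqt hbt, F.ph_of_mem hq, one_mul, inv_one, mul_one, hbe]
        cardE := by rw [← hinf, card_map_of_injective (MulAut.conj q).injective]; exact F.cardE
        cardB := by
          rw [hR, ← hct, ← Subgroup.map_inf _ _ _ (MulAut.conj q).injective,
            card_map_of_injective (MulAut.conj q).injective]
          exact F.cardB }
    refine ⟨{ F' with L := L, good := fun i => ?_ }, rfl⟩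
    show q * F.g * t * (q * F.g)⁻¹ * (L.δ i * (q * F.g * t * (q * F.g)⁻¹) * (L.δ i)⁻¹) *
      ((L.δ i)⁻¹ * (q * F.g * t * (q * F.g)⁻¹) * L.δ i) = 1
    rw [hx2]
    have e1 : L.δ i * (F.x * t) * (L.δ i)⁻¹ = L.δ i * F.x * (L.δ i)⁻¹ * t := by
      calc L.δ i * (F.x * t) * (L.δ i)⁻¹ = L.δ i * F.x * (t * (L.δ i)⁻¹) := by group
        _ = L.δ i * F.x * ((L.δ i)⁻¹ * t) := by rw [(L.δ_t i).inv_left.eq]
        _ = _ := by group
    have e2 : (L.δ i)⁻¹ * (F.x * t) * L.δ i = (L.δ i)⁻¹ * F.x * L.δ i * t := by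
      calc (L.δ i)⁻¹ * (F.x * t) * L.δ i = (L.δ i)⁻¹ * F.x * (t * L.δ i) := by group
        _ = (L.δ i)⁻¹ * F.x * (L.δ i * t) := by rw [(L.δ_t i).eq]
        _ = _ := by group
    have hy : Commute t (L.δ i * F.x * (L.δ i)⁻¹) := (F.comm_t (hmem (L.δ_t i))).symm
    have hz : Commute t ((L.δ i)⁻¹ * F.x * L.δ i) := (F.comm_t (hmem' i)).symm
    have hti : tau i = t := (hall i).trans h0
    simp only [tau] at hti
    rw [e1, e2]
    generalize L.δ i * F.x * (L.δ i)⁻¹ = y at hy hti ⊢
    generalize (L.δ i)⁻¹ * F.x * L.δ i = z at hz hti ⊢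
    calc F.x * t * (y * t) * (z * t) = F.x * (t * y) * (t * z) * t := by group
      _ = F.x * (y * t) * (z * t) * t := by rw [hy.eq, hz.eq]
      _ = F.x * y * (t * z) * (t * t) := by group
      _ = F.x * y * (z * t) := by rw [hz.eq, F.t_sq, mul_one]
      _ = F.x * y * z * t := by group
      _ = 1 := by rw [hti, F.t_sq]

end Frame

end CfsgLib.O8Plus
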