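import Cfsg.Agent.O8Plus.FrameFacts
import Mathlib.GroupTheory.Perm.Sign

/-!
A complement to the radical modulo its centre.
-/

set_option autoImplicit false
set_option linter.style.haveILetI false
set_option linter.unusedSectionVars false

namespace CfsgLib.O8Plus

open Subgroup CfsgLib.LargeExtra CfsgLib.Extra2

universe u v

/-- Lifts of the standard generators of the top group. -/
structure Levi {G : Type u} [Group G] {t : G} {V : Type v} [AddCommGroup V] (D : Base t V) where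
  δ : Fin 3 → G
  w : Fin 3 → G
  δ_t : ∀ i, Commute (δ i) t
  w_t : ∀ i, Commute (w i) t
  δ_ph : ∀ i, D.ph (δ i) = hd i
  w_ph : ∀ i, D.ph (w i) = hs i
  δ_cube : ∀ i, δ i * δ i * δ i = 1
  δ_comm : ∀ i j, Commute (δ i) (δ j)
  w_sq : ∀ i, w i * w i = 1
  w_comm : ∀ i j, Commute (w i) (w j)
  wδ : ∀ i, w i * δ i * w i = (δ i)⁻¹
  wδ_comm : ∀ i j, i ≠ j → Commute (w i) (δ j)

/-- The parity of the three components. -/
noncomputable def sgn3 : H3 →* (Fin 3 → ℤˣ) :=
  MonoidHom.pi fun i => Equiv.Perm.sign.comp (Pi.evalMonoidHom (fun _ : Fin 3 => Equiv.Perm (Fin 3)) i)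

namespace Frame

variable {G : Type u} [Group G] {t : G} {V : Type v} [AddCommGroup V] (F : Frame t V)

include F

/-- A vector fixed by an involution is a commutator. -/
theorem split [Finite G] {α m : G} (hα : Commute α t) (h2 : α * α = 1) {i : Fin 3}
    (hinv : F.ph α * hd i = hd i * hd i * F.ph α) (hm : m ∈ F.Q)
    (hfix : F.r (F.ph α) (F.cls m) = F.cls m) :
    ∃ r ∈ F.Q, m = r * α * r⁻¹ * α ∨ m = r * α * r⁻¹ * α * t := by
  obtain ⟨r, hr, er⟩ := F.cls_surj (F.r (hd i * hd i) (F.cls m))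
  refine ⟨r, hr, ?_⟩
  have e1 : r * α * r⁻¹ * α = r * (α * r⁻¹ * α⁻¹) := by rw [inv_eq_of_mul_eq_one_right h2]; group
  have hk := F.conj_mem hα (inv_mem hr)
  have hp : r * α * r⁻¹ * α ∈ F.Q := e1 ▸ mul_mem hr hk
  have hh : F.ph α * (hd i * hd i) = hd i * F.ph α := by
    rw [← mul_assoc, hinv, mul_assoc, hinv, ← mul_assoc, ← mul_assoc, hd_cube, one_mul]
  refine F.eq_or hp hm ?_
  rw [e1, F.cls_mul _ hr _ hk, F.cls_conj α hα _ (inv_mem hr), F.cls_inv hr, er, ← F.r_mul, hh,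
    F.r_mul (hd i) (F.ph α), hfix,
    add_comm]
  exact F.cube.pj_eq i _

theorem conj_split {α r : G} (h2 : α * α = 1) : α * (r * α * r⁻¹ * α) * α = (r * α * r⁻¹ * α)⁻¹ := by
  have e : α⁻¹ = α := inv_eq_of_mul_eq_one_right h2
  calc α * (r * α * r⁻¹ * α) * α = α * r * α * r⁻¹ * (α * α) := by group
    _ = α⁻¹ * r * α⁻¹ * r⁻¹ := by rw [h2, e, mul_one]
    _ = _ := by group

/-- An involution fixing the class of an involution of the radical commutes with it. -/
theorem commute_fixed [Finite G] {α m : G} (hα : Commute α t) (h2 : α * α = 1) {i : Fin 3}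
    (hinv : F.ph α * hd i = hd i * hd i * F.ph α) (hm : m ∈ F.Q) (hm2 : m * m = 1)
    (hfix : F.r (F.ph α) (F.cls m) = F.cls m) : Commute α m := by
  obtain ⟨r, hr, e⟩ := F.split hα h2 hinv hm hfix
  have key : α * m * α = m⁻¹ := by
    rcases e with rfl | rfl
    · exact F.conj_split h2
    · calc α * (r * α * r⁻¹ * α * t) * α = α * (r * α * r⁻¹ * α) * (t * α) := by group
        _ = α * (r * α * r⁻¹ * α) * α * t := by rw [← hα.eq]; group
        _ = (r * α * r⁻¹ * α)⁻¹ * t⁻¹ := by rw [F.conj_split h2, F.t_inv]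
        _ = (t * (r * α * r⁻¹ * α))⁻¹ := by group
        _ = _ := by rw [(F.comm_t (q := r * α * r⁻¹ * α) (by
            have := mul_mem hm F.pre.gen.mem
            rwa [mul_assoc _ t t, F.t_sq, mul_one] at this)).eq]
  rw [inv_eq_of_mul_eq_one_right hm2] at key
  calc α * m = α * m * (α * α) := by rw [h2, mul_one]
    _ = α * m * α * α := by group
    _ = m * α := by rw [key]

/-- Lifts of squared central order of an involution are involutions. -/
theorem sq_lift [Finite G] {α n : G} (hα : Commute α t) (h2 : α * α = 1) {i : Fin 3}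
    (hinv : F.ph α * hd i = hd i * hd i * F.ph α) (hn : Commute n t) (hph : F.ph n = F.ph α)
    (hn2 : n * n = 1 ∨ n * n = t) : n * n = 1 := by
  have hm : n * α ∈ F.Q := (F.ph_Q _ (hn.mul_left hα)).1 (by
    rw [F.ph_mul _ _ hn hα, hph, ← F.ph_mul _ _ hα hα, h2, F.ph_one])
  have hn0 : F.cls (n * n) = 0 := by rcases hn2 with e | e <;> rw [e] <;> simp [F.cls_one, F.cls_t]
  have e1 : n * n = n * α * (α * (n * α) * α⁻¹) := by
    rw [inv_eq_of_mul_eq_one_right h2]
    calc n * n = n * (α * α) * n * (α * α) := by rw [h2, mul_one, mul_one]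
      _ = _ := by group
  rw [e1, F.cls_mul _ hm _ (F.conj_mem hα hm), F.cls_conj α hα _ hm] at hn0
  obtain ⟨r, hr, e⟩ := F.split hα h2 hinv hm (F.eq_of_add hn0).symm
  have en : n = n * α * α := by rw [mul_assoc, h2, mul_one]
  rcases e with e | e <;> rw [en, e]
  · calc r * α * r⁻¹ * α * α * (r * α * r⁻¹ * α * α) = r * α * r⁻¹ * (r * α * r⁻¹) := by
            rw [mul_assoc _ α α, h2, mul_one]
      _ = r * (α * α) * r⁻¹ := by group
      _ = 1 := by rw [h2]; group
  · calc r * α * r⁻¹ * α * t * α * (r * α * r⁻¹ * α * t * α)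
        = r * α * r⁻¹ * (α * (t * α)) * (r * α * r⁻¹ * (α * (t * α))) := by group
      _ = r * α * r⁻¹ * t * (r * α * (r⁻¹ * t)) := by rw [← hα.eq, ← mul_assoc α α, h2, one_mul]; group
      _ = r * α * r⁻¹ * t * (r * α * (t * r⁻¹)) := by rw [(F.comm_t hr).inv_left.eq]
      _ = r * α * r⁻¹ * (t * r) * (α * t) * r⁻¹ := by group
      _ = r * α * r⁻¹ * (r * t) * (t * α) * r⁻¹ := by rw [(F.comm_t hr).eq, hα.eq]
      _ = r * α * (t * t) * α * r⁻¹ := by group
      _ = r * (α * α) * r⁻¹ := by rw [F.t_sq]; group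
      _ = 1 := by rw [h2]; group

/-- Involutory lifts of one or two standard involutions. -/
theorem exists_lift_invol [Finite G] (i j : Fin 3) :
    ∃ α, Commute α t ∧ α * α = 1 ∧ F.ph α = if j = i then hs i else hs i * hs j := by
  obtain ⟨e, he, heR, hef, hei⟩ := F.exists_dual i
  obtain ⟨b, hb, hbt, hbe⟩ : ∃ b ∈ F.R, Commute b t ∧ F.ph b = if j = i then hs i else hs i * hs j := by
    obtain ⟨b, hb, hbt, hbe⟩ := F.lift i
    by_cases hji : j = i
    · exact ⟨b, hb, hbt, by rw [if_pos hji, hbe]⟩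
    · obtain ⟨b', hb', hbt', hbe'⟩ := F.lift j
      exact ⟨b * b', mul_mem hb hb', hbt.mul_left hbt',
        by rw [if_neg hji, F.ph_mul _ _ hbt hbt', hbe, hbe']⟩
  rcases F.pair.pre'.gen.square b hb with e2 | e2
  · exact ⟨b, hbt, e2, hbe⟩
  have hne : ¬ Commute b e := fun hc => by
    have h := F.cls_conj b hbt e he
    rw [hc.eq, mul_inv_cancel_right, hbe] at h
    apply F.vx_ne
    rw [← hei]
    by_cases hji : j = i
    · rw [if_pos hji] at h; rw [← h, F.two]
    · rw [if_neg hji, F.r_mul, hef j hji] at h; rw [← h, F.two]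
  refine ⟨b * e, hbt.mul_left (F.comm_t he), ?_, by
    rw [F.ph_mul _ _ hbt (F.comm_t he), F.ph_of_mem he, mul_one, hbe]⟩
  rcases F.pair.pre'.gen.comm e heR b hb with c | c
  · exact absurd (mul_inv_eq_iff_eq_mul.1 (mul_inv_eq_one.1 c)).symm hne
  · have e3 : e * b = F.x * (b * e) := by
      calc e * b = e * b * e⁻¹ * b⁻¹ * (b * e) := by group
        _ = _ := by rw [c]
    calc b * e * (b * e) = b * (e * b) * e := by group
      _ = (b * F.x) * b * (e * e) := by rw [e3]; group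
      _ = F.x * (b * b) := by rw [(F.comm_x hb).eq, F.E_sq he heR, mul_one, mul_assoc]
      _ = 1 := by rw [e2, F.x_sq]

theorem exists_levi [Finite G] : Nonempty (Levi F.toBase) := by
  classical
  haveI : Fact (Nat.Prime 3) := ⟨Nat.prime_three⟩
  let C := centralizer ({t} : Set G)
  have hC : ∀ {a : C}, Commute (a : G) t := fun {a} => mem_centralizer_singleton_iff.1 a.2
  let φ : C →* H3 :=
    { toFun := fun a => F.ph a
      map_one' := F.ph_one
      map_mul' := fun a b => F.ph_mul _ _ hC hC }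
  have hφs : Function.Surjective φ := fun h => by
    obtain ⟨a, ha, e⟩ := F.ph_surj h
    exact ⟨⟨a, mem_centralizer_singleton_iff.2 ha.eq⟩, e⟩
  let Dn : Subgroup H3 := sgn3.ker
  have hDn : ∀ h : H3, h ∈ Dn ↔ ∀ i, Equiv.Perm.sign (h i) = 1 := fun h => by
    show sgn3 h = 1 ↔ _
    exact funext_iff
  have hperm : ∀ g g' : Equiv.Perm (Fin 3), Equiv.Perm.sign g = 1 → Equiv.Perm.sign g' = 1 →
      g * g * g = 1 ∧ g * g' = g' * g := by decide +kernel
  have hDn3 : IsPGroup 3 Dn := fun h => ⟨1, Subtype.ext (funext fun i => by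
    have := (hperm (h.1 i) _ ((hDn _).1 h.2 i) ((hDn _).1 h.2 i)).1
    simpa [pow_succ] using this)⟩
  have hd_mem : ∀ i, hd i ∈ Dn := fun i => (hDn _).2 fun j => by
    revert i j; decide +kernel
  let N : Subgroup C := Dn.comap φ
  haveI : N.Normal := (MonoidHom.normal_ker sgn3).comap φ
  let ψ : N →* Dn := φ.subgroupComap Dn
  have hψ : Function.Surjective ψ := fun d => by
    obtain ⟨a, ha⟩ := hφs d
    exact ⟨⟨a, show φ a ∈ Dn by rw [ha]; exact d.2⟩, Subtype.ext ha⟩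
  obtain ⟨P⟩ : Nonempty (Sylow 3 N) := inferInstance
  have htop : (P.mapSurjective hψ : Subgroup Dn) = ⊤ :=
    ((P.mapSurjective hψ).is_maximal' (hDn3.to_subgroup ⊤) le_top).symm
  set Λ := (P : Subgroup N).map N.subtype with hΛ
  have hinj : ∀ p ∈ Λ, φ p = 1 → p = 1 := by
    intro p hp hp1
    obtain ⟨p', hp', rfl⟩ := hp
    obtain ⟨k, hk⟩ := P.isPGroup' ⟨p', hp'⟩
    have hq : ((p' : C) : G) ∈ F.Q := (F.ph_Q _ hC).1 hp1
    obtain ⟨l, hl⟩ := F.twoQ ⟨_, hq⟩
    have h3 : ((p' : C) : G) ^ 3 ^ k = 1 := congrArg (fun a : (P : Subgroup N) => (((a : N) : C) : G)) hk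
    have h2 : ((p' : C) : G) ^ 2 ^ l = 1 := congrArg Subtype.val hl
    refine Subtype.ext (orderOf_eq_one_iff.1 (Nat.eq_one_of_dvd_coprimes
      (Nat.Coprime.pow k l (by norm_num : Nat.Coprime 3 2)) (orderOf_dvd_of_pow_eq_one h3)
      (orderOf_dvd_of_pow_eq_one h2)))
  have huniq : ∀ p ∈ Λ, ∀ p' ∈ Λ, φ p = φ p' → p = p' := fun p hp p' hp' e =>
    inv_mul_eq_one.1 (hinj _ (mul_mem (inv_mem hp) hp') (by rw [map_mul, map_inv, e, inv_mul_cancel]))
  have himg : ∀ p ∈ Λ, φ p ∈ Dn := by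
    rintro _ ⟨p', -, rfl⟩; exact p'.2
  have hpre : ∀ d ∈ Dn, ∃ p ∈ Λ, φ p = d := fun d hd' => by
    have : (⟨d, hd'⟩ : Dn) ∈ (P.mapSurjective hψ : Subgroup Dn) := htop ▸ Subgroup.mem_top _
    obtain ⟨p, hp, e⟩ := this
    exact ⟨p, mem_map_of_mem _ hp, congrArg Subtype.val e⟩
  have hcomm : ∀ p ∈ Λ, ∀ p' ∈ Λ, p * p' = p' * p := fun p hp p' hp' =>
    huniq _ (mul_mem hp hp') _ (mul_mem hp' hp) (by
      rw [map_mul, map_mul]
      exact funext fun i => (hperm _ _ ((hDn _).1 (himg p hp) i) ((hDn _).1 (himg p' hp') i)).2)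
  choose δ hδ hδe using fun i => hpre (hd i) (hd_mem i)
  have hn : ∀ i, ∃ n ∈ normalizer (Λ : Set C), φ n = hs i := by
    intro i
    obtain ⟨c, hc⟩ := hφs (hs i)
    have hsup : c ∈ normalizer (Λ : Set C) ⊔ N := by
      rw [hΛ, Sylow.normalizer_sup_eq_top P]; exact Subgroup.mem_top _
    obtain ⟨n, hn, a, ha, rfl⟩ := Subgroup.mem_sup_of_normal_right.1 hsup
    obtain ⟨p, hp, hpa⟩ := hpre (φ a) ha
    refine ⟨n * p, mul_mem hn (le_normalizer hp), ?_⟩
    rw [map_mul, hpa, ← map_mul, hc]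
  choose w hw hwe using hn
  have hfix : ∀ {q : C}, q ∈ normalizer (Λ : Set C) → φ q = 1 → (q : G) = 1 ∨ (q : G) = t := by
    intro q hq hq1
    refine F.fixed_trivial ((F.ph_Q _ hC).1 hq1) (hC (a := δ 0)) (hδe 0) ?_
    have h := huniq _ ((mem_normalizer_iff.1 hq _).1 (hδ 0)) _ (hδ 0)
      (by rw [map_mul, map_mul, map_inv, hq1, one_mul, inv_one, mul_one])
    exact (congrArg Subtype.val (mul_inv_eq_iff_eq_mul.1 h)).symm
  have hsq : ∀ q : C, q ∈ normalizer (Λ : Set C) → ∀ i j,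
      φ q = (if j = i then hs i else hs i * hs j) → (q : G) * q = 1 := by
    intro q hq i j he
    obtain ⟨α, hαt, hα2, hαe⟩ := F.exists_lift_invol i j
    have hinv : F.ph α * hd i = hd i * hd i * F.ph α := by
      rw [hαe]
      split_ifs with hji
      · exact hs_hd i
      · have c : Commute (hs j) (hd i) := hs_hd_comm j i hji
        rw [mul_assoc, c.eq, ← mul_assoc, hs_hd, mul_assoc (hd i * hd i)]
    refine F.sq_lift hαt hα2 hinv hC ?_ (hfix (mul_mem hq hq) ?_)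
    · rw [hαe]; exact he
    · rw [map_mul, he, ← hαe, ← F.ph_mul _ _ hαt hαt, hα2, F.ph_one]
  have hw2 : ∀ i, ((w i : C) : G) * w i = 1 := fun i => hsq _ (hw i) i i (by rw [if_pos rfl, hwe])
  have hwδ : ∀ i j, w i * δ j * (w i)⁻¹ ∈ Λ := fun i j => (mem_normalizer_iff.1 (hw i) _).1 (hδ j)
  refine ⟨{
    δ := fun i => (δ i : G)
    w := fun i => (w i : G)
    δ_t := fun i => hC
    w_t := fun i => hC
    δ_ph := hδe
    w_ph := hwe
    δ_cube := fun i => by
      have h := hinj _ (mul_mem (mul_mem (hδ i) (hδ i)) (hδ i)) (by rw [map_mul, map_mul, hδe, hd_cube])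
      exact congrArg Subtype.val h
    δ_comm := fun i j => congrArg Subtype.val (hcomm _ (hδ i) _ (hδ j))
    w_sq := hw2
    w_comm := fun i j => ?_
    wδ := fun i => ?_
    wδ_comm := fun i j hij => ?_ }⟩
  · by_cases hji : j = i
    · rw [hji]
    have h := hsq _ (mul_mem (hw i) (hw j)) i j (by rw [if_neg hji, map_mul, hwe, hwe])
    exact F.commute_of_sq (hw2 i) (hw2 j) h
  · have h := huniq _ (hwδ i i) _ (inv_mem (hδ i)) (by
      rw [map_mul, map_mul, map_inv, map_inv, hwe, hδe, hs_hd, mul_inv_cancel_right]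
      exact eq_inv_of_mul_eq_one_left (hd_cube i))
    have h' : ((w i : C) : G) * δ i * ((w i : C) : G)⁻¹ = ((δ i : C) : G)⁻¹ := congrArg Subtype.val h
    rwa [inv_eq_of_mul_eq_one_right (hw2 i)] at h'
  · have h := huniq _ (hwδ i j) _ (hδ j) (by
      rw [map_mul, map_mul, map_inv, hwe, hδe, hs_hd_comm i j hij, mul_inv_cancel_right])
    exact congrArg Subtype.val (mul_inv_eq_iff_eq_mul.1 h)

end Frame

namespace Levi

variable {G : Type u} [Group G] {t : G} {V : Type v} [AddCommGroup V] {D : Base t V} (L : Levi D)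

include L

/-- The second involution in each factor. -/
def u (i : Fin 3) : G := L.δ i * L.w i * (L.δ i)⁻¹

theorem δ_inv (i : Fin 3) : (L.δ i)⁻¹ = L.δ i * L.δ i := inv_eq_of_mul_eq_one_left (L.δ_cube i)

theorem w_inv (i : Fin 3) : (L.w i)⁻¹ = L.w i := inv_eq_of_mul_eq_one_right (L.w_sq i)

theorem u_t (i : Fin 3) : Commute (L.u i) t := ((L.δ_t i).mul_left (L.w_t i)).mul_left (L.δ_t i).inv_left

theorem u_sq (i : Fin 3) : L.u i * L.u i = 1 := by
  calc L.u i * L.u i = L.δ i * (L.w i * L.w i) * (L.δ i)⁻¹ := by rw [u]; group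
    _ = 1 := by rw [L.w_sq]; group

theorem u_inv (i : Fin 3) : (L.u i)⁻¹ = L.u i := inv_eq_of_mul_eq_one_right (L.u_sq i)

theorem w_u (i : Fin 3) : L.w i * L.u i = L.δ i := by
  calc L.w i * L.u i = L.w i * L.δ i * L.w i * (L.δ i)⁻¹ := by rw [u]; group
    _ = (L.δ i)⁻¹ * (L.δ i)⁻¹ := by rw [L.wδ]
    _ = (L.δ i * L.δ i * L.δ i)⁻¹ * L.δ i := by group
    _ = L.δ i := by rw [L.δ_cube, inv_one, one_mul]

theorem wu_cube (i : Fin 3) : L.w i * L.u i * (L.w i * L.u i) * (L.w i * L.u i) = 1 := by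
  rw [w_u, L.δ_cube]

theorem w_u_comm {i j : Fin 3} (h : i ≠ j) : Commute (L.w i) (L.u j) :=
  ((L.wδ_comm i j h).mul_right (L.w_comm i j)).mul_right (L.wδ_comm i j h).inv_right

theorem δ_u_comm {i j : Fin 3} (h : i ≠ j) : Commute (L.δ i) (L.u j) :=
  ((L.δ_comm i j).mul_right (L.wδ_comm j i h.symm).symm).mul_right (L.δ_comm i j).inv_right

theorem u_comm (i j : Fin 3) : Commute (L.u i) (L.u j) := by
  by_cases h : i = j
  · rw [h]
  · exact ((L.δ_u_comm h).mul_left (L.w_u_comm h)).mul_left (L.δ_u_comm h).inv_left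

theorem u_ph (i : Fin 3) : D.ph (L.u i) = hd i * hs i * (hd i * hd i) := by
  rw [u, D.ph_mul _ _ ((L.δ_t i).mul_left (L.w_t i)) (L.δ_t i).inv_left, D.ph_mul _ _ (L.δ_t i) (L.w_t i),
    D.ph_inv (L.δ_t i), L.δ_ph, L.w_ph, inv_eq_of_mul_eq_one_left (hd_cube i)]

end Levi

end CfsgLib.O8Plus
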