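import Cfsg.Agent.O8Plus.Gens
import Cfsg.Agent.S0296

/-!
The eight root elements generate `Ω₈⁺(2)`, which is presented by the relators.
-/

set_option autoImplicit false
set_option maxRecDepth 100000
set_option linter.style.haveILetI false

namespace CfsgLib.O8Plus

open CfsgLib.Coset CfsgLib.Quad CfsgLib.Forms Matrix

/-- A subgroup containing the products of all Coxeter generators with one element has index at most two. -/
theorem index_le_two_of_pairs {B W G : Type*} [Group W] [Group G] {M : CoxeterMatrix B}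
    (cs : CoxeterSystem M W) (φ : W →* G) (hφ : Function.Surjective φ) (gen : B → G)
    (hgen : ∀ i, φ (cs.simple i) = gen i) (hsq : ∀ i, gen i * gen i = 1) (o : B) (K : Subgroup G)
    (hK : ∀ i, gen i * gen o ∈ K) : K.index ≤ 2 := by
  have cov : ∀ w : W, φ w ∈ K ∨ φ w * gen o ∈ K := by
    intro w
    induction w using cs.simple_induction_right with
    | one => exact Or.inl (by rw [map_one]; exact one_mem _)
    | mul_simple_right w i ih =>
      rw [map_mul, hgen]
      rcases ih with h | h
      · exact Or.inr (by rw [mul_assoc]; exact mul_mem h (hK i))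
      · refine Or.inl ?_
        have e : φ w * gen o * (gen i * gen o)⁻¹ = φ w * gen i := by
          rw [_root_.mul_inv_rev, inv_eq_of_mul_eq_one_right (hsq i), inv_eq_of_mul_eq_one_right (hsq o),
            mul_assoc, ← mul_assoc (gen o), hsq, one_mul]
        rw [← e]
        exact mul_mem h (inv_mem (hK i))
  let f : Bool → G ⧸ K := fun b => QuotientGroup.mk (if b then gen o else 1)
  have hf : Function.Surjective f := by
    refine Quotient.ind fun g => ?_
    obtain ⟨w, hw⟩ := hφ g⁻¹
    rcases cov w with h | h <;> rw [hw] at h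
    · exact ⟨false, (QuotientGroup.eq.2 (by simpa using h)).symm⟩
    · exact ⟨true, (QuotientGroup.eq.2 (by simpa using h)).symm⟩
  exact (Nat.card_le_card_of_surjective f hf).trans (by simp)

/-- The counting step. -/
theorem eq_of_index_le {G O : Type*} [Group G] [Group O] (e : G ≃* O) {H C : Subgroup G} (hle : H ≤ C) {n : Nat}
    (hC : Nat.card C = n) (hO : Nat.card O = 2 * n) (hn : n ≠ 0) (hi : (H.map e.toMonoidHom).index ≤ 2) :
    H = C := by
  have h := Subgroup.index_mul_card (H.map e.toMonoidHom)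
  rw [hO, show Nat.card (H.map e.toMonoidHom) = Nat.card H from
    Nat.card_congr (Subgroup.equivMapOfInjective _ _ e.injective).symm.toEquiv] at h
  haveI : Finite C := Nat.finite_of_card_ne_zero (by omega)
  refine Subgroup.eq_of_le_of_card_ge hle ?_
  rw [hC]
  nlinarith [h, Nat.mul_le_mul_right (Nat.card H) hi]

/-- The products of two Weyl reflections as words. -/
def pairW : List (List Nat) :=
  [[],
   [0, 2, 0, 3, 1, 5, 4, 7, 1, 5, 6, 7, 1, 0, 3, 2, 0],
   [0, 2, 0, 4, 5, 6, 0, 2, 0, 7],
   [0, 2, 0, 5, 1, 4, 7, 6, 0, 2, 0, 1, 4, 5, 1, 6, 7],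
   [1, 0, 2, 4, 0, 5, 7, 1, 5, 6, 0, 4, 0, 2, 7, 6, 0, 1, 5],
   [0, 2, 0, 1, 5, 4, 7, 1, 5, 6, 7, 1, 0, 2, 0],
   [3, 2, 0, 7, 6, 0, 4, 0, 2, 3, 6],
   [0, 2, 0, 4, 5, 4, 6, 7, 6, 0, 2, 0]]

theorem pairW_check : ∀ (i : Fin 8) (a : Idx → ZMod 2),
    matOf (codeW (pairW.getD i [])) *ᵥ OmegaEight.vec a =
      OmegaEight.vec (OmegaEight.act i (OmegaEight.act 0 a)) := by decide +kernel

theorem gen_pair_mem (i : Fin 8) :
    (OmegaEight.gen i * OmegaEight.gen 0 : oGroup (plusQ (F := ZMod 2) 4)) ∈ (Subgroup.closure (Set.range genG)).map ogEquiv.toMonoidHom := by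
  refine ⟨ev (List.ofFn genG) (pairW.getD i []), ?_, ?_⟩
  · refine list_prod_mem fun x hx => ?_
    obtain ⟨l, -, rfl⟩ := List.mem_map.1 hx
    by_cases h : l < 8
    · rw [fl, List.getD_eq_getElem _ _ (by simpa using h), List.getElem_ofFn]
      exact Subgroup.subset_closure ⟨_, rfl⟩
    · rw [fl_of_le _ (by simpa using Nat.le_of_not_lt h)]
      exact one_mem _
  · refine Subtype.ext (LinearEquiv.ext fun x => ?_)
    obtain ⟨a, rfl⟩ := OmegaEight.vec_surjective two_cases x
    rw [MulEquiv.coe_toMonoidHom, ogEquiv_apply, Subgroup.coe_mul, LinearEquiv.mul_apply,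
      OmegaEight.gen_apply, OmegaEight.gen_apply, ← pairW_check, ← encG_ev]
    exact congrArg (· *ᵥ _) (matOf_encM _).symm

theorem card_oGroup_two : Nat.card (oGroup (plusQ (F := ZMod 2) 4)) = 2 * 174182400 := by
  have := Subgroup.index_mul_card (commutator (oGroup (plusQ (F := ZMod 2) 4)))
  rw [index_commutator_char_two (plusQ_nondeg 4) (by simp) (Or.inr (by simp)),
    OmegaEight.card_omega two_cases] at this
  exact this.symm

theorem closure_genG : Subgroup.closure (Set.range genG) = commutator Og := by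
  obtain ⟨φ, hφ, hgen⟩ := OmegaEight.exists_phi (F := ZMod 2) two_cases
  refine eq_of_index_le ogEquiv ?_ card_Om card_oGroup_two (by norm_num) ?_
  · rw [Subgroup.closure_le]; rintro _ ⟨i, rfl⟩; exact genG_mem i
  · exact index_le_two_of_pairs CoxeterMatrix.E₈.toCoxeterSystem φ hφ OmegaEight.gen hgen
      OmegaEight.gen_sq 0 _ gen_pair_mem

theorem closure_N : Subgroup.closure (Set.range N) = ⊤ := by
  refine Subgroup.map_injective (Subgroup.subtype_injective _) ?_
  rw [MonoidHom.map_closure, ← Set.range_comp, ← MonoidHom.range_eq_map, Subgroup.range_subtype]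
  exact closure_genG

theorem closure_N_list : Subgroup.closure {x | x ∈ List.ofFn N} = ⊤ := by
  rw [← closure_N]
  congr 1
  ext x
  exact List.mem_ofFn

theorem exists_hom {X : Type*} [Group X] (g : Fin 8 → X)
    (hg : ∀ w ∈ rels, ev (List.ofFn g) w = 1) : ∃ f : Om →* X, ∀ i, f (N i) = g i := by
  have hlN : (List.ofFn N).length = 8 := List.length_ofFn
  have hlg : (List.ofFn g).length = 8 := List.length_ofFn
  haveI := card_numGr_le.1
  set h := numHom (rels := rels) hlN rels_N
  have hs : Function.Surjective h := MonoidHom.range_eq_top.1 (by rw [range_numHom, closure_N_list])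
  have hb : Function.Bijective h := hs.bijective_of_nat_card_le (by rw [card_Om]; exact card_numGr_le.2)
  refine ⟨(numHom hlg hg).comp (MulEquiv.ofBijective h hb).symm.toMonoidHom, fun i => ?_⟩
  have e1 : h (fl (numGens 8 rels) i.1) = N i := by
    rw [numHom_fl, fl, List.getD_eq_getElem _ _ (by rw [hlN]; exact i.2), List.getElem_ofFn]
  rw [← e1]
  show numHom hlg hg ((MulEquiv.ofBijective h hb).symm ((MulEquiv.ofBijective h hb) (fl (numGens 8 rels) i.1))) = g i
  rw [MulEquiv.symm_apply_apply, numHom_fl, fl, List.getD_eq_getElem _ _ (by rw [hlg]; exact i.2),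
    List.getElem_ofFn]

theorem center_Om : Subgroup.center Om = ⊥ := by
  have h := card_center_omega_one (Q := plusQ (F := ZMod 2) 4) (plusQ_nondeg 4) (by simp) (Or.inl (by decide))
  rw [← map_center_equiv omEquiv] at h
  rw [← Subgroup.card_eq_one, ← h]
  exact Nat.card_congr (Subgroup.equivMapOfInjective _ _ omEquiv.injective).toEquiv

theorem isSimple_Om : IsSimpleGroup Om := by
  haveI := Cfsg.Agent.S0296.result (F := ZMod 2) 4 le_rfl
  exact MulEquiv.isSimpleGroup (((QuotientGroup.quotientMulEquivOfEq center_Om).trans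
    QuotientGroup.quotientBot).symm : Om ≃* Cfsg.POmega (ZMod 2) (Cfsg.quadFormPlus 4 (ZMod 2)))

end CfsgLib.O8Plus
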