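import Cfsg.Agent.O8Plus.Elements

/-!
The root element exchanged with the opposite involution by the four-group.
-/

set_option autoImplicit false
set_option linter.style.haveILetI false
set_option linter.unusedSectionVars false

namespace CfsgLib.O8Plus

open Subgroup CfsgLib.LargeExtra CfsgLib.Extra2

universe u v

theorem perm3_double : ∀ g : Equiv.Perm (Fin 3), Equiv.swap 0 1 * g ≠ g * Equiv.swap 0 1 →
    ∃ a b : Equiv.Perm (Fin 3), (a = 1 ∨ a = Equiv.swap 0 1) ∧ (b = 1 ∨ b = Equiv.swap 0 1) ∧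
      g = a * (Equiv.swap 0 1 * Equiv.swap 1 2) * b := by decide +kernel

namespace Good

variable {G : Type u} [Group G] {t : G} {V : Type v} [AddCommGroup V] (D : Good t V) [Finite G]

include D

theorem exists_word {α : H3} (h : ∀ i, α i = 1 ∨ α i = Equiv.swap 0 1) :
    ∃ β ∈ D.R, Commute β t ∧ D.ph β = α := by
  classical
  let p : Fin 3 → G := fun j => if α j = 1 then 1 else D.L.w j
  have hp : ∀ j, p j ∈ D.R := fun j => by
    simp only [p]; split_ifs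
    exacts [one_mem _, D.w_mem_R j]
  have hpt : ∀ j, Commute (p j) t := fun j => by
    simp only [p]; split_ifs
    exacts [Commute.one_left t, D.L.w_t j]
  refine ⟨p 0 * p 1 * p 2, mul_mem (mul_mem (hp 0) (hp 1)) (hp 2), ((hpt 0).mul_left (hpt 1)).mul_left (hpt 2), ?_⟩
  rw [D.ph_mul _ _ ((hpt 0).mul_left (hpt 1)) (hpt 2), D.ph_mul _ _ (hpt 0) (hpt 1)]
  funext j
  rcases h 0 with a | a <;> rcases h 1 with a' | a' <;> rcases h 2 with a'' | a'' <;>
    fin_cases j <;> simp [p, D.ph_one, D.L.w_ph, hs, a, a', a'', Pi.mulSingle_eq_same]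

/-- A member opposite to the second involution differs from the standard one by an element of the
elementary group. -/
theorem opp_orbit {y c : G} (hc : Commute c t) (hy : y = c * D.x * c⁻¹) (hne : ¬ Commute y D.x) :
    ∃ β ∈ D.R, Commute β t ∧ (y = β * D.a * β⁻¹ ∨ y = β * D.a * β⁻¹ * t) := by
  have hyQ : y ∈ D.Q := hy ▸ D.conj_mem hc D.x_mem
  have hh : ∀ i, Equiv.swap 0 1 * D.ph c i ≠ D.ph c i * Equiv.swap 0 1 := by
    intro i e
    refine hne ((D.comm y hyQ _ D.x_mem).2 ?_)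
    have e' : hs i * D.ph c = D.ph c * hs i := funext fun j => by
      by_cases hj : j = i
      · subst hj; simpa [hs, Pi.mulSingle_eq_same] using e
      · simp [hs, Pi.mulSingle_eq_of_ne hj]
    rw [hy, D.cls_conj c hc _ D.x_mem]
    exact D.toFrame.cube.fix_iso (i := i) (by
      show D.r (hs i) (D.r (D.ph c) D.vx) = D.r (D.ph c) D.vx
      rw [← D.r_mul, e', D.r_mul, D.vx_fix]) (D.vx_fix i)
  choose a b ha hb hab using fun i => perm3_double (D.ph c i) (hh i)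
  have e : D.ph c = a * (hd 0 * hd 1 * hd 2) * b := by
    funext i
    rw [Pi.mul_apply, Pi.mul_apply, hab i]
    fin_cases i <;> simp [hd, Pi.mulSingle_eq_same]
  obtain ⟨β, hβ, hβt, hβe⟩ := D.exists_word ha
  have hm := D.conj_mem hβt D.a_mem
  refine ⟨β, hβ, hβt, D.eq_or hm hyQ ?_⟩
  have hfix : D.r b D.vx = D.vx := D.toFrame.cube.r_fix hb
  rw [D.cls_conj β hβt _ D.a_mem, D.a_cls, hβe, hy, D.cls_conj c hc _ D.x_mem, e,
    D.r_mul (a * _) b, D.r_mul a]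
  show _ = D.r a (D.r (hd 0 * hd 1 * hd 2) (D.r b D.vx))
  rw [hfix]

/-- An element interchanging the two involutions. -/
def IsSwap (K : G) : Prop := K * t * K⁻¹ = D.x ∧ K * D.x * K⁻¹ = t

theorem exists_swap : ∃ K, D.IsSwap K := by
  have hy : D.g⁻¹ * t * D.g ∈ D.Q := by
    obtain ⟨q, hq, e⟩ := D.t_memR
    rw [show D.g⁻¹ * t * D.g = q from
      calc D.g⁻¹ * t * D.g = D.g⁻¹ * (D.g * q * D.g⁻¹) * D.g :=
            congrArg (fun z => D.g⁻¹ * z * D.g) (show D.g * q * D.g⁻¹ = t from e).symm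
        _ = q := by group]
    exact hq
  have hne : D.g⁻¹ * t * D.g⁻¹⁻¹ ≠ t := fun e => D.pair.ne (by
    calc D.g * t * D.g⁻¹ = D.g * (D.g⁻¹ * t * D.g⁻¹⁻¹) * D.g⁻¹ := by rw [e]
      _ = t := by group)
  obtain ⟨c, hc, e⟩ := D.toFrame.member_conj (h := D.g⁻¹) (by rwa [inv_inv]) hne
  refine ⟨D.g * c⁻¹, ?_, ?_⟩
  · calc D.g * c⁻¹ * t * (D.g * c⁻¹)⁻¹ = D.g * (c⁻¹ * t * c⁻¹⁻¹) * D.g⁻¹ := by group
      _ = _ := by rw [hc.inv_left.eq, mul_inv_cancel_right]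
  · rw [← e]; group

variable {K : G} (hK : D.IsSwap K)

include hK

theorem K_mem {q : G} (hq : q ∈ D.Q) : K * q * K⁻¹ ∈ D.R := by
  show _ ∈ D.Q.map (MulAut.conj D.g).toMonoidHom
  rw [← fam_eq D.pre D.g, show D.g * t * D.g⁻¹ = K * t * K⁻¹ from hK.1.symm, fam_eq D.pre]
  exact ⟨q, hq, rfl⟩

theorem K_inv_mem {q : G} (hq : q ∈ D.R) : K * q * K⁻¹ ∈ D.Q := by
  have h := fam_eq D.pre (K * D.g)
  rw [show K * D.g * t * (K * D.g)⁻¹ = K * D.x * K⁻¹ by simp only [Frame.x]; group, hK.2, fam_self D.pre] at h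
  rw [h]
  obtain ⟨p, hp, rfl⟩ := hq
  exact ⟨p, hp, by simp [mul_assoc]⟩

theorem inv_t : K⁻¹ * t * K = D.x :=
  calc K⁻¹ * t * K = K⁻¹ * (K * D.x * K⁻¹) * K := congrArg (fun z => K⁻¹ * z * K) hK.2.symm
    _ = D.x := by simp [mul_assoc]

theorem swap_inv : D.IsSwap K⁻¹ := by
  constructor
  · rw [inv_inv]; exact D.inv_t hK
  · calc K⁻¹ * D.x * K⁻¹⁻¹ = K⁻¹ * (K * t * K⁻¹) * K⁻¹⁻¹ :=
          congrArg (fun z => K⁻¹ * z * K⁻¹⁻¹) hK.1.symm
      _ = t := by group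

end Good

/-- The partner of the opposite involution. -/
def Good.bb {G : Type u} [Group G] {t : G} {V : Type v} [AddCommGroup V] (D : Good t V) (K : G) : G :=
  K * D.a * K⁻¹

namespace Good

variable {G : Type u} [Group G] {t : G} {V : Type v} [AddCommGroup V] (D : Good t V) [Finite G]
  {K : G} (hK : D.IsSwap K)

include D hK

theorem b_mem : D.bb K ∈ D.R := D.K_mem hK D.a_mem

theorem b_sq : D.bb K * D.bb K = 1 := by
  calc D.bb K * D.bb K = K * (D.a * D.a) * K⁻¹ := by rw [bb]; group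
    _ = 1 := by rw [D.a_sq]; group

theorem b_inv : (D.bb K)⁻¹ = D.bb K := inv_eq_of_mul_eq_one_right (D.b_sq hK)

theorem b_t : D.bb K * t * D.bb K = t * D.x := by
  calc D.bb K * t * D.bb K = K * (D.a * (K⁻¹ * t * K) * D.a) * K⁻¹ := by rw [bb]; group
    _ = K * (D.x * t) * K⁻¹ := by rw [D.inv_t hK, D.a_x]
    _ = (K * D.x * K⁻¹) * (K * t * K⁻¹) := by group
    _ = _ := by rw [hK.1, hK.2]

theorem b_x : Commute (D.bb K) D.x := D.comm_x (D.b_mem hK)

theorem inj_b {α : G} (hα : α ∈ D.Q) (hαx : Commute α D.x)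
    (h : D.bb K * α * (D.bb K)⁻¹ * α⁻¹ ∈ D.Q) : α ∈ D.R := by
  have hi := D.swap_inv hK
  have h1 : K⁻¹ * α * K⁻¹⁻¹ ∈ D.R := D.K_mem hi hα
  have h2 : Commute (K⁻¹ * α * K⁻¹⁻¹) t := by
    rw [← hi.2]; exact (Commute.conj_iff K⁻¹).2 hαx
  have h3 := D.K_mem hi h
  rw [show K⁻¹ * (D.bb K * α * (D.bb K)⁻¹ * α⁻¹) * K⁻¹⁻¹ =
    D.a * (K⁻¹ * α * K⁻¹⁻¹) * D.a⁻¹ * (K⁻¹ * α * K⁻¹⁻¹)⁻¹ by rw [bb]; group] at h3
  have := D.K_mem hK (D.inj_a h1 h2 h3)
  rwa [show K * (K⁻¹ * α * K⁻¹⁻¹) * K⁻¹ = α by group] at this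

theorem ab_cube : D.a * D.bb K * (D.a * D.bb K) * (D.a * D.bb K) = 1 := by
  set a := D.a with hadef
  set b := D.bb K with hbdef
  have a2 : a * a = 1 := D.a_sq
  have b2 : b * b = 1 := D.b_sq hK
  have ainv : a⁻¹ = a := D.a_inv
  have binv : b⁻¹ = b := D.b_inv hK
  have hax : a * D.x * a⁻¹ = t * D.x := by rw [ainv, D.a_x]; exact D.tx.eq.symm
  have hbt : b * t * b⁻¹ = t * D.x := by rw [binv, D.b_t hK]
  have hbr := braid D.pair D.a_mem hax (D.b_mem hK) hbt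
  set k := a * b * (a * b) * (a * b) with hk
  have hk0 : (b * a * b)⁻¹ * (a * b * a) = k⁻¹ := by
    rw [hk]
    calc (b * a * b)⁻¹ * (a * b * a) = b⁻¹ * a⁻¹ * b⁻¹ * a * b * a := by group
      _ = b⁻¹ * a⁻¹ * b⁻¹ * a⁻¹ * b⁻¹ * a⁻¹ := by rw [ainv, binv]
      _ = _ := by group
  rw [hk0] at hbr
  have hkR := inv_mem hbr
  rw [inv_inv] at hkR
  obtain ⟨β, hβ, α, hα, e⟩ := exists_prod D.pair hkR
  obtain ⟨hβR, hβt'⟩ := hβ
  obtain ⟨hαQ, hαx'⟩ := hα
  have hβt : Commute β t := mem_centralizer_singleton_iff.1 hβt'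
  have hαx : Commute α D.x := mem_centralizer_singleton_iff.1 hαx'
  have hinv : a * k * a⁻¹ = b * k * b⁻¹ := by
    rw [hk]
    calc a * (a * b * (a * b) * (a * b)) * a⁻¹ = (a * a) * b * a * b * a * b * a⁻¹ := by group
      _ = b * (a * b * a * b) * (a * (b * b⁻¹)) := by rw [a2, ainv, one_mul, mul_inv_cancel, mul_one]; group
      _ = _ := by group
  have ε1 : a * α * a⁻¹ * α⁻¹ = 1 ∨ a * α * a⁻¹ * α⁻¹ = t := D.pre.gen.comm a D.a_mem α hαQ
  have ε2 : b * β * b⁻¹ * β⁻¹ = 1 ∨ b * β * b⁻¹ * β⁻¹ = D.x := D.pair.pre'.gen.comm b (D.b_mem hK) β hβR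
  have lhs : a * k * a⁻¹ * k⁻¹ = (a * β * a⁻¹ * β⁻¹) * (a * α * a⁻¹ * α⁻¹) := by
    rw [e]
    calc a * (β * α) * a⁻¹ * (β * α)⁻¹
        = a * β * a⁻¹ * ((a * α * a⁻¹ * α⁻¹) * β⁻¹) := by group
      _ = _ := by
        rcases ε1 with h | h <;> rw [h]
        · group
        · rw [← hβt.inv_left.eq]; group
  have rhs : b * k * b⁻¹ * k⁻¹ = (b * β * b⁻¹ * β⁻¹) * (β * (b * α * b⁻¹ * α⁻¹) * β⁻¹) := by rw [e]; group
  have heq : (a * β * a⁻¹ * β⁻¹) * (a * α * a⁻¹ * α⁻¹) = (b * β * b⁻¹ * β⁻¹) * (β * (b * α * b⁻¹ * α⁻¹) * β⁻¹) := by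
    rw [← lhs, ← rhs, hinv]
  have hbaR : b * α * b⁻¹ * α⁻¹ ∈ D.R := by
    rw [show b * α * b⁻¹ * α⁻¹ = b * (α * b⁻¹ * α⁻¹) by group]
    exact mul_mem (D.b_mem hK) (D.pair.pre'.conj_mem hαx.eq (inv_mem (D.b_mem hK)))
  have hβQ : β ∈ D.Q := by
    refine D.inj_a hβR hβt ?_
    have h1 : (a * β * a⁻¹ * β⁻¹) * (a * α * a⁻¹ * α⁻¹) ∈ D.R := by
      rw [heq]
      exact mul_mem (mul_mem (mul_mem (mul_mem (D.b_mem hK) hβR) (inv_mem (D.b_mem hK))) (inv_mem hβR))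
        (mul_mem (mul_mem hβR hbaR) (inv_mem hβR))
    have h2 : a * α * a⁻¹ * α⁻¹ ∈ D.R := by
      rcases ε1 with h | h <;> rw [h]
      exacts [one_mem _, D.t_memR]
    have := mul_mem h1 (inv_mem h2)
    rwa [mul_inv_cancel_right] at this
  have hαR : α ∈ D.R := by
    refine D.inj_b hK hαQ hαx ?_
    have h1 : (b * β * b⁻¹ * β⁻¹) * (β * (b * α * b⁻¹ * α⁻¹) * β⁻¹) ∈ D.Q := by
      rw [← heq]
      exact mul_mem (mul_mem (mul_mem (mul_mem D.a_mem hβQ) (inv_mem D.a_mem)) (inv_mem hβQ))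
        (mul_mem (mul_mem (mul_mem D.a_mem hαQ) (inv_mem D.a_mem)) (inv_mem hαQ))
    have h2 : b * β * b⁻¹ * β⁻¹ ∈ D.Q := by
      rcases ε2 with h | h <;> rw [h]
      exacts [one_mem _, D.x_mem]
    have h3 := mul_mem (inv_mem h2) h1
    rw [inv_mul_cancel_left] at h3
    have h4 := mul_mem (mul_mem (inv_mem hβQ) h3) hβQ
    rwa [show β⁻¹ * (β * (b * α * b⁻¹ * α⁻¹) * β⁻¹) * β = b * α * b⁻¹ * α⁻¹ by group] at h4
  have hkQ : k ∈ D.Q := e ▸ mul_mem hβQ hαQ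
  have hkR' : k ∈ D.R := e ▸ mul_mem hβR hαR
  have hk2 : k * k = 1 := D.E_sq hkQ hkR'
  have hkinv : k⁻¹ = k := inv_eq_of_mul_eq_one_right hk2
  have hka : Commute k a := by
    have h : a * k * a⁻¹ = k⁻¹ := by
      rw [hk]
      calc a * (a * b * (a * b) * (a * b)) * a⁻¹ = (a * a) * b * a * b * a * b * a⁻¹ := by group
        _ = b⁻¹ * a⁻¹ * b⁻¹ * a⁻¹ * b⁻¹ * a⁻¹ := by rw [a2, ainv, binv, one_mul]
        _ = _ := by group
    rw [hkinv] at h
    exact (mul_inv_eq_iff_eq_mul.1 h).symm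
  have hkb : Commute k b := by
    have h : b * k * b⁻¹ = k := by rw [← hinv, ← hka.eq, mul_inv_cancel_right]
    exact (mul_inv_eq_iff_eq_mul.1 h).symm
  -- the translate of `b` is a conjugate of the first involution
  have hab : Commute k (a * b) := hka.mul_right hkb
  have h3 : a * (b * k) * (a * (b * k)) * (a * (b * k)) = 1 := by
    calc a * (b * k) * (a * (b * k)) * (a * (b * k)) = (a * b) * (k * (a * b)) * k * (a * b) * k := by group
      _ = (a * b) * ((a * b) * k) * k * (a * b) * k := by rw [hab.eq]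
      _ = (a * b) * (a * b) * (k * k) * (a * b) * k := by group
      _ = 1 := by rw [hk2, mul_one]; exact hk2
  have hbk2 : b * k * (b * k) = 1 := by
    calc b * k * (b * k) = b * (k * b) * k := by group
      _ = (b * b) * (k * k) := by rw [hkb.eq]; group
      _ = 1 := by rw [b2, hk2, one_mul]
  have hconj : a * (b * k) * a * (a * (b * k))⁻¹ = b * k := by
    generalize b * k = p at h3 hbk2 ⊢
    calc a * p * a * (a * p)⁻¹ = a * p * a * (p⁻¹ * a⁻¹) := by group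
      _ = a * p * a * p * a * (p * p) := by rw [ainv, inv_eq_of_mul_eq_one_right hbk2, hbk2, mul_one]; group
      _ = (a * p * (a * p) * (a * p)) * p := by group
      _ = p := by rw [h3, one_mul]
  -- pulled back
  set m := K⁻¹ * k * K⁻¹⁻¹ with hm
  have hmQ : m ∈ D.Q := D.K_inv_mem (D.swap_inv hK) hkR'
  have hmR : m ∈ D.R := D.K_mem (D.swap_inv hK) hkQ
  set h := K⁻¹ * (a * (b * k)) * D.Δ * D.g with hh
  have hy : h * t * h⁻¹ = a * m := by
    calc h * t * h⁻¹ = K⁻¹ * (a * (b * k) * a * (a * (b * k))⁻¹) * K := by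
          rw [hh, hadef, Good.a]; simp only [Frame.x]; group
      _ = K⁻¹ * (b * k) * K := by rw [hconj]
      _ = a * m := by rw [hbdef, hm, bb, ← hadef]; group
  have hamQ : a * m ∈ D.Q := mul_mem D.a_mem hmQ
  have hmx : Commute m D.x := D.comm_x hmR
  have hne : ¬ Commute (a * m) D.x := fun hc => by
    have hc2 : Commute a D.x := by
      have := hc.mul_left hmx.inv_left
      rwa [mul_inv_cancel_right] at this
    have h := D.a_x
    rw [hc2.eq, mul_assoc, a2, mul_one] at h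
    exact D.pre.gen.ne_one (left_eq_mul.1 h)
  obtain ⟨c, hc, hce⟩ := D.toFrame.member_conj (h := h) (hy ▸ hamQ) (fun e => hne (by
    rw [← hy, e]; exact D.tx))
  obtain ⟨γ, hγ, hγt, hγe⟩ := D.opp_orbit (y := a * m) hc.inv_left (by
    rw [← hy, ← hce]; group) hne
  have hγQ : γ ∈ D.Q := by
    refine D.inj_a hγ hγt ?_
    have e1 : a * γ * a⁻¹ * γ⁻¹ = a * (γ * a * γ⁻¹) := by rw [ainv]; group
    rw [← hadef, e1]
    rcases hγe with e' | e'
    · rw [← e', ← mul_assoc, a2, one_mul]; exact hmR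
    · rw [show γ * a * γ⁻¹ = a * m * t by rw [e', mul_assoc _ t t, D.t_sq, mul_one], mul_assoc a, ← mul_assoc, a2, one_mul]
      exact mul_mem hmR D.t_memR
  have hmt : m = 1 ∨ m = t := by
    refine (D.cls_zero m hmQ).1 ?_
    have h0 : D.cls (a * m) = D.cls a := by
      rcases hγe with e' | e' <;> rw [e']
      · rw [D.cls_conj γ hγt _ D.a_mem, D.ph_of_mem hγQ, D.r_one]
      · rw [D.cls_mul_t (D.conj_mem hγt D.a_mem), D.cls_conj γ hγt _ D.a_mem, D.ph_of_mem hγQ, D.r_one]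
    rw [D.cls_mul _ D.a_mem _ hmQ] at h0
    exact add_eq_left.1 h0
  have hk' : k = K * m * K⁻¹ := by rw [hm]; group
  rcases hmt with e' | e'
  · rw [hk', e', mul_one, mul_inv_cancel]
  · exfalso
    rw [e', hK.1] at hk'
    rw [hk'] at hka
    have hc := D.a_x
    rw [← hadef, ← hka.eq, mul_assoc, a2, mul_one] at hc
    exact D.pre.gen.ne_one (left_eq_mul.1 hc)

end Good

end CfsgLib.O8Plus
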