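import Cfsg.Agent.O8Plus.Words

/-!
Automorphisms of `Ω₈⁺(2)` given by permuting the outer nodes.
-/

set_option autoImplicit false
set_option maxRecDepth 100000

namespace CfsgLib.O8Plus

open CfsgLib.Coset

/-- The letters with two outer pairs exchanged. -/
def swapL (a b : Nat) (l : Nat) : Nat :=
  if l = a then b else if l = a + 1 then b + 1 else if l = b then a else if l = b + 1 then a + 1 else l

theorem el_one (l : Fin 8) : el [l.1] = N l := by
  show List.prod [fl (List.ofFn N) l.1] = _
  rw [List.prod_singleton, fl, List.getD_eq_getElem _ _ (by simp), List.getElem_ofFn]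

/-- A permutation of the letters preserving the relators gives an automorphism. -/
theorem exists_relabel (π : Fin 8 → Fin 8) (πn : Nat → Nat) (hπ : ∀ i, π (π i) = i)
    (hn : ∀ i : Fin 8, πn i.1 = (π i).1)
    (hr : ∀ w ∈ rels, (∀ l ∈ w, l < 8) ∧ codeW (w.map πn) = oneC) :
    ∃ σ : Om ≃* Om, ∀ w : List Nat, (∀ l ∈ w, l < 8) → σ (el w) = el (w.map πn) := by
  have hev : ∀ w : List Nat, (∀ l ∈ w, l < 8) → ev (List.ofFn fun i => N (π i)) w = el (w.map πn) := by
    intro w hw
    show ((w.map _).prod : Om) = ((w.map πn).map _).prod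
    rw [List.map_map]
    congr 1
    refine List.map_congr_left fun l hl => ?_
    have h8 := hw l hl
    simp only [Function.comp, fl]
    rw [List.getD_eq_getElem _ _ (by simpa using h8), List.getElem_ofFn,
      List.getD_eq_getElem _ _ (by rw [List.length_ofFn, hn ⟨l, h8⟩]; exact (π _).2), List.getElem_ofFn]
    congr 1
    exact Fin.ext (hn ⟨l, h8⟩).symm
  obtain ⟨f, hf⟩ := exists_hom (fun i => N (π i)) fun w hw => by
    rw [hev w (hr w hw).1]
    exact encO_inj (by rw [encO_el, (hr w hw).2, encO_one])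
  have hff : f.comp f = MonoidHom.id Om := by
    refine MonoidHom.eq_of_eqOn_dense closure_N ?_
    rintro _ ⟨i, rfl⟩
    show f (f (N i)) = N i
    rw [hf, hf, hπ]
  refine ⟨MonoidHom.toMulEquiv f f hff hff, fun w hw => ?_⟩
  show f (el w) = _
  rw [← hev w hw]
  show f ((w.map _).prod) = (w.map _).prod
  rw [map_list_prod, List.map_map]
  congr 1
  refine List.map_congr_left fun l hl => ?_
  have h8 := hw l hl
  simp only [Function.comp, fl]
  rw [List.getD_eq_getElem _ _ (by simpa using h8), List.getElem_ofFn,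
    List.getD_eq_getElem _ _ (by simpa using h8), List.getElem_ofFn]
  exact hf _

/-- Reduction to two code checks. -/
theorem relabel_of (a b : Nat) (π : Fin 8 → Fin 8) (hπ : ∀ i, π (π i) = i)
    (hn : ∀ i : Fin 8, swapL a b i.1 = (π i).1)
    (hr : ∀ w ∈ rels, (∀ l ∈ w, l < 8) ∧ codeW (w.map (swapL a b)) = oneC) (w w' : List Nat)
    (hw : ∀ l ∈ w, l < 8) (h0 : swapL a b 0 = 0) (hc : codeW (w.map (swapL a b)) = codeW w') :
    ∃ σ : Om ≃* Om, σ (N 0) = N 0 ∧ σ (el w) = el w' := by
  obtain ⟨σ, hσ⟩ := exists_relabel π (swapL a b) hπ hn hr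
  refine ⟨σ, ?_, ?_⟩
  · rw [← el_one 0, hσ _ (by simp)]
    exact congrArg el (show List.map (swapL a b) [0] = [0] by rw [List.map_singleton, h0])
  · rw [hσ w hw]
    exact encO_inj (by rw [encO_el, encO_el, hc])

theorem exists_relabel_two : ∃ σ : Om ≃* Om, σ (N 0) = N 0 ∧ σ (el wB1) = el wB2 :=
  relabel_of 2 4 ![0, 1, 4, 5, 2, 3, 6, 7] (by decide) (by decide) (by decide +kernel) _ _
    (by decide +kernel) (by decide) (by decide +kernel)

theorem exists_relabel_three : ∃ σ : Om ≃* Om, σ (N 0) = N 0 ∧ σ (el wB1) = el wB3 :=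
  relabel_of 2 6 ![0, 1, 6, 7, 4, 5, 2, 3] (by decide) (by decide) (by decide +kernel) _ _
    (by decide +kernel) (by decide) (by decide +kernel)

end CfsgLib.O8Plus
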