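import Cfsg.Agent.O8Plus.Class

/-!
Two root elements commuting with a representative of the second class whose products with suitable partners
generate a root element; two root elements not conjugate in the centralizer of the fifth representative.
-/

set_option autoImplicit false
set_option maxRecDepth 100000

namespace CfsgLib.O8Plus

open CfsgLib.Coset Matrix

/-- A conjugate of the middle root element. -/
def conjWord (w : List Nat) : List Nat := w ++ [0] ++ w.reverse

theorem mem_conjWord (w : List Nat) : Mem (el (conjWord w)) := mem_of_code w (encO_el _)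

theorem safe_one : allBelow 11 1575 (chkSafe safeT1D (codeW (conjWord [5, 4])) safeY1) = true := by
  decide +kernel

theorem safe_two : allBelow 11 1575 (chkSafe safeT2D (codeW (conjWord [5, 4, 2])) safeY2) = true := by
  decide +kernel

theorem safe_squares : chkSquares = true := by decide +kernel

theorem encO_B1 : encO (el wB1) = repC.getD 1 oneC := (encO_el _).trans (repC_eq 1).symm

theorem safe_prod {D : Nat} {w Y : List Nat} (hall : allBelow 11 1575 (chkSafe D (codeW w) Y) = true) {p : Om}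
    (hp : Mem p ∧ Commute (el wB1) p ∧ Mem (el wB1 * p) ∧ Commute (el w) p ∧ ¬ Mem (el w * p)) :
    encO (el w * p) ∈ Y := by
  obtain ⟨h1, h2, h3, h4, h5⟩ := hp
  obtain ⟨i, hi, e⟩ := mem_iff.1 h1
  have h := of_allBelow hall i hi
  have c1 := commute_iff.1 h2
  rw [encO_B1, e] at c1
  have c2 := commute_iff.1 h4
  rw [encO_el, e] at c2
  have hlp : encO (el w * p) = mulP (codeW w) (cAt i) := by rw [encO_mul, encO_el, e]
  have hjp : encO (el wB1 * p) = mulP (repC.getD 1 oneC) (cAt i) := by rw [encO_mul, encO_B1, e]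
  rw [chkSafe, c1, c2] at h
  simp only [cond_true] at h
  cases h0 : Nat.beq (Nat.land (fieldW D 16 i) 3) 0 with
  | true =>
    rw [h0] at h
    exact absurd h3 (not_mem_of_chk hjp h)
  | false =>
    rw [h0] at h
    cases h1' : Nat.beq (Nat.land (fieldW D 16 i) 3) 1 with
    | true =>
      rw [h1'] at h
      obtain ⟨hj, hv⟩ := cond_range h
      exact absurd (mem_iff.2 ⟨_, hj, hlp.trans (Nat.eq_of_beq_eq_true hv)⟩) h5
    | false =>
      rw [h1'] at h
      rw [hlp]
      exact List.contains_iff_mem.1 h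

theorem square_mem {x y : Om} (hx : encO x ∈ safeY1) (hy : encO y ∈ safeY2) : Mem (x * y * (x * y)) := by
  obtain ⟨a, ha, ea⟩ := List.getElem_of_mem hx
  obtain ⟨b, hb, eb⟩ := List.getElem_of_mem hy
  have l1 : safeY1.length = 8 := by decide
  have l2 : safeY2.length = 8 := by decide
  have h := List.all_eq_true.1 safe_squares (8 * a + b) (List.mem_range.2 (by omega))
  rw [show (8 * a + b) / 8 = a by omega, show (8 * a + b) % 8 = b by omega,
    List.getD_eq_getElem _ _ ha, List.getD_eq_getElem _ _ hb, ea, eb] at h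
  obtain ⟨hj, hv⟩ := cond_range h
  exact mem_iff.2 ⟨_, hj, by rw [encO_mul, encO_mul]; exact Nat.eq_of_beq_eq_true hv⟩

theorem safe_B1 : ∃ l1 l2 : Om, (Mem l1 ∧ Commute (el wB1) l1 ∧ ¬ Mem (el wB1 * l1)) ∧
    (Mem l2 ∧ Commute (el wB1) l2 ∧ ¬ Mem (el wB1 * l2)) ∧ ∀ p1 p2 : Om,
      (Mem p1 ∧ Commute (el wB1) p1 ∧ Mem (el wB1 * p1) ∧ Commute l1 p1 ∧ ¬ Mem (l1 * p1)) →
      (Mem p2 ∧ Commute (el wB1) p2 ∧ Mem (el wB1 * p2) ∧ Commute l2 p2 ∧ ¬ Mem (l2 * p2)) →
      ∃ s ∈ Subgroup.closure ({el wB1, l1 * p1, l2 * p2} : Set Om), Mem s := by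
  refine ⟨el (conjWord [5, 4]), el (conjWord [5, 4, 2]),
    ⟨mem_conjWord _, commute_iff.2 ?_, not_mem_of_chk (encO_mul _ _) ?_⟩,
    ⟨mem_conjWord _, commute_iff.2 ?_, not_mem_of_chk (encO_mul _ _) ?_⟩, fun p1 p2 h1 h2 =>
      ⟨_, ?_, square_mem (safe_prod safe_one h1) (safe_prod safe_two h2)⟩⟩
  · rw [encO_el, encO_el]; decide +kernel
  · rw [encO_el, encO_el]; decide +kernel
  · rw [encO_el, encO_el]; decide +kernel
  · rw [encO_el, encO_el]; decide +kernel
  · refine mul_mem (mul_mem ?_ ?_) (mul_mem ?_ ?_) <;> exact Subgroup.subset_closure (by simp)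

/-- The number of fixed vectors of a matrix. -/
def fixCount (P : Matrix Idx Idx (ZMod 2)) : Nat := Fintype.card {v : Idx → ZMod 2 // P *ᵥ v = v}

/-- The underlying matrix. -/
noncomputable def matO (m : Om) : Matrix Idx Idx (ZMod 2) := m.1.1.1

theorem matO_mul (m k : Om) : matO (m * k) = matO m * matO k := rfl

theorem matO_one : matO 1 = 1 := rfl

theorem matO_eq (m : Om) : matO m = matOf (encO m) := (matOf_encM _).symm

theorem fixCount_conj (k m : Om) : fixCount (matO (k * m * k⁻¹)) = fixCount (matO m) := by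
  have h1 : matO k⁻¹ * matO k = 1 := by rw [← matO_mul, inv_mul_cancel, matO_one]
  have h2 : matO k * matO k⁻¹ = 1 := by rw [← matO_mul, mul_inv_cancel, matO_one]
  have f : ∀ v, matO m *ᵥ v = v → matO (k * m * k⁻¹) *ᵥ (matO k *ᵥ v) = matO k *ᵥ v := fun v hv => by
    rw [matO_mul, matO_mul, Matrix.mulVec_mulVec, mul_assoc, h1, mul_one, ← Matrix.mulVec_mulVec, hv]
  have g : ∀ v, matO (k * m * k⁻¹) *ᵥ v = v → matO m *ᵥ (matO k⁻¹ *ᵥ v) = matO k⁻¹ *ᵥ v := fun v hv => by
    have := congrArg (matO k⁻¹ *ᵥ ·) hv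
    simp only [matO_mul, Matrix.mulVec_mulVec, ← mul_assoc, h1, one_mul] at this
    rwa [← Matrix.mulVec_mulVec] at this
  exact (Fintype.card_congr
    { toFun := fun v => ⟨matO k *ᵥ v.1, f _ v.2⟩
      invFun := fun v => ⟨matO k⁻¹ *ᵥ v.1, g _ v.2⟩
      left_inv := fun v => Subtype.ext (by simp only [Matrix.mulVec_mulVec, h1, Matrix.one_mulVec])
      right_inv := fun v => Subtype.ext (by simp only [Matrix.mulVec_mulVec, h2, Matrix.one_mulVec]) }).symm

theorem fix_one : fixCount (matOf (mulP (codeW wE) (codeW (conjWord [])))) = 16 := by decide +kernel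

theorem fix_two : fixCount (matOf (mulP (codeW wE) (codeW (conjWord [7, 6, 5, 4])))) = 64 := by decide +kernel

theorem E_pair : ∃ l1 l2 : Om, Mem l1 ∧ Mem l2 ∧ Commute (el wE) l1 ∧ Commute (el wE) l2 ∧
    ∀ k, Commute k (el wE) → k * l1 * k⁻¹ ≠ l2 := by
  refine ⟨el (conjWord []), el (conjWord [7, 6, 5, 4]), mem_conjWord _, mem_conjWord _,
    commute_iff.2 ?_, commute_iff.2 ?_, fun k hk h => ?_⟩
  · rw [encO_el, encO_el]; decide +kernel
  · rw [encO_el, encO_el]; decide +kernel
  have e : k * (el wE * el (conjWord [])) * k⁻¹ = el wE * el (conjWord [7, 6, 5, 4]) := by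
    rw [← h, ← mul_assoc, hk.eq]
    simp only [mul_assoc]
  have := fixCount_conj k (el wE * el (conjWord []))
  rw [e, matO_eq, matO_eq, encO_mul, encO_mul, encO_el, encO_el, encO_el, fix_one, fix_two] at this
  omega

end CfsgLib.O8Plus
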