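import Cfsg.Agent.O8Plus.Generators

/-!
The defining relations in an abstract group.
-/

set_option autoImplicit false
set_option linter.style.haveILetI false
set_option linter.unusedSectionVars false
set_option maxRecDepth 10000

namespace CfsgLib.O8Plus

open Subgroup CfsgLib.LargeExtra CfsgLib.Extra2 CfsgLib.Coset

universe u v

namespace Good

variable {G : Type u} [Group G] {t : G} {V : Type v} [AddCommGroup V] (D : Good t V) [Finite G]

include D

/-- The eight involutions. -/
noncomputable def tuple (K : G) : Fin 8 → G :=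
  ![D.a, D.bb K, D.wt K 0, D.ut (K := K) 0, D.wt K 1, D.ut (K := K) 1, D.wt K 2, D.ut (K := K) 2]

theorem commute_of_rel {p q : G} (hp : p * p = 1) (hq : q * q = 1) (h : Commute p q) : p * q * (p * q) = 1 := by
  calc p * q * (p * q) = p * (q * p) * q := by group
    _ = (p * p) * (q * q) := by rw [← h.eq]; group
    _ = 1 := by rw [hp, hq, one_mul]

variable {K : G} (hK : D.IsSwap K) (hall : ∀ i k, Commute (D.nn K i) (D.L.w k))

include hK hall

theorem ut_t (i : Fin 3) : Commute (D.ut (K := K) i) t :=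
  ((D.L.δ_t i).mul_left (D.wt_t hK i)).mul_left (D.L.δ_t i).inv_left

theorem ut_or (i : Fin 3) : D.ut (K := K) i = D.L.u i ∨ D.ut (K := K) i = D.L.u i * t := D.ut_cases hK i

theorem ut_sq (i : Fin 3) : D.ut (K := K) i * D.ut (K := K) i = 1 := by
  rw [ut]
  calc D.L.δ i * D.wt K i * (D.L.δ i)⁻¹ * (D.L.δ i * D.wt K i * (D.L.δ i)⁻¹)
      = D.L.δ i * (D.wt K i * D.wt K i) * (D.L.δ i)⁻¹ := by group
    _ = 1 := by rw [D.wt_sq hK]; group

theorem ut_ph (i : Fin 3) : D.ph (D.ut (K := K) i) = D.ph (D.L.u i) := by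
  rcases D.ut_or hK hall i with e | e <;> rw [e]
  rw [D.ph_mul _ _ (D.L.u_t i) (Commute.refl t), D.ph_of_mem D.pre.gen.mem, mul_one]

theorem comm_ut {y : G} (hy : Commute y t) {i : Fin 3} (h : Commute y (D.L.u i)) : Commute y (D.ut (K := K) i) := by
  rcases D.ut_or hK hall i with e | e <;> rw [e]
  exacts [h, h.mul_right hy]

theorem wtwt (i j : Fin 3) : Commute (D.wt K i) (D.wt K j) :=
  (D.wt_comm hK (D.wt_t hK i) j).2 (((D.wt_comm hK (D.L.w_t j) i).2 (D.L.w_comm j i)).symm)

theorem wtut {i j : Fin 3} (h : i ≠ j) : Commute (D.wt K i) (D.ut (K := K) j) :=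
  D.comm_ut hK hall (D.wt_t hK i) (((D.wt_comm hK (D.L.u_t j) i).2 (D.L.w_u_comm h).symm).symm)

theorem utut (i j : Fin 3) : Commute (D.ut (K := K) i) (D.ut (K := K) j) :=
  D.comm_ut hK hall (D.ut_t hK hall i) ((D.comm_ut hK hall (D.L.u_t j) (D.L.u_comm j i)).symm)

theorem a_ut (i : Fin 3) : Commute D.a (D.ut (K := K) i) := D.comm_ut hK hall (D.comm_t D.a_mem) (D.a_u i)

theorem wu3 (i : Fin 3) :
    D.wt K i * D.ut (K := K) i * (D.wt K i * D.ut (K := K) i) * (D.wt K i * D.ut (K := K) i) = 1 := by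
  have h : D.wt K i * D.ut (K := K) i = D.L.w i * D.L.u i := by
    rw [ut, ← mul_assoc, ← mul_assoc, D.wt_conj hK _ (D.L.δ_t i), Levi.u, ← mul_assoc, ← mul_assoc]
  rw [h, D.L.wu_cube]

theorem c_wt (i : Fin 3) : D.a * D.wt K i * D.a * D.wt K i = D.c i := by
  rw [D.awa hK, mul_assoc, D.wt_sq hK, mul_one]

theorem conj_c (i : Fin 3) : D.a * D.bb K * D.c i * (D.a * D.bb K)⁻¹ = D.wt K i := by
  have hw : D.bb K * D.c i * D.bb K = D.c i * D.wt K i := by
    rw [← D.β_eq hK hall i, β]
    calc D.bb K * D.c i * D.bb K = (D.c i * D.c i) * D.bb K * D.c i * D.bb K := by rw [D.c_sq, one_mul]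
      _ = _ := by group
  have hca : D.a * D.c i = D.c i * D.a := by
    rw [Good.c, mul_assoc D.a _ D.a, ← (D.a_waw i).eq]
  calc D.a * D.bb K * D.c i * (D.a * D.bb K)⁻¹ = D.a * (D.bb K * D.c i * D.bb K) * D.a := by
        rw [mul_inv_rev, D.a_inv, D.b_inv hK]; group
    _ = (D.a * D.c i) * D.wt K i * D.a := by rw [hw]; group
    _ = D.c i * (D.a * D.wt K i * D.a) := by rw [hca]; group
    _ = _ := by rw [D.awa hK, ← mul_assoc, D.c_sq, one_mul]

theorem conj_a : D.a * D.bb K * D.a * (D.a * D.bb K)⁻¹ = D.bb K := by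
  rw [D.aba hK, mul_inv_rev, D.a_inv, D.b_inv hK]
  calc D.bb K * D.a * D.bb K * (D.bb K * D.a) = D.bb K * D.a * (D.bb K * D.bb K) * D.a := by group
    _ = _ := by rw [D.b_sq hK, mul_one, mul_assoc, D.a_sq, mul_one]

theorem bu_four (i : Fin 3) :
    D.bb K * D.ut (K := K) i * (D.bb K * D.ut (K := K) i) *
      (D.bb K * D.ut (K := K) i * (D.bb K * D.ut (K := K) i)) = 1 := by
  have S := toSetup D.pre
  have key : ∀ j, j ≠ i → ∃ m, D.wt K j = m * t * m⁻¹ ∧
      D.bb K ∈ fam D.Q t (D.wt K j) ∧ D.ut (K := K) i * D.bb K * D.ut (K := K) i ∈ fam D.Q t (D.wt K j) := by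
    intro j hj
    have he : D.x ∈ fam D.Q t (D.e j) := by
      have h : (D.L.δ j)⁻¹ * D.x * D.L.δ j ∈ fam D.Q t D.x := by
        rw [show fam D.Q t D.x = D.R from fam_eq D.pre D.g, D.δ_inv_conj]
        exact mul_mem (D.e_R j) D.x_memR
      have h2 := (Singular.conj_mem_iff S (D.L.δ j) D.x _).2 h
      rwa [show D.L.δ j * ((D.L.δ j)⁻¹ * D.x * D.L.δ j) * (D.L.δ j)⁻¹ = D.x by simp [mul_assoc]] at h2
    have ha : D.a ∈ fam D.Q t (D.c j) := by
      rw [D.a_eq, D.c_eq]; exact (Singular.conj_mem_iff S D.S (D.e j) D.x).2 he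
    have hb : D.bb K ∈ fam D.Q t (D.wt K j) := by
      rw [← D.conj_c hK hall j]
      have h2 := (Singular.conj_mem_iff S (D.a * D.bb K) (D.c j) D.a).2 ha
      rwa [D.conj_a hK hall] at h2
    refine ⟨D.a * D.bb K * D.S * D.L.δ j * D.g, ?_, hb, ?_⟩
    · rw [← D.conj_c hK hall j, D.c_eq, e]; simp only [Frame.x]; group
    · have h2 := (Singular.conj_mem_iff S (D.ut (K := K) i) (D.wt K j) (D.bb K)).2 hb
      have hinv : (D.ut (K := K) i)⁻¹ = D.ut (K := K) i := inv_eq_of_mul_eq_one_right (D.ut_sq hK hall i)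
      have hfix : D.ut (K := K) i * D.wt K j * D.ut (K := K) i = D.wt K j := by
        rw [← (D.wtut hK hall hj).eq, mul_assoc, D.ut_sq hK hall, mul_one]
      rwa [hinv, hfix] at h2
  obtain ⟨j, k, hjk, hj, hk⟩ := other_two i
  obtain ⟨m, hm, hb, hy⟩ := key j hj
  obtain ⟨m', hm', hb', hy'⟩ := key k hk
  set y := D.ut (K := K) i * D.bb K * D.ut (K := K) i with hydef
  have hy2 : y * y = 1 := by
    calc y * y = D.ut (K := K) i * D.bb K * (D.ut (K := K) i * D.ut (K := K) i) * D.bb K * D.ut (K := K) i := by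
          rw [hydef]; group
      _ = D.ut (K := K) i * (D.bb K * D.bb K) * D.ut (K := K) i := by rw [D.ut_sq hK hall]; group
      _ = 1 := by rw [D.b_sq hK, mul_one, D.ut_sq hK hall]
  rw [hm] at hb hy; rw [fam_eq D.pre] at hb hy
  rw [hm'] at hb' hy'; rw [fam_eq D.pre] at hb' hy'
  have hc : Commute (D.bb K) y := by
    rcases (pre_conj D.pre m).gen.comm _ hb _ hy with c1 | c1
    · exact mul_inv_eq_iff_eq_mul.1 (mul_inv_eq_one.1 c1)
    rcases (pre_conj D.pre m').gen.comm _ hb' _ hy' with c2 | c2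
    · exact mul_inv_eq_iff_eq_mul.1 (mul_inv_eq_one.1 c2)
    exfalso
    have e : D.wt K j = D.wt K k := by rw [hm, hm', ← c1, c2]
    have e2 := congrArg D.ph e
    rw [D.wt_ph hK, D.wt_ph hK] at e2
    exact hjk ((by decide : ∀ p q : Fin 3, hs p = hs q → p = q) j k e2)
  have h1 : D.bb K * D.ut (K := K) i * (D.bb K * D.ut (K := K) i) = D.bb K * y := by rw [hydef]; group
  rw [h1]
  exact D.commute_of_rel (D.b_sq hK) hy2 hc

theorem cucua (i : Fin 3) : D.c i * D.ut (K := K) i * D.c i * D.ut (K := K) i = D.a := by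
  rcases D.ut_or hK hall i with e | e <;> rw [e]
  · exact D.c_u_self i
  · calc D.c i * (D.L.u i * t) * D.c i * (D.L.u i * t)
        = D.c i * D.L.u i * (t * (D.c i * D.L.u i)) * t := by group
      _ = D.c i * D.L.u i * ((D.c i * D.L.u i) * t) * t := by
        rw [((D.comm_t (D.c_mem i)).mul_left (D.L.u_t i)).eq]
      _ = (D.c i * D.L.u i * D.c i * D.L.u i) * (t * t) := by group
      _ = _ := by rw [D.c_u_self, D.t_sq, mul_one]

theorem cbcbw (i : Fin 3) : D.c i * D.bb K * D.c i * D.bb K * D.wt K i = 1 := by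
  show D.β K i * D.wt K i = 1
  rw [D.β_eq hK hall, D.wt_sq hK]

theorem tuple_rels : ∀ w ∈ rels, ev (List.ofFn (D.tuple K)) w = 1 := by
  have a2 := D.a_sq
  have b2 := D.b_sq hK
  have w2 := D.wt_sq hK
  have u2 := D.ut_sq hK hall
  have ab := D.ab_cube hK
  have wu := D.wu3 hK hall
  have au := fun i => D.commute_of_rel a2 (u2 i) (D.a_ut hK hall i)
  have bw := fun i => D.commute_of_rel b2 (w2 i) (D.b_wt hK i)
  have bu := D.bu_four hK hall
  have ww := fun i j => D.commute_of_rel (w2 i) (w2 j) (D.wtwt hK hall i j)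
  have wu' := fun i j (h : i ≠ j) => D.commute_of_rel (w2 i) (u2 j) (D.wtut hK hall h)
  have uw' := fun i j (h : j ≠ i) => D.commute_of_rel (u2 i) (w2 j) (D.wtut hK hall h).symm
  have uu := fun i j => D.commute_of_rel (u2 i) (u2 j) (D.utut hK hall i j)
  have cc := D.c_wt hK hall
  have c2 := D.c_sq
  have aw : ∀ i, D.a * D.wt K i * D.a * D.wt K i * (D.a * D.wt K i * D.a * D.wt K i) = 1 := fun i => by
    rw [cc i, c2 i]
  have cu : ∀ i, (D.a * D.wt K i * D.a * D.wt K i) * D.ut (K := K) i *
      (D.a * D.wt K i * D.a * D.wt K i) * D.ut (K := K) i * D.a = 1 := fun i => by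
    rw [cc i, D.cucua hK hall i, a2]
  have cb : ∀ i, (D.a * D.wt K i * D.a * D.wt K i) * D.bb K *
      (D.a * D.wt K i * D.a * D.wt K i) * D.bb K * D.wt K i = 1 := fun i => by
    rw [cc i, D.cbcbw hK hall i]
  intro w hw
  simp only [rels, List.mem_cons, List.not_mem_nil, or_false] at hw
  rcases hw with rfl | rfl | rfl | rfl | rfl | rfl | rfl | rfl | rfl | rfl | rfl | rfl | rfl | rfl | rfl | rfl |
    rfl | rfl | rfl | rfl | rfl | rfl | rfl | rfl | rfl | rfl | rfl | rfl | rfl | rfl | rfl | rfl | rfl | rfl |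
    rfl | rfl | rfl | rfl | rfl | rfl | rfl | rfl <;>
    simp only [ev_cons, ev_nil, mul_one, fl, tuple, List.ofFn_succ, List.ofFn_zero, List.getD_cons_zero,
      List.getD_cons_succ, Matrix.cons_val_zero, Matrix.cons_val_succ, ← mul_assoc]
  all_goals first
    | exact a2 | exact b2 | exact w2 _ | exact u2 _
    | (have h := ab; simp only [← mul_assoc] at h; exact h)
    | (have h := wu 0; simp only [← mul_assoc] at h; exact h)
    | (have h := wu 1; simp only [← mul_assoc] at h; exact h)
    | (have h := wu 2; simp only [← mul_assoc] at h; exact h)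
    | (have h := au 0; simp only [← mul_assoc] at h; exact h)
    | (have h := au 1; simp only [← mul_assoc] at h; exact h)
    | (have h := au 2; simp only [← mul_assoc] at h; exact h)
    | (have h := bw 0; simp only [← mul_assoc] at h; exact h)
    | (have h := bw 1; simp only [← mul_assoc] at h; exact h)
    | (have h := bw 2; simp only [← mul_assoc] at h; exact h)
    | (have h := aw 0; simp only [← mul_assoc] at h; exact h)
    | (have h := aw 1; simp only [← mul_assoc] at h; exact h)
    | (have h := aw 2; simp only [← mul_assoc] at h; exact h)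
    | (have h := bu 0; simp only [← mul_assoc] at h; exact h)
    | (have h := bu 1; simp only [← mul_assoc] at h; exact h)
    | (have h := bu 2; simp only [← mul_assoc] at h; exact h)
    | (have h := cu 0; simp only [← mul_assoc] at h; exact h)
    | (have h := cu 1; simp only [← mul_assoc] at h; exact h)
    | (have h := cu 2; simp only [← mul_assoc] at h; exact h)
    | (have h := cb 0; simp only [← mul_assoc] at h; exact h)
    | (have h := cb 1; simp only [← mul_assoc] at h; exact h)
    | (have h := cb 2; simp only [← mul_assoc] at h; exact h)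
    | (have h := ww 0 1; simp only [← mul_assoc] at h; exact h)
    | (have h := ww 0 2; simp only [← mul_assoc] at h; exact h)
    | (have h := ww 1 2; simp only [← mul_assoc] at h; exact h)
    | (have h := wu' 0 1 (by decide); simp only [← mul_assoc] at h; exact h)
    | (have h := wu' 0 2 (by decide); simp only [← mul_assoc] at h; exact h)
    | (have h := wu' 1 2 (by decide); simp only [← mul_assoc] at h; exact h)
    | (have h := uw' 0 1 (by decide); simp only [← mul_assoc] at h; exact h)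
    | (have h := uw' 0 2 (by decide); simp only [← mul_assoc] at h; exact h)
    | (have h := uw' 1 2 (by decide); simp only [← mul_assoc] at h; exact h)
    | (have h := uu 0 1; simp only [← mul_assoc] at h; exact h)
    | (have h := uu 0 2; simp only [← mul_assoc] at h; exact h)
    | (have h := uu 1 2; simp only [← mul_assoc] at h; exact h)

end Good

end CfsgLib.O8Plus
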