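import Cfsg.Agent.O8Plus.Partner

/-!
Twisting the complement against the partner, and the choice of partner.
-/

set_option autoImplicit false
set_option linter.style.haveILetI false
set_option linter.unusedSectionVars false

namespace CfsgLib.O8Plus

open Subgroup CfsgLib.LargeExtra CfsgLib.Extra2

universe u v

open Classical in
/-- The lift of an involution commuting with the partner. -/
noncomputable def Good.wt {G : Type u} [Group G] {t : G} {V : Type v} [AddCommGroup V] (D : Good t V) (K : G)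
    (i : Fin 3) : G :=
  if Commute (D.bb K) (D.L.w i) then D.L.w i else D.L.w i * t

/-- The commutator of the partner with a commutator of the opposite involution. -/
def Good.β {G : Type u} [Group G] {t : G} {V : Type v} [AddCommGroup V] (D : Good t V) (K : G)
    (i : Fin 3) : G :=
  D.c i * D.bb K * D.c i * D.bb K

/-- The defect of the partner. -/
noncomputable def Good.nn {G : Type u} [Group G] {t : G} {V : Type v} [AddCommGroup V] (D : Good t V) (K : G)
    (i : Fin 3) : G :=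
  D.β K i * D.wt K i

theorem exists_third : ∀ i j : Fin 3, ∃ k, k ≠ i ∧ k ≠ j := by decide

namespace Good

variable {G : Type u} [Group G] {t : G} {V : Type v} [AddCommGroup V] (D : Good t V) [Finite G]

include D

theorem c_w {i l k : Fin 3} (hil : i ≠ l) (hki : k ≠ i) (hkl : k ≠ l) :
    D.c l * D.L.w i * D.c l * D.L.w i = D.e k := by
  have hu : D.L.u i * D.x * D.L.u i = D.e i * D.x := by
    calc D.L.u i * D.x * D.L.u i
        = D.L.δ i * D.L.w i * ((D.L.δ i)⁻¹ * D.x * D.L.δ i) * D.L.w i * (D.L.δ i)⁻¹ := by rw [Levi.u]; group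
      _ = D.L.δ i * (D.L.w i * D.e i * (D.x * D.L.w i)) * (D.L.δ i)⁻¹ := by rw [D.δ_inv_conj]; group
      _ = D.L.δ i * (D.L.w i * D.e i * D.L.w i * D.x) * (D.L.δ i)⁻¹ := by rw [← (D.w_x i).eq]; group
      _ = D.L.δ i * D.L.δ i * D.x * (D.L.δ i * D.L.δ i)⁻¹ := by
        rw [D.w_e_self, mul_assoc (D.e i), D.x_sq, mul_one, e]; group
      _ = _ := by rw [← D.L.δ_inv, inv_inv, D.δ_inv_conj]
  have hx : D.x * (D.L.u i * D.x * D.L.u i) = D.e i := by
    rw [hu, ← mul_assoc, (D.x_e i).eq, mul_assoc, D.x_sq, mul_one]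
  have h1 : D.c l * D.L.w i * D.c l * D.L.w i = D.S * (D.e l * D.L.u i * D.e l * D.L.u i) * D.S⁻¹ := by
    rw [D.c_eq, ← D.S_conj_u i]; group
  have cδ : Commute (D.L.δ l) (D.L.u i) := D.L.δ_u_comm hil.symm
  have h2 : D.e l * D.L.u i * D.e l * D.L.u i = D.L.δ l * D.L.δ i * D.x * (D.L.δ l * D.L.δ i)⁻¹ := by
    calc D.e l * D.L.u i * D.e l * D.L.u i
        = D.L.δ l * D.x * ((D.L.δ l)⁻¹ * D.L.u i * D.L.δ l) * D.x * ((D.L.δ l)⁻¹ * D.L.u i) := by rw [e]; group
      _ = D.L.δ l * D.x * D.L.u i * D.x * (D.L.u i * (D.L.δ l)⁻¹) := by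
        rw [cδ.inv_left.eq, inv_mul_cancel_right]
      _ = D.L.δ l * (D.x * (D.L.u i * D.x * D.L.u i)) * (D.L.δ l)⁻¹ := by group
      _ = _ := by rw [hx, e]; group
  have hΔ : D.Δ = D.L.δ k * (D.L.δ l * D.L.δ i) := by
    have key : ∀ p q r : Fin 3, p ≠ q → r ≠ p → r ≠ q → D.L.δ p * (D.L.δ q * D.L.δ r) = D.Δ := by
      intro p q r
      have c := D.L.δ_comm
      have h0 : D.Δ = D.L.δ 0 * (D.L.δ 1 * D.L.δ 2) := mul_assoc _ _ _
      fin_cases p <;> fin_cases q <;> fin_cases r <;> intro a b d <;>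
        first
        | exact absurd rfl a
        | exact absurd rfl b
        | exact absurd rfl d
        | exact h0.symm
        | (show D.L.δ _ * (D.L.δ _ * D.L.δ _) = _
           simp only [Fin.zero_eta, Fin.mk_one, Fin.reduceFinMk]
           rw [h0]
           first
           | rw [(c 2 1).eq]
           | rw [← mul_assoc, (c 1 0).eq, mul_assoc]
           | rw [(c 2 0).eq, ← mul_assoc, (c 1 0).eq, mul_assoc]
           | rw [← mul_assoc, (c 2 0).eq, mul_assoc, (c 2 1).eq]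
           | rw [(c 1 0).eq, ← mul_assoc, (c 2 0).eq, mul_assoc, (c 2 1).eq])
    exact (key k l i hkl hki.symm hil).symm
  have hW : ∀ p, p ≠ k → D.W * D.L.δ p = (D.L.δ p)⁻¹ * D.W := by
    intro p _
    have step : ∀ q, D.L.w q * D.L.δ p = (if q = p then (D.L.δ p)⁻¹ else D.L.δ p) * D.L.w q := by
      intro q
      by_cases hq : q = p
      · rw [if_pos hq, hq, ← D.L.wδ p, mul_assoc _ (D.L.w p) (D.L.w p), D.L.w_sq, mul_one]
      · rw [if_neg hq, (D.L.wδ_comm q p hq).eq]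
    have step' : ∀ q, D.L.w q * (D.L.δ p)⁻¹ = (if q = p then D.L.δ p else (D.L.δ p)⁻¹) * D.L.w q := by
      intro q
      by_cases hq : q = p
      · rw [if_pos hq, hq]
        have := step p
        rw [if_pos rfl] at this
        rw [eq_comm, ← mul_inv_eq_iff_eq_mul]
        calc D.L.δ p * D.L.w p * (D.L.δ p)⁻¹⁻¹ = D.L.δ p * (D.L.w p * D.L.δ p) := by group
          _ = D.L.w p := by rw [this, mul_inv_cancel_left]
      · rw [if_neg hq, ((D.L.wδ_comm q p hq).inv_right).eq]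
    rw [W]
    fin_cases p <;> simp only [Fin.zero_eta, Fin.mk_one, Fin.reduceFinMk] at step step' ⊢ <;>
      rw [mul_assoc, step 2] <;> simp only [mul_assoc, if_true, if_false, Fin.reduceEq] <;>
      rw [← mul_assoc (D.L.w 1)] <;> simp only [step, step', if_true, if_false, Fin.reduceEq] <;>
      simp only [mul_assoc] <;> rw [← mul_assoc (D.L.w 0)] <;>
      simp only [step, step', if_true, if_false, Fin.reduceEq] <;> simp only [mul_assoc]
  rw [h1, h2, S]
  have hWx := D.W_x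
  calc D.Δ * D.W * (D.L.δ l * D.L.δ i * D.x * (D.L.δ l * D.L.δ i)⁻¹) * (D.Δ * D.W)⁻¹
      = D.Δ * ((D.W * D.L.δ l) * D.L.δ i) * D.x * ((D.W * D.L.δ l) * D.L.δ i)⁻¹ * D.Δ⁻¹ := by group
    _ = D.Δ * ((D.L.δ l)⁻¹ * (D.W * D.L.δ i)) * D.x * ((D.L.δ l)⁻¹ * (D.W * D.L.δ i))⁻¹ * D.Δ⁻¹ := by
      rw [hW l hkl.symm, mul_assoc (D.L.δ l)⁻¹ D.W]
    _ = D.Δ * ((D.L.δ l)⁻¹ * (D.L.δ i)⁻¹ * D.W) * D.x * ((D.L.δ l)⁻¹ * (D.L.δ i)⁻¹ * D.W)⁻¹ * D.Δ⁻¹ := by
      rw [hW i hki.symm, ← mul_assoc (D.L.δ l)⁻¹]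
    _ = D.Δ * (D.L.δ l)⁻¹ * (D.L.δ i)⁻¹ * (D.W * D.x * D.W⁻¹) * (D.Δ * (D.L.δ l)⁻¹ * (D.L.δ i)⁻¹)⁻¹ := by group
    _ = D.Δ * (D.L.δ l)⁻¹ * (D.L.δ i)⁻¹ * D.x * (D.Δ * (D.L.δ l)⁻¹ * (D.L.δ i)⁻¹)⁻¹ := by
      rw [hWx.eq, mul_inv_cancel_right]
    _ = D.L.δ k * D.x * (D.L.δ k)⁻¹ := by
      rw [hΔ, (D.L.δ_comm l i).eq, ← mul_assoc (D.L.δ k), mul_inv_cancel_right, mul_inv_cancel_right]
    _ = _ := rfl

theorem c_w_self (i : Fin 3) : Commute (D.c i) (D.L.w i) := by
  have h : D.L.w i * D.c i * D.L.w i = D.c i := by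
    rw [c]
    calc D.L.w i * (D.a * (D.L.w i * D.a * D.L.w i)) * D.L.w i
        = (D.L.w i * D.a * D.L.w i) * D.a * (D.L.w i * D.L.w i) := by group
      _ = _ := by rw [D.L.w_sq, mul_one, (D.a_waw i).eq]
  refine (mul_inv_eq_iff_eq_mul.1 ?_ : D.L.w i * D.c i = D.c i * D.L.w i).symm
  rw [D.L.w_inv]; exact h

theorem e_w {k m : Fin 3} : Commute (D.e k) (D.L.w m) ↔ m ≠ k := by
  refine ⟨fun h hm => ?_, fun h => (D.w_e_ne h).symm⟩
  subst hm
  have := D.w_e_self m
  rw [← h.eq, mul_assoc, D.L.w_sq, mul_one] at this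
  exact D.pair.pre'.gen.ne_one (left_eq_mul.1 this)

variable {K : G} (hK : D.IsSwap K)

include hK

theorem wt_cases (i : Fin 3) : D.wt K i = D.L.w i ∨ D.wt K i = D.L.w i * t := by
  classical
  unfold wt; split_ifs
  exacts [Or.inl rfl, Or.inr rfl]

theorem wt_R (i : Fin 3) : D.wt K i ∈ D.R := by
  rcases D.wt_cases hK i with e | e <;> rw [e]
  exacts [D.w_mem_R i, mul_mem (D.w_mem_R i) D.t_memR]

theorem wt_t (i : Fin 3) : Commute (D.wt K i) t := by
  rcases D.wt_cases hK i with e | e <;> rw [e]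
  exacts [D.L.w_t i, (D.L.w_t i).mul_left (Commute.refl t)]

theorem wt_sq (i : Fin 3) : D.wt K i * D.wt K i = 1 := by
  rcases D.wt_cases hK i with e | e <;> rw [e]
  · exact D.L.w_sq i
  · calc D.L.w i * t * (D.L.w i * t) = D.L.w i * (t * D.L.w i) * t := by group
      _ = (D.L.w i * D.L.w i) * (t * t) := by rw [← (D.L.w_t i).eq]; group
      _ = 1 := by rw [D.L.w_sq, D.t_sq, one_mul]

theorem wt_inv (i : Fin 3) : (D.wt K i)⁻¹ = D.wt K i := inv_eq_of_mul_eq_one_right (D.wt_sq hK i)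

theorem wt_ph (i : Fin 3) : D.ph (D.wt K i) = hs i := by
  rcases D.wt_cases hK i with e | e <;> rw [e]
  · exact D.L.w_ph i
  · rw [D.ph_mul _ _ (D.L.w_t i) (Commute.refl t), D.L.w_ph, D.ph_of_mem D.pre.gen.mem, mul_one]

theorem wt_comm {y : G} (hy : Commute y t) (i : Fin 3) : Commute y (D.wt K i) ↔ Commute y (D.L.w i) := by
  rcases D.wt_cases hK i with e | e <;> rw [e]
  refine ⟨fun h => ?_, fun h => h.mul_right hy⟩
  have := h.mul_right hy
  rwa [mul_assoc, D.t_sq, mul_one] at this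

theorem wt_conj (y : G) (hy : Commute y t) (i : Fin 3) :
    D.wt K i * y * D.wt K i = D.L.w i * y * D.L.w i := by
  rcases D.wt_cases hK i with e | e <;> rw [e]
  calc D.L.w i * t * y * (D.L.w i * t) = D.L.w i * (t * y) * (D.L.w i * t) := by group
    _ = D.L.w i * (y * t) * (t * D.L.w i) := by rw [hy.eq, (D.L.w_t i).eq]
    _ = D.L.w i * y * (t * t) * D.L.w i := by group
    _ = _ := by rw [D.t_sq, mul_one]

theorem b_wt (i : Fin 3) : Commute (D.bb K) (D.wt K i) := by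
  classical
  unfold wt
  split_ifs with h
  · exact h
  rcases D.pair.pre'.gen.comm _ (D.b_mem hK) _ (D.w_mem_R i) with c | c
  · exact absurd (mul_inv_eq_iff_eq_mul.1 (mul_inv_eq_one.1 c)) h
  have h1 : D.bb K * D.L.w i = D.x * D.L.w i * D.bb K := by
    calc D.bb K * D.L.w i = D.bb K * D.L.w i * (D.bb K)⁻¹ * (D.L.w i)⁻¹ * (D.L.w i * D.bb K) := by group
      _ = _ := by rw [c]; simp only [Frame.x]; group
  have h2 : D.bb K * t = t * D.x * D.bb K := by
    rw [← D.b_t hK, mul_assoc _ (D.bb K) (D.bb K), D.b_sq hK, mul_one]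
  show D.bb K * (D.L.w i * t) = D.L.w i * t * D.bb K
  calc D.bb K * (D.L.w i * t) = D.x * D.L.w i * (D.bb K * t) := by rw [← mul_assoc, h1, mul_assoc]
    _ = D.x * D.L.w i * (t * D.x) * D.bb K := by rw [h2]; group
    _ = (D.x * (D.L.w i * t)) * D.x * D.bb K := by group
    _ = ((D.L.w i * t) * D.x) * D.x * D.bb K := by
      rw [(((D.w_x i).mul_left D.tx).symm).eq]
    _ = _ := by rw [mul_assoc _ D.x D.x, D.x_sq, mul_one]

theorem aba : D.a * D.bb K * D.a = D.bb K * D.a * D.bb K := by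
  have h := D.ab_cube hK
  have ha : D.a⁻¹ = D.a := D.a_inv
  have hb : (D.bb K)⁻¹ = D.bb K := D.b_inv hK
  calc D.a * D.bb K * D.a = D.a * D.bb K * (D.a * D.bb K) * (D.a * D.bb K) * ((D.bb K)⁻¹ * D.a⁻¹ * (D.bb K)⁻¹) := by
        group
    _ = _ := by rw [h, one_mul, ha, hb]

theorem awa (i : Fin 3) : D.a * D.wt K i * D.a = D.c i * D.wt K i := by
  have h := D.wt_conj hK D.a (D.comm_t D.a_mem) i
  rw [c, ← h]
  calc D.a * D.wt K i * D.a = D.a * D.wt K i * D.a * (D.wt K i * D.wt K i) := by rw [D.wt_sq hK, mul_one]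
    _ = _ := by group

theorem β_R (i : Fin 3) : D.β K i ∈ D.R := by
  have h := D.pair.pre'.conj_mem (D.c_x i).eq (D.b_mem hK)
  rw [D.c_inv] at h
  exact mul_mem h (D.b_mem hK)

theorem β_t (i : Fin 3) : Commute (D.β K i) t := by
  have hc : ∀ {z}, Commute (D.c i) z → D.c i * z * D.c i = z := fun {z} h => by
    rw [h.eq, mul_assoc, D.c_sq, mul_one]
  refine mul_inv_eq_iff_eq_mul.1 ?_
  rw [β]
  calc D.c i * D.bb K * D.c i * D.bb K * t * (D.c i * D.bb K * D.c i * D.bb K)⁻¹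
      = D.c i * D.bb K * D.c i * (D.bb K * t * (D.bb K)⁻¹) * (D.c i)⁻¹ * (D.bb K)⁻¹ * (D.c i)⁻¹ := by group
    _ = D.c i * (D.bb K * (D.c i * (t * D.x) * D.c i) * D.bb K) * D.c i := by
      rw [D.b_inv hK, D.c_inv, D.b_t hK]; group
    _ = D.c i * ((D.bb K * t) * (D.x * D.bb K)) * D.c i := by
      rw [hc ((D.comm_t (D.c_mem i)).mul_right (D.c_x i))]; group
    _ = D.c i * (D.bb K * t * D.bb K * D.x) * D.c i := by rw [← (D.b_x hK).eq]; group
    _ = D.c i * t * D.c i := by rw [D.b_t hK, mul_assoc t, D.x_sq, mul_one]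
    _ = t := hc (D.comm_t (D.c_mem i))

theorem n_R (i : Fin 3) : D.nn K i ∈ D.R := mul_mem (D.β_R hK i) (D.wt_R hK i)

theorem n_t (i : Fin 3) : Commute (D.nn K i) t := (D.β_t hK i).mul_left (D.wt_t hK i)

theorem n_a (i : Fin 3) : Commute (D.nn K i) D.a := by
  set a := D.a with hadef
  set b := D.bb K with hbdef
  set w := D.wt K i with hwdef
  set c := D.c i with hcdef
  have hw : b * w * b = w := by
    rw [hbdef, hwdef, (D.b_wt hK i).eq, mul_assoc, D.b_sq hK, mul_one]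
  have hkey : a * (c * D.β K i * w) * a = c * D.β K i * w := by
    have hcβ : b * c * b = c * D.β K i := by
      rw [β, ← hbdef, ← hcdef]
      calc b * c * b = (c * c) * b * c * b := by rw [D.c_sq, one_mul]
        _ = _ := by group
    have r1 : b * (a * w * a) * b = c * D.β K i * w := by
      rw [D.awa hK i, ← hcdef, ← hwdef, ← hcβ]
      calc b * (c * w) * b = b * c * (b * b) * w * b := by rw [D.b_sq hK, mul_one]; group
        _ = b * c * b * (b * w * b) := by group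
        _ = _ := by rw [hw]
    calc a * (c * D.β K i * w) * a = a * (b * (a * w * a) * b) * a := by rw [r1]
      _ = (a * b * a) * w * (a * b * a) := by group
      _ = (b * a * b) * w * (b * a * b) := by rw [D.aba hK]
      _ = b * (a * (b * w * b) * a) * b := by group
      _ = _ := by rw [hw, r1]
  have hca : a * c = c * a := by
    rw [hcdef, Good.c, ← hadef, mul_assoc a _ a, ← (D.a_waw i).eq]
  refine (mul_inv_eq_iff_eq_mul.1 ?_ : a * D.nn K i = D.nn K i * a).symm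
  rw [D.a_inv]
  calc a * D.nn K i * a = c⁻¹ * ((c * a) * (D.β K i * w) * a) := by rw [nn, ← hwdef]; group
    _ = c⁻¹ * ((a * c) * (D.β K i * w) * a) := by rw [hca]
    _ = c⁻¹ * (a * (c * D.β K i * w) * a) := by group
    _ = _ := by rw [hkey, nn, ← hwdef]; group

theorem n_Q (i : Fin 3) : D.nn K i ∈ D.Q := by
  refine D.inj_a (D.n_R hK i) (D.n_t hK i) ?_
  rw [← (D.n_a hK i).eq, mul_inv_cancel_right, mul_inv_cancel]
  exact one_mem _

theorem β_ph (i : Fin 3) : D.ph (D.β K i) = hs i := by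
  have h : D.β K i = D.nn K i * (D.wt K i)⁻¹ := by rw [nn, mul_inv_cancel_right]
  rw [h, D.ph_mul _ _ (D.n_t hK i) (D.wt_t hK i).inv_left, D.ph_inv (D.wt_t hK i), D.ph_of_mem (D.n_Q hK i),
    D.wt_ph hK, one_mul, inv_eq_of_mul_eq_one_right (hs_sq i)]

theorem cbc_comm (i j : Fin 3) :
    Commute (D.c i * D.bb K * D.c i) (D.c j * D.bb K * D.c j) ∧ Commute (D.bb K) (D.c i * D.bb K * D.c i) := by
  set φ := D.a * D.bb K with hφ
  have hφa : φ * D.a * φ⁻¹ = D.bb K := by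
    rw [hφ, mul_inv_rev, D.a_inv, D.b_inv hK]
    calc D.a * D.bb K * D.a * (D.bb K * D.a)
        = D.bb K * D.a * (D.bb K * D.bb K) * D.a := by rw [D.aba hK]; group
      _ = _ := by rw [D.b_sq hK, mul_one, mul_assoc, D.a_sq, mul_one]
  have hα : ∀ i, φ * (D.bb K * D.c i * D.bb K) * φ⁻¹ = D.c i := fun i => by
    rw [hφ, mul_inv_rev, D.a_inv, D.b_inv hK]
    calc D.a * D.bb K * (D.bb K * D.c i * D.bb K) * (D.bb K * D.a)
        = D.a * (D.bb K * D.bb K) * D.c i * (D.bb K * D.bb K) * D.a := by group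
      _ = D.a * D.c i * D.a := by rw [D.b_sq hK, mul_one, mul_one]
      _ = D.c i * (D.a * D.a) := by
        rw [Good.c]
        calc D.a * (D.a * (D.L.w i * D.a * D.L.w i)) * D.a
            = D.a * D.a * ((D.L.w i * D.a * D.L.w i) * D.a) := by group
          _ = D.a * D.a * (D.a * (D.L.w i * D.a * D.L.w i)) := by rw [(D.a_waw i).eq]
          _ = _ := by rw [D.a_sq, one_mul, mul_one]
      _ = D.c i := by rw [D.a_sq, mul_one]
  -- the pulled back elements
  have hy : ∀ i, ∃ y, (y = D.L.w i * D.a * D.L.w i ∨ y = D.L.w i * D.a * D.L.w i * t) ∧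
      φ * y * φ⁻¹ = D.c i * D.bb K * D.c i := by
    intro i
    set α := D.bb K * D.c i * D.bb K with hαdef
    have hαc : α = D.c i * D.β K i := by
      rw [hαdef, β]
      calc D.bb K * D.c i * D.bb K = (D.c i * D.c i) * D.bb K * D.c i * D.bb K := by rw [D.c_sq, one_mul]
        _ = _ := by group
    have hct : Commute (D.c i) t := D.comm_t (D.c_mem i)
    have hαt : Commute α t := hαc ▸ hct.mul_left (D.β_t hK i)
    have hαph : D.ph α = hs i := by
      rw [hαc, D.ph_mul _ _ hct (D.β_t hK i), D.ph_of_mem (D.c_mem i), D.β_ph hK, one_mul]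
    have hαi : α⁻¹ = α := by
      rw [hαdef, mul_inv_rev, mul_inv_rev, D.b_inv hK, D.c_inv, mul_assoc]
    refine ⟨α * D.a * α⁻¹, D.eq_or (D.waw_mem i) (D.conj_mem hαt D.a_mem) ?_, ?_⟩
    · rw [D.cls_conj α hαt _ D.a_mem, hαph]
      conv_lhs => rw [show D.L.w i * D.a * D.L.w i = D.L.w i * D.a * (D.L.w i)⁻¹ by rw [D.L.w_inv]]
      rw [D.cls_conj _ (D.L.w_t i) _ D.a_mem, D.L.w_ph]
    · calc φ * (α * D.a * α⁻¹) * φ⁻¹ = (φ * α * φ⁻¹) * (φ * D.a * φ⁻¹) * (φ * α * φ⁻¹)⁻¹ := by group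
        _ = _ := by rw [hφa, hα, D.c_inv]
  obtain ⟨y, hy1, hy2⟩ := hy i
  obtain ⟨y', hy1', hy2'⟩ := hy j
  have ct : ∀ i, Commute (D.L.w i * D.a * D.L.w i) t := fun i => D.comm_t (D.waw_mem i)
  have ha : ∀ {i y}, (y = D.L.w i * D.a * D.L.w i ∨ y = D.L.w i * D.a * D.L.w i * t) → Commute D.a y := by
    rintro i y (e | e) <;> rw [e]
    exacts [D.a_waw i, (D.a_waw i).mul_right (D.comm_t D.a_mem)]
  have hww : Commute (D.L.w i * D.a * D.L.w i) (D.L.w j * D.a * D.L.w j) := by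
    obtain ⟨k, hki, hkj⟩ := exists_third i j
    exact D.comm_of_u (D.waw_mem i) (D.waw_mem j) (D.waw_u hki.symm) (D.waw_u hkj.symm)
  have hyy : Commute y y' := by
    rcases hy1 with e | e <;> rcases hy1' with e' | e' <;> rw [e, e']
    exacts [hww, hww.mul_right (ct i), hww.mul_left (ct j).symm,
      (hww.mul_right (ct i)).mul_left ((ct j).symm.mul_right (Commute.refl t))]
  refine ⟨?_, ?_⟩
  · rw [← hy2, ← hy2']; exact (Commute.conj_iff φ).2 hyy
  · rw [← hy2, ← hφa]; exact (Commute.conj_iff φ).2 (ha hy1)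

theorem β_comm (i j : Fin 3) : Commute (D.β K i) (D.β K j) :=
  ((D.cbc_comm hK i j).1.mul_right (D.cbc_comm hK i i).2.symm).mul_left
    ((D.cbc_comm hK j j).2.mul_right (Commute.refl _))

theorem β_sq (i : Fin 3) : D.β K i * D.β K i = 1 := by
  have h := (D.cbc_comm hK i i).2
  rw [β]
  calc D.c i * D.bb K * D.c i * D.bb K * (D.c i * D.bb K * D.c i * D.bb K)
      = D.c i * D.bb K * D.c i * (D.bb K * (D.c i * D.bb K * D.c i)) * D.bb K := by group
    _ = D.c i * D.bb K * D.c i * ((D.c i * D.bb K * D.c i) * D.bb K) * D.bb K := by rw [h.eq]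
    _ = D.c i * D.bb K * (D.c i * D.c i) * D.bb K * D.c i * (D.bb K * D.bb K) := by group
    _ = D.c i * D.bb K * D.bb K * D.c i := by rw [D.c_sq, D.b_sq hK, mul_one, mul_one]
    _ = D.c i * (D.bb K * D.bb K) * D.c i := by group
    _ = 1 := by rw [D.b_sq hK, mul_one, D.c_sq]

theorem β_inv (i : Fin 3) : (D.β K i)⁻¹ = D.β K i := inv_eq_of_mul_eq_one_right (D.β_sq hK i)

theorem n_self (i : Fin 3) : Commute (D.nn K i) (D.L.w i) := by
  refine (D.wt_comm hK (D.n_t hK i) i).1 (Commute.mul_left ?_ (Commute.refl _))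
  exact Base.commute_of_sq D.toBase (D.β_sq hK i) (D.wt_sq hK i) (D.E_sq (D.n_Q hK i) (D.n_R hK i))

theorem n_symm {i j : Fin 3} (h : Commute (D.nn K i) (D.L.w j)) : Commute (D.nn K j) (D.L.w i) := by
  have hwij : Commute (D.wt K i) (D.wt K j) :=
    (D.wt_comm hK (D.wt_t hK i) j).2 (((D.wt_comm hK (D.L.w_t j) i).2 (D.L.w_comm j i)).symm)
  have hβ : ∀ l, D.β K l = D.nn K l * (D.wt K l)⁻¹ := fun l => by rw [nn, mul_inv_cancel_right]
  have h1 : Commute (D.β K i) (D.wt K j) := by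
    rw [hβ]; exact ((D.wt_comm hK (D.n_t hK i) j).2 h).mul_left hwij.inv_left
  have h2 : Commute (D.β K i) (D.nn K j) := (D.β_comm hK i j).mul_right h1
  have h3 : Commute (D.nn K i) (D.nn K j) := D.E_commute (D.n_Q hK i) (D.n_R hK i) (D.n_Q hK j) (D.n_R hK j)
  have h4 : Commute (D.wt K i) (D.nn K j) := by
    have : D.wt K i = (D.β K i)⁻¹ * D.nn K i := by rw [nn, inv_mul_cancel_left]
    rw [this]; exact h2.inv_left.mul_left h3
  exact (D.wt_comm hK (D.n_t hK j) i).1 h4.symm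

theorem swap_flip (l : Fin 3) : D.IsSwap (D.c l * K) := by
  constructor
  · calc D.c l * K * t * (D.c l * K)⁻¹ = D.c l * (K * t * K⁻¹) * (D.c l)⁻¹ := by group
      _ = _ := by rw [hK.1, (D.c_x l).eq, mul_inv_cancel_right]
  · calc D.c l * K * D.x * (D.c l * K)⁻¹ = D.c l * (K * D.x * K⁻¹) * (D.c l)⁻¹ := by group
      _ = _ := by rw [hK.2, (D.comm_t (D.c_mem l)).eq, mul_inv_cancel_right]

theorem flip_β (l i : Fin 3) : D.β (D.c l * K) i = D.c l * D.β K i * D.c l := by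
  have hbb : D.bb (D.c l * K) = D.c l * D.bb K * D.c l := by
    rw [bb, bb, mul_inv_rev, D.c_inv]; group
  rw [β, hbb, β]
  calc D.c i * (D.c l * D.bb K * D.c l) * D.c i * (D.c l * D.bb K * D.c l)
      = (D.c i * D.c l) * D.bb K * (D.c l * D.c i) * D.c l * D.bb K * D.c l := by group
    _ = (D.c l * D.c i) * D.bb K * (D.c i * D.c l) * D.c l * D.bb K * D.c l := by
      rw [(D.c_comm i l).eq]
    _ = D.c l * D.c i * D.bb K * D.c i * (D.c l * D.c l) * D.bb K * D.c l := by group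
    _ = _ := by rw [D.c_sq, mul_one]; group

theorem flip_n (l i m : Fin 3) :
    Commute (D.nn (D.c l * K) i) (D.L.w m) ↔
      if ∃ k, k ≠ i ∧ k ≠ l ∧ i ≠ l ∧ m = k then ¬ Commute (D.nn K i) (D.L.w m)
      else Commute (D.nn K i) (D.L.w m) := by
  classical
  have hK' := D.swap_flip hK l
  have hE : ∀ {y}, y ∈ D.Q → y ∈ D.R → (Commute y (D.L.w m) ↔ D.r (hs m) (D.cls y) = D.cls y) := by
    intro y hy hyR
    constructor
    · intro h
      rw [← D.L.w_ph m, ← D.cls_conj _ (D.L.w_t m) _ hy, ← h.eq, mul_inv_cancel_right]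
    · exact fun h => (D.toFrame.commute_fixed (D.L.w_t m) (D.L.w_sq m) (i := m) (by rw [D.L.w_ph, hs_hd]) hy
        (D.E_sq hy hyR) (by rw [D.L.w_ph]; exact h)).symm
  -- the correction term
  set z := D.c l * D.L.w i * D.c l * D.L.w i with hz
  have hn' : D.nn (D.c l * K) i = (D.c l * D.nn K i * (D.c l)⁻¹) * (D.c l * D.wt K i * D.c l * D.wt (D.c l * K) i) := by
    rw [nn, D.flip_β hK, nn, D.c_inv]
    symm
    calc D.c l * (D.β K i * D.wt K i) * D.c l * (D.c l * D.wt K i * D.c l * D.wt (D.c l * K) i)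
        = D.c l * D.β K i * D.wt K i * (D.c l * D.c l) * D.wt K i * D.c l * D.wt (D.c l * K) i := by group
      _ = D.c l * D.β K i * (D.wt K i * D.wt K i) * D.c l * D.wt (D.c l * K) i := by
        rw [D.c_sq, mul_one]; group
      _ = _ := by rw [D.wt_sq hK, mul_one]
  have hzm : z ∈ D.Q ∧ z ∈ D.R := by
    have h1 := D.conj_mem (D.L.w_t i) (D.c_mem l)
    rw [D.L.w_inv] at h1
    refine ⟨?_, ?_⟩
    · rw [hz, mul_assoc (D.c l * D.L.w i), mul_assoc (D.c l), ← mul_assoc (D.L.w i)]; exact mul_mem (D.c_mem l) h1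
    · have h2 := D.pair.pre'.conj_mem (D.c_x l).eq (D.w_mem_R i)
      rw [D.c_inv] at h2
      exact mul_mem h2 (D.w_mem_R i)
  have hcls : D.cls (D.nn (D.c l * K) i) = D.cls (D.nn K i) + D.cls z := by
    have h1 := D.conj_mem (D.comm_t (D.c_mem l)) (D.n_Q hK i)
    have h2 : D.c l * D.wt K i * D.c l * D.wt (D.c l * K) i = z ∨
        D.c l * D.wt K i * D.c l * D.wt (D.c l * K) i = z * t := by
      have ct : Commute (D.c l) t := D.comm_t (D.c_mem l)
      have wtc : Commute (D.L.w i) t := D.L.w_t i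
      rcases D.wt_cases hK i with a | a <;> rcases D.wt_cases hK' i with b | b <;> rw [a, b, hz]
      · exact Or.inl rfl
      · exact Or.inr (by group)
      · right
        calc D.c l * (D.L.w i * t) * D.c l * D.L.w i = D.c l * D.L.w i * (t * (D.c l * D.L.w i)) := by group
          _ = D.c l * D.L.w i * ((D.c l * D.L.w i) * t) := by rw [(ct.mul_left wtc).eq]
          _ = _ := by group
      · left
        calc D.c l * (D.L.w i * t) * D.c l * (D.L.w i * t) = D.c l * D.L.w i * (t * (D.c l * D.L.w i)) * t := by group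
          _ = D.c l * D.L.w i * ((D.c l * D.L.w i) * t) * t := by rw [(ct.mul_left wtc).eq]
          _ = D.c l * D.L.w i * D.c l * D.L.w i * (t * t) := by group
          _ = _ := by rw [D.t_sq, mul_one]
    rw [hn']
    rcases h2 with e | e <;> rw [e]
    · rw [D.cls_mul _ h1 _ hzm.1, D.cls_conj _ (D.comm_t (D.c_mem l)) _ (D.n_Q hK i), D.ph_of_mem (D.c_mem l),
        D.r_one]
    · rw [D.cls_mul _ h1 _ (mul_mem hzm.1 D.pre.gen.mem), D.cls_mul_t hzm.1,
        D.cls_conj _ (D.comm_t (D.c_mem l)) _ (D.n_Q hK i), D.ph_of_mem (D.c_mem l), D.r_one]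
  rw [hE (D.n_Q hK' i) (D.n_R hK' i), hcls, map_add, hE (D.n_Q hK i) (D.n_R hK i)]
  by_cases hil : i = l
  · rw [if_neg (fun ⟨k, _, _, h, _⟩ => h hil)]
    have hz1 : z = 1 := by
      rw [hz, hil, (D.c_w_self l).eq, mul_assoc _ (D.c l) (D.c l), D.c_sq, mul_one, D.L.w_sq]
    rw [hz1, D.cls_one, map_zero, add_zero, add_zero]
  obtain ⟨k, hki, hkl⟩ := exists_third i l
  have hzk : z = D.e k := D.c_w hil hki hkl
  have hkk : ∀ k', k' ≠ i → k' ≠ l → k' = k :=
    (by decide : ∀ i l k : Fin 3, i ≠ l → k ≠ i → k ≠ l → ∀ k', k' ≠ i → k' ≠ l → k' = k) i l k hil hki hkl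
  rw [hzk]
  by_cases hm : m = k
  · rw [if_pos ⟨k, hki, hkl, hil, hm⟩, hm, D.e_ph]
    have hn := D.toFrame.cube
    rcases (show D.r (hs k) (D.cls (D.nn K i)) = D.cls (D.nn K i) ∨
        D.r (hs k) (D.cls (D.nn K i)) = D.cls (D.nn K i) + D.vx by
      rcases D.pair.pre'.gen.comm _ (D.w_mem_R k) _ (D.n_R hK i) with c | c
      · left
        rw [← D.L.w_ph k, ← D.cls_conj _ (D.L.w_t k) _ (D.n_Q hK i), mul_inv_eq_one.1 c]
      · right
        rw [← D.L.w_ph k, ← D.cls_conj _ (D.L.w_t k) _ (D.n_Q hK i), mul_inv_eq_iff_eq_mul.1 c,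
          D.cls_mul _ D.x_mem _ (D.n_Q hK i), add_comm]
        rfl) with e | e
    · rw [e, ← add_assoc]
      simp [D.vx_ne]
    · rw [e]
      constructor
      · intro _ h
        exact D.vx_ne (add_eq_left.1 h)
      · intro _
        rw [add_comm (D.cls (D.e k)) D.vx, add_assoc, ← add_assoc D.vx, D.two, zero_add]
  · rw [if_neg (fun ⟨k', a, b, _, c⟩ => hm (c.trans (hkk k' a b)))]
    have : D.r (hs m) (D.cls (D.e k)) = D.cls (D.e k) := (hE (D.e_mem k) (D.e_R k)).1 (D.e_w.2 hm)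
    rw [this, add_left_inj]

end Good

end CfsgLib.O8Plus
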